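import Cfsg.Agent.Lib.Helper2.CDL
import Cfsg.Prelude.Def_PLocal

set_option autoImplicit false

namespace Cfsg.Agent.Lib.Helper2

open Subgroup Cfsg
open scoped Pointwise

section CDASec

variable {S : Type*} [Group S]

theorem isMulCommutative_of_le_centralizer {H : Subgroup S} (h : H ≤ centralizer (H : Set S)) :
    IsMulCommutative ↥H :=
  ⟨⟨fun a b => Subtype.ext ((mem_centralizer_iff.mp (h b.2)) a a.2)⟩⟩

theorem le_centralizer_of_isMulCommutative {H : Subgroup S} (h : IsMulCommutative ↥H) :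
    H ≤ centralizer (H : Set S) := by
  intro x hx
  rw [mem_centralizer_iff]
  intro y hy
  have := h.is_comm.comm ⟨y, hy⟩ ⟨x, hx⟩
  exact congrArg Subtype.val this

variable [Finite S]

theorem centralizer_eq_of_mem_maxAbelian {A : Subgroup S} (hA : A ∈ maxAbelianSubgroups S) :
    centralizer (A : Set S) = A := by
  have hAc := le_centralizer_of_isMulCommutative hA.1
  apply le_antisymm _ hAc
  intro x hx
  have h1 : A ⊔ zpowers x ≤ centralizer ((A ⊔ zpowers x : Subgroup S) : Set S) := by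
    rw [centralizer_sup_eq]
    have hz : zpowers x ≤ centralizer (A : Set S) := zpowers_le.mpr hx
    refine sup_le (le_inf hAc (le_centralizer_iff.mp hz)) (le_inf hz ?_)
    exact le_centralizer_of_isMulCommutative (zpowers_isMulCommutative x)
  have h2 := hA.2 _ (isMulCommutative_of_le_centralizer h1)
  have h3 : A = A ⊔ zpowers x := Subgroup.eq_of_le_of_card_ge le_sup_left h2
  rw [h3]; exact (le_sup_right : zpowers x ≤ _) (mem_zpowers x)

theorem cl_sup_maxAbelian {Q A : Subgroup S} (hQ : IsCentrallyLarge Q)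
    (hA : A ∈ maxAbelianSubgroups S) :
    ((Q ⊔ A : Subgroup S) : Set S) = (Q : Set S) * (A : Set S) ∧ IsCentrallyLarge (Q ⊔ A) ∧
    (A ⊓ Q) ⊔ centralizer (Q : Set S) ∈ maxAbelianSubgroups S ∧
    Nat.card ((A ⊓ Q) ⊔ centralizer (Q : Set S) : Subgroup S) = Nat.card A ∧
    (((A ⊓ Q) ⊔ centralizer (Q : Set S) : Subgroup S) : Set S) =
      ((A ⊓ Q : Subgroup S) : Set S) * (centralizer (Q : Set S) : Set S) := by
  obtain ⟨hQ1, hQ2⟩ := isCentralizerLarge_of_isCentrallyLarge hQ
  have hQ1' : cdm Q = maxCentralizerProduct S := hQ1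
  have hCA := centralizer_eq_of_mem_maxAbelian hA
  have hAc := le_centralizer_of_isMulCommutative hA.1
  have hCC : centralizer (Q : Set S) ≤ centralizer ((centralizer (Q : Set S) : Subgroup S) : Set S) :=
    centralizer_le (by exact_mod_cast hQ2)
  have hQCC : Q ≤ centralizer ((centralizer (Q : Set S) : Subgroup S) : Set S) :=
    le_centralizer_iff.mp le_rfl
  have hBab : (A ⊓ Q) ⊔ centralizer (Q : Set S) ≤
      centralizer (((A ⊓ Q) ⊔ centralizer (Q : Set S) : Subgroup S) : Set S) := by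
    rw [centralizer_sup_eq]
    refine sup_le (le_inf ?_ ?_) (le_inf ?_ hCC)
    · exact inf_le_left.trans (hAc.trans (centralizer_le (by exact_mod_cast (inf_le_left : A ⊓ Q ≤ A))))
    · exact inf_le_right.trans hQCC
    · exact centralizer_le (by exact_mod_cast (inf_le_right : A ⊓ Q ≤ Q))
  have hBcard : Nat.card ((A ⊓ Q) ⊔ centralizer (Q : Set S) : Subgroup S) ≤ Nat.card A :=
    hA.2 _ (isMulCommutative_of_le_centralizer hBab)
  have hinf : (A ⊓ Q) ⊓ centralizer (Q : Set S) = A ⊓ centralizer (Q : Set S) := by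
    rw [inf_assoc, inf_eq_right.mpr hQ2]
  have p1 := card_mul_le_card_sup_mul_card_inf (A ⊓ Q) (centralizer (Q : Set S))
  rw [hinf] at p1
  have p2 := card_mul_le_card_sup_mul_card_inf Q A
  rw [inf_comm Q A] at p2
  have p3 := cdm_le_maxCentralizerProduct (Q ⊔ A)
  have hcdm : cdm (Q ⊔ A) = Nat.card (Q ⊔ A : Subgroup S) *
      Nat.card (A ⊓ centralizer (Q : Set S) : Subgroup S) := by
    unfold cdm
    rw [centralizer_sup_eq, hCA, inf_comm]
  rw [hcdm] at p3
  unfold cdm at hQ1'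
  set a := Nat.card (Q ⊔ A : Subgroup S) with ha
  set b := Nat.card (A ⊓ Q : Subgroup S) with hb
  set c := Nat.card (A ⊓ centralizer (Q : Set S) : Subgroup S) with hc
  set q := Nat.card Q with hq
  set k := Nat.card A with hk
  set cq := Nat.card (centralizer (Q : Set S)) with hcq
  set bb := Nat.card ((A ⊓ Q) ⊔ centralizer (Q : Set S) : Subgroup S) with hbb
  set f₁ := maxCentralizerProduct S with hf₁
  have hb0 : 0 < b := Nat.card_pos
  have hc0 : 0 < c := Nat.card_pos
  have hq0 : 0 < q := Nat.card_pos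
  have e1 : (a * c) * b ≤ f₁ * b := Nat.mul_le_mul_right b p3
  have e2 : f₁ * b = q * (b * cq) := by rw [← hQ1']; ring
  have e3 : q * (b * cq) ≤ q * (bb * c) := Nat.mul_le_mul_left q p1
  have e4 : q * (bb * c) ≤ q * (k * c) := Nat.mul_le_mul_left q (Nat.mul_le_mul_right c hBcard)
  have e5 : q * (k * c) = (q * k) * c := by ring
  have e6 : (q * k) * c ≤ (a * b) * c := Nat.mul_le_mul_right c p2
  have e7 : (a * b) * c = (a * c) * b := by ring
  have t1 : a * c = f₁ := Nat.eq_of_mul_eq_mul_right hb0 (by omega)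
  have t2 : b * cq = bb * c := Nat.eq_of_mul_eq_mul_left hq0 (by omega)
  have t3 : bb = k := by
    have : bb * c = k * c := Nat.eq_of_mul_eq_mul_left hq0 (by omega)
    exact Nat.eq_of_mul_eq_mul_right hc0 this
  have t4 : q * k = a * b := Nat.eq_of_mul_eq_mul_right hc0 (by omega)
  have hcl : cdm (Q ⊔ A) = maxCentralizerProduct S := by rw [hcdm]; exact t1
  refine ⟨?_, ?_, ?_, t3, ?_⟩
  · apply coe_sup_eq_mul_of_card_eq Q A
    rw [inf_comm Q A]; exact t4.symm
  · refine (isCentrallyLarge_iff_of_isCentralizerLarge hcl).mpr ?_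
    rw [centralizer_sup_eq]
    exact (inf_le_left.trans hQ2).trans le_sup_left
  · refine ⟨isMulCommutative_of_le_centralizer hBab, fun B' hB' => ?_⟩
    have := hA.2 B' hB'
    omega
  · apply coe_sup_eq_mul_of_card_eq (A ⊓ Q) (centralizer (Q : Set S))
    rw [hinf]; exact t2.symm

theorem cl_maxAbelian_centralizer {Q A : Subgroup S} (hQ : IsCentrallyLarge Q)
    (hA : A ∈ maxAbelianSubgroups S) :
    (Q ⊔ A) ⊓ centralizer ((Q ⊓ A : Subgroup S) : Set S) = (Q ⊓ centralizer (Q : Set S)) ⊔ A ∧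
    (((Q ⊓ centralizer (Q : Set S)) ⊔ A : Subgroup S) : Set S) =
      ((Q ⊓ centralizer (Q : Set S) : Subgroup S) : Set S) * (A : Set S) := by
  obtain ⟨ha, -, hc, -, hd⟩ := cl_sup_maxAbelian hQ hA
  obtain ⟨hQ1, hQ2⟩ := isCentralizerLarge_of_isCentrallyLarge hQ
  have hZq : Q ⊓ centralizer (Q : Set S) = centralizer (Q : Set S) := inf_eq_right.mpr hQ2
  rw [hZq]
  have hCB := centralizer_eq_of_mem_maxAbelian hc
  have hAc := le_centralizer_of_isMulCommutative hA.1
  have hsub1 : (((Q ⊔ A) ⊓ centralizer ((Q ⊓ A : Subgroup S) : Set S) : Subgroup S) : Set S) ⊆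
      (centralizer (Q : Set S) : Set S) * (A : Set S) := by
    intro x hx
    have hx1 : x ∈ ((Q ⊔ A : Subgroup S) : Set S) := (Subgroup.mem_inf.mp hx).1
    have hx2 : x ∈ centralizer ((Q ⊓ A : Subgroup S) : Set S) := (Subgroup.mem_inf.mp hx).2
    rw [ha] at hx1
    obtain ⟨q, hq, a, haA, rfl⟩ := Set.mem_mul.mp hx1
    have haC : a ∈ centralizer ((Q ⊓ A : Subgroup S) : Set S) :=
      (centralizer_le (by exact_mod_cast (inf_le_right : Q ⊓ A ≤ A))) (hAc haA)
    have hqC : q ∈ centralizer ((Q ⊓ A : Subgroup S) : Set S) := by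
      have := mul_mem hx2 (inv_mem haC)
      have e : q * a * a⁻¹ = q := by group
      rwa [e] at this
    have hqCC : q ∈ centralizer ((centralizer (Q : Set S) : Subgroup S) : Set S) :=
      (le_centralizer_iff.mp le_rfl : Q ≤ _) hq
    have hqB : q ∈ (A ⊓ Q) ⊔ centralizer (Q : Set S) := by
      rw [← hCB, centralizer_sup_eq, inf_comm A Q]
      exact Subgroup.mem_inf.mpr ⟨hqC, hqCC⟩
    have hqB' : q ∈ (((A ⊓ Q) ⊔ centralizer (Q : Set S) : Subgroup S) : Set S) := hqB
    rw [hd] at hqB'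
    obtain ⟨b, hb', z, hz, rfl⟩ := Set.mem_mul.mp hqB'
    have hbQ : b ∈ Q := (Subgroup.mem_inf.mp hb').2
    have hbA : b ∈ A := (Subgroup.mem_inf.mp hb').1
    have hbz : b * z = z * b := (mem_centralizer_iff.mp hz) b hbQ
    refine Set.mem_mul.mpr ⟨z, hz, b * a, mul_mem hbA haA, ?_⟩
    rw [← mul_assoc, ← hbz]
  have hsub2 := mul_subset_sup' (centralizer (Q : Set S)) A
  have hsub3 : centralizer (Q : Set S) ⊔ A ≤
      (Q ⊔ A) ⊓ centralizer ((Q ⊓ A : Subgroup S) : Set S) := by
    refine sup_le (le_inf (hQ2.trans le_sup_left)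
      (centralizer_le (by exact_mod_cast (inf_le_left : Q ⊓ A ≤ Q))))
      (le_inf le_sup_right (hAc.trans (centralizer_le (by exact_mod_cast (inf_le_right : Q ⊓ A ≤ A)))))
  constructor
  · apply le_antisymm _ hsub3
    intro x hx; exact hsub2 (hsub1 hx)
  · apply Set.Subset.antisymm _ hsub2
    intro x hx; exact hsub1 (hsub3 hx)

theorem isCentrallyLarge_sup_thompsonA {Q : Subgroup S} (hQ : IsCentrallyLarge Q) :
    IsCentrallyLarge (Q ⊔ thompsonSubgroupA S) := by
  classical
  haveI : Nonempty {L : Subgroup S // IsCentrallyLarge L ∧ Q ≤ L ∧ L ≤ Q ⊔ thompsonSubgroupA S} :=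
    ⟨⟨Q, hQ, le_rfl, le_sup_left⟩⟩
  obtain ⟨⟨M, hM1, hM2, hM3⟩, hMmax⟩ := Finite.exists_max
    (fun L : {L : Subgroup S // IsCentrallyLarge L ∧ Q ≤ L ∧ L ≤ Q ⊔ thompsonSubgroupA S} =>
      Nat.card (L : Subgroup S))
  have hJ : thompsonSubgroupA S ≤ M := by
    unfold thompsonSubgroupA
    apply sSup_le
    intro A hA
    have hAle : A ≤ Q ⊔ thompsonSubgroupA S := (le_sSup hA).trans le_sup_right
    have h1 := hMmax ⟨M ⊔ A, (cl_sup_maxAbelian hM1 hA).2.1, hM2.trans le_sup_left, sup_le hM3 hAle⟩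
    have h2 : M = M ⊔ A := Subgroup.eq_of_le_of_card_ge le_sup_left h1
    rw [h2]; exact le_sup_right
  have : M = Q ⊔ thompsonSubgroupA S := le_antisymm hM3 (sup_le hM2 hJ)
  rw [← this]; exact hM1

theorem centralizer_center_thompsonA_le {Q : Subgroup S} (hQ : IsCentrallyLarge Q)
    (hne : (maxAbelianSubgroups S).Nonempty) :
    centralizer ((thompsonSubgroupA S ⊓ centralizer (thompsonSubgroupA S : Set S) : Subgroup S) : Set S) ≤
      Q ⊔ thompsonSubgroupA S := by
  have hQs := isCentrallyLarge_sup_thompsonA hQ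
  obtain ⟨hQ1, hQ2⟩ := isCentralizerLarge_of_isCentrallyLarge hQs
  have hQ1' : cdm (Q ⊔ thompsonSubgroupA S) = maxCentralizerProduct S := hQ1
  have hCCQ := (cd_centralizer cdm_le_maxCentralizerProduct hQ1').2
  have hall : ∀ A ∈ maxAbelianSubgroups S,
      centralizer ((Q ⊔ thompsonSubgroupA S : Subgroup S) : Set S) ≤ A := by
    intro A hA
    obtain ⟨-, -, -, hcard, -⟩ := cl_sup_maxAbelian hQs hA
    have hAle : A ≤ Q ⊔ thompsonSubgroupA S := (le_sSup hA).trans le_sup_right
    rw [inf_eq_left.mpr hAle] at hcard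
    have h2 : A = A ⊔ centralizer ((Q ⊔ thompsonSubgroupA S : Subgroup S) : Set S) :=
      Subgroup.eq_of_le_of_card_ge le_sup_left hcard.le
    rw [h2]; exact le_sup_right
  have h1 : centralizer ((Q ⊔ thompsonSubgroupA S : Subgroup S) : Set S) ≤ thompsonSubgroupA S := by
    obtain ⟨A, hA⟩ := hne
    exact (hall A hA).trans (le_sSup hA)
  have h2 : centralizer ((Q ⊔ thompsonSubgroupA S : Subgroup S) : Set S) ≤
      centralizer (thompsonSubgroupA S : Set S) :=
    centralizer_le (by exact_mod_cast (le_sup_right : thompsonSubgroupA S ≤ Q ⊔ thompsonSubgroupA S))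
  have h3 := centralizer_le (s := ((centralizer ((Q ⊔ thompsonSubgroupA S : Subgroup S) : Set S) :
    Subgroup S) : Set S)) (t := ((thompsonSubgroupA S ⊓ centralizer (thompsonSubgroupA S : Set S) :
    Subgroup S) : Set S)) (by exact_mod_cast (le_inf h1 h2))
  rw [hCCQ] at h3
  exact h3

end CDASec

end Cfsg.Agent.Lib.Helper2
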