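import Cfsg.Agent.Lib.Helper2.CD
import Cfsg.Prelude.Def_BaumannBlocks

set_option autoImplicit false

namespace Cfsg.Agent.Lib.Helper2

open Subgroup Cfsg
open scoped Pointwise

section CDLSec

variable {S : Type*} [Group S] [Finite S]

theorem cdm_le_maxCentralizerProduct (L : Subgroup S) : cdm L ≤ maxCentralizerProduct S := by
  unfold maxCentralizerProduct
  apply le_csSup
  · refine ⟨Nat.card S * Nat.card S, ?_⟩
    rintro k ⟨R, rfl⟩
    exact Nat.mul_le_mul (Subgroup.card_le_card_group _) (Subgroup.card_le_card_group _)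
  · exact ⟨L, rfl⟩

theorem isCentralizerLarge_iff (R : Subgroup S) :
    IsCentralizerLarge R ↔ cdm R = maxCentralizerProduct S := Iff.rfl

theorem exists_isCentralizerLarge : ∃ R : Subgroup S, IsCentralizerLarge R := by
  have hne : {k : ℕ | ∃ R : Subgroup S, Nat.card ↥R * Nat.card ↥(Subgroup.centralizer (R : Set S)) = k}.Nonempty :=
    ⟨_, ⟨⊥, rfl⟩⟩
  have hbdd : BddAbove {k : ℕ | ∃ R : Subgroup S, Nat.card ↥R * Nat.card ↥(Subgroup.centralizer (R : Set S)) = k} := by
    refine ⟨Nat.card S * Nat.card S, ?_⟩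
    rintro k ⟨R, rfl⟩
    exact Nat.mul_le_mul (Subgroup.card_le_card_group _) (Subgroup.card_le_card_group _)
  obtain ⟨R, hR⟩ := Nat.sSup_mem hne hbdd
  exact ⟨R, hR⟩

/-- The measure `|R| |Z(R)|`. -/
noncomputable def clm (R : Subgroup S) : ℕ := Nat.card R * Nat.card (Subgroup.center ↥R)

theorem card_center_subgroup (R : Subgroup S) :
    Nat.card (Subgroup.center ↥R) = Nat.card (R ⊓ centralizer (R : Set S) : Subgroup S) := by
  have h : (Subgroup.center ↥R).map R.subtype = R ⊓ centralizer (R : Set S) := by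
    ext x
    constructor
    · rintro ⟨⟨y, hy⟩, hyc, rfl⟩
      refine Subgroup.mem_inf.mpr ⟨hy, ?_⟩
      rw [mem_centralizer_iff]
      intro r hr
      have h1 := Subgroup.mem_center_iff.mp hyc ⟨r, hr⟩
      exact congrArg Subtype.val h1
    · intro hx
      have hx1 : x ∈ R := (Subgroup.mem_inf.mp hx).1
      have hx2 : x ∈ centralizer (R : Set S) := (Subgroup.mem_inf.mp hx).2
      have hc : (⟨x, hx1⟩ : ↥R) ∈ Subgroup.center ↥R := by
        rw [Subgroup.mem_center_iff]
        rintro ⟨r, hr⟩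
        apply Subtype.ext
        exact (mem_centralizer_iff.mp hx2) r hr
      exact ⟨⟨x, hx1⟩, hc, rfl⟩
  rw [← h, card_map_of_injective R.subtype_injective]

theorem clm_le_cdm (R : Subgroup S) : clm R ≤ cdm R := by
  unfold clm cdm
  rw [card_center_subgroup]
  exact Nat.mul_le_mul_left _ (Subgroup.card_le_of_le inf_le_right)

theorem clm_eq_cdm_iff (R : Subgroup S) : clm R = cdm R ↔ centralizer (R : Set S) ≤ R := by
  unfold clm cdm
  rw [card_center_subgroup]
  constructor
  · intro h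
    have hpos : 0 < Nat.card R := Nat.card_pos
    have h1 := Nat.eq_of_mul_eq_mul_left hpos h
    have h2 : R ⊓ centralizer (R : Set S) = centralizer (R : Set S) :=
      Subgroup.eq_of_le_of_card_ge inf_le_right h1.ge
    rw [← h2]; exact inf_le_left
  · intro h
    rw [inf_eq_right.mpr h]

theorem clm_le_maxCentralProduct (L : Subgroup S) : clm L ≤ maxCentralProduct S := by
  unfold maxCentralProduct
  apply le_csSup
  · refine ⟨Nat.card S * Nat.card S, ?_⟩
    rintro k ⟨R, rfl⟩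
    refine Nat.mul_le_mul (Subgroup.card_le_card_group _) ?_
    exact (Subgroup.card_le_card_group _).trans (Subgroup.card_le_card_group _)
  · exact ⟨L, rfl⟩

theorem exists_isCentrallyLarge : ∃ R : Subgroup S, IsCentrallyLarge R := by
  have hne : {k : ℕ | ∃ R : Subgroup S, Nat.card ↥R * Nat.card ↥(Subgroup.center ↥R) = k}.Nonempty :=
    ⟨_, ⟨⊥, rfl⟩⟩
  have hbdd : BddAbove {k : ℕ | ∃ R : Subgroup S, Nat.card ↥R * Nat.card ↥(Subgroup.center ↥R) = k} := by
    refine ⟨Nat.card S * Nat.card S, ?_⟩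
    rintro k ⟨R, rfl⟩
    refine Nat.mul_le_mul (Subgroup.card_le_card_group _) ?_
    exact (Subgroup.card_le_card_group _).trans (Subgroup.card_le_card_group _)
  obtain ⟨R, hR⟩ := Nat.sSup_mem hne hbdd
  exact ⟨R, hR⟩

theorem maxCentralProduct_eq : maxCentralProduct S = maxCentralizerProduct S := by
  apply le_antisymm
  · obtain ⟨R, hR⟩ := exists_isCentrallyLarge (S := S)
    have h1 : clm R = maxCentralProduct S := hR
    rw [← h1]
    exact (clm_le_cdm R).trans (cdm_le_maxCentralizerProduct R)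
  · obtain ⟨R, hR⟩ := exists_isCentralizerLarge (S := S)
    have hR' : cdm R = maxCentralizerProduct S := hR
    obtain ⟨h1, h2⟩ := cd_centralizer cdm_le_maxCentralizerProduct hR'
    obtain ⟨h3, -, -, -, -⟩ := cd_sup cdm_le_maxCentralizerProduct hR' h1
    have h4 : centralizer ((R ⊔ centralizer (R : Set S) : Subgroup S) : Set S) ≤ R ⊔ centralizer (R : Set S) := by
      rw [centralizer_sup_eq]
      exact inf_le_left.trans le_sup_right
    have h5 := (clm_eq_cdm_iff _).mpr h4
    rw [← h3, ← h5]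
    exact clm_le_maxCentralProduct _

theorem isCentralizerLarge_of_isCentrallyLarge {Q : Subgroup S} (hQ : IsCentrallyLarge Q) :
    IsCentralizerLarge Q ∧ centralizer (Q : Set S) ≤ Q := by
  have h1 : clm Q = maxCentralProduct S := hQ
  rw [maxCentralProduct_eq] at h1
  have h2 := clm_le_cdm Q
  have h3 := cdm_le_maxCentralizerProduct Q
  have h4 : cdm Q = maxCentralizerProduct S := by omega
  exact ⟨h4, (clm_eq_cdm_iff Q).mp (by omega)⟩

theorem isCentrallyLarge_iff_of_isCentralizerLarge {Q : Subgroup S} (hQ : IsCentralizerLarge Q) :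
    IsCentrallyLarge Q ↔ centralizer (Q : Set S) ≤ Q := by
  constructor
  · intro h; exact (isCentralizerLarge_of_isCentrallyLarge h).2
  · intro h
    have h1 := (clm_eq_cdm_iff Q).mpr h
    have h2 : cdm Q = maxCentralizerProduct S := hQ
    show clm Q = maxCentralProduct S
    rw [maxCentralProduct_eq]; omega

theorem isCentrallyLarge_sup {Q R : Subgroup S} (hQ : IsCentrallyLarge Q) (hR : IsCentrallyLarge R) :
    ((Q ⊔ R : Subgroup S) : Set S) = (Q : Set S) * (R : Set S) ∧ IsCentrallyLarge (Q ⊔ R) := by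
  obtain ⟨hQ1, hQ2⟩ := isCentralizerLarge_of_isCentrallyLarge hQ
  obtain ⟨hR1, hR2⟩ := isCentralizerLarge_of_isCentrallyLarge hR
  have hQ1' : cdm Q = maxCentralizerProduct S := hQ1
  have hR1' : cdm R = maxCentralizerProduct S := hR1
  obtain ⟨h1, -, h3, -, -⟩ := cd_sup cdm_le_maxCentralizerProduct hQ1' hR1'
  refine ⟨h3, (isCentrallyLarge_iff_of_isCentralizerLarge h1).mpr ?_⟩
  rw [centralizer_sup_eq]
  exact (inf_le_left.trans hQ2).trans le_sup_left

theorem sSup_of_sup_closed (Pr : Subgroup S → Prop) (hsup : ∀ Q R, Pr Q → Pr R → Pr (Q ⊔ R))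
    (𝒮 : Set (Subgroup S)) (h𝒮 : ∀ R ∈ 𝒮, Pr R) (hne : 𝒮.Nonempty) : Pr (sSup 𝒮) := by
  classical
  obtain ⟨R₀, hR₀⟩ := hne
  haveI : Nonempty {L : Subgroup S // Pr L ∧ L ≤ sSup 𝒮} := ⟨⟨R₀, h𝒮 R₀ hR₀, le_sSup hR₀⟩⟩
  obtain ⟨⟨M, hM1, hM2⟩, hMmax⟩ := Finite.exists_max
    (fun L : {L : Subgroup S // Pr L ∧ L ≤ sSup 𝒮} => Nat.card (L : Subgroup S))
  have hle : sSup 𝒮 ≤ M := by
    apply sSup_le
    intro R hR
    have h1 := hMmax ⟨M ⊔ R, hsup M R hM1 (h𝒮 R hR), sup_le hM2 (le_sSup hR)⟩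
    have h2 : M = M ⊔ R := Subgroup.eq_of_le_of_card_ge le_sup_left h1
    rw [h2]; exact le_sup_right
  have : M = sSup 𝒮 := le_antisymm hM2 hle
  rw [← this]; exact hM1

theorem isCentrallyLarge_centrallyLargeJoin : IsCentrallyLarge (centrallyLargeJoin S) := by
  unfold centrallyLargeJoin
  exact sSup_of_sup_closed IsCentrallyLarge (fun Q R hQ hR => (isCentrallyLarge_sup hQ hR).2) _
    (fun R hR => hR) exists_isCentrallyLarge

theorem exists_isMinimalCentrallyLarge : ∃ R : Subgroup S, IsMinimalCentrallyLarge R := by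
  classical
  obtain ⟨R₀, hR₀⟩ := exists_isCentrallyLarge (S := S)
  haveI : Nonempty {L : Subgroup S // IsCentrallyLarge L} := ⟨⟨R₀, hR₀⟩⟩
  obtain ⟨⟨M, hM⟩, hMmin⟩ := Finite.exists_min
    (fun L : {L : Subgroup S // IsCentrallyLarge L} => Nat.card (L : Subgroup S))
  refine ⟨M, hM, ?_⟩
  intro R' hR'M hR'
  exact Subgroup.eq_of_le_of_card_ge hR'M (hMmin ⟨R', hR'⟩)

theorem isCentrallyLarge_minimalCentrallyLargeJoin :
    IsCentrallyLarge (minimalCentrallyLargeJoin S) := by
  unfold minimalCentrallyLargeJoin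
  exact sSup_of_sup_closed IsCentrallyLarge (fun Q R hQ hR => (isCentrallyLarge_sup hQ hR).2) _
    (fun R hR => hR.1) exists_isMinimalCentrallyLarge

end CDLSec

end Cfsg.Agent.Lib.Helper2
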