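import Cfsg.Agent.Lib.Helper2.CDA

set_option autoImplicit false

namespace Cfsg.Agent.Lib.Helper2

open Subgroup Cfsg
open scoped Pointwise

section CDMSec

variable {S : Type*} [Group S]

theorem comm_elim_left (b z g : S) (h : Commute z g) :
    (b * z) * g * (b * z)⁻¹ * g⁻¹ = b * g * b⁻¹ * g⁻¹ := by
  have h1 : z * g * z⁻¹ = g := by rw [h.eq, mul_inv_cancel_right]
  calc (b * z) * g * (b * z)⁻¹ * g⁻¹ = b * (z * g * z⁻¹) * b⁻¹ * g⁻¹ := by group
    _ = b * g * b⁻¹ * g⁻¹ := by rw [h1]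

theorem comm_elim_right (b b₂ z : S) (h : Commute z b) :
    b * (b₂ * z) * b⁻¹ * (b₂ * z)⁻¹ = b * b₂ * b⁻¹ * b₂⁻¹ := by
  have h1 : z * b⁻¹ * z⁻¹ = b⁻¹ := by rw [h.inv_right.eq, mul_inv_cancel_right]
  calc b * (b₂ * z) * b⁻¹ * (b₂ * z)⁻¹ = b * b₂ * (z * b⁻¹ * z⁻¹) * b₂⁻¹ := by group
    _ = b * b₂ * b⁻¹ * b₂⁻¹ := by rw [h1]

theorem commutator_eq_of_mul_central {B Z Q : Subgroup S} (hset : (Q : Set S) = (B : Set S) * (Z : Set S))
    (hBQ : B ≤ Q) (hZ : Z ≤ centralizer (Q : Set S)) : ⁅Q, Q⁆ = ⁅B, B⁆ := by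
  apply le_antisymm _ (commutator_mono hBQ hBQ)
  rw [Subgroup.commutator_le]
  intro g₁ hg₁ g₂ hg₂
  have hg₁' : g₁ ∈ (Q : Set S) := hg₁
  have hg₂' : g₂ ∈ (Q : Set S) := hg₂
  rw [hset] at hg₁' hg₂'
  obtain ⟨b₁, hb₁, z₁, hz₁, rfl⟩ := Set.mem_mul.mp hg₁'
  obtain ⟨b₂, hb₂, z₂, hz₂, rfl⟩ := Set.mem_mul.mp hg₂'
  have c1 : Commute z₁ (b₂ * z₂) := ((mem_centralizer_iff.mp (hZ hz₁)) _ hg₂).symm
  have c2 : Commute z₂ b₁ := ((mem_centralizer_iff.mp (hZ hz₂)) _ (hBQ hb₁)).symm
  rw [commutatorElement_def, comm_elim_left b₁ z₁ (b₂ * z₂) c1, comm_elim_right b₁ b₂ z₂ c2,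
    ← commutatorElement_def]
  exact Subgroup.commutator_mem_commutator hb₁ hb₂

variable [Finite S]

theorem card_sup_mul_card_inf_of_coe_eq (H K : Subgroup S)
    (h : ((H ⊔ K : Subgroup S) : Set S) = (H : Set S) * (K : Set S)) :
    Nat.card (H ⊔ K : Subgroup S) * Nat.card (H ⊓ K : Subgroup S) = Nat.card H * Nat.card K := by
  rw [← card_mul_set_mul_card_inf H K, ← h]
  rfl

theorem minCL_sup {Q R : Subgroup S} (hQ : IsMinimalCentrallyLarge Q) (hR : IsCentrallyLarge R) :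
    (Q ⊓ R) ⊔ centralizer (Q : Set S) = Q ∧
      (Q : Set S) = ((Q ⊓ R : Subgroup S) : Set S) * (centralizer (Q : Set S) : Set S) := by
  obtain ⟨hQ1, hQ2⟩ := isCentralizerLarge_of_isCentrallyLarge hQ.1
  obtain ⟨hR1, hR2⟩ := isCentralizerLarge_of_isCentrallyLarge hR
  have hQ1' : cdm Q = maxCentralizerProduct S := hQ1
  have hR1' : cdm R = maxCentralizerProduct S := hR1
  obtain ⟨-, hI, -, hCI, hCset⟩ := cd_sup cdm_le_maxCentralizerProduct hQ1' hR1'
  obtain ⟨hCQ, hCCQ⟩ := cd_centralizer cdm_le_maxCentralizerProduct hQ1'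
  obtain ⟨hX, -, hXset, -, -⟩ := cd_sup cdm_le_maxCentralizerProduct hI hCQ
  have hXQ : (Q ⊓ R) ⊔ centralizer (Q : Set S) ≤ Q := sup_le inf_le_left hQ2
  have hXcl : IsCentrallyLarge ((Q ⊓ R) ⊔ centralizer (Q : Set S)) := by
    refine (isCentrallyLarge_iff_of_isCentralizerLarge hX).mpr ?_
    rw [centralizer_sup_eq, hCI, hCCQ]
    intro x hx
    have hx1 : x ∈ ((centralizer (Q : Set S) ⊔ centralizer (R : Set S) : Subgroup S) : Set S) :=
      (Subgroup.mem_inf.mp hx).1
    have hx2 : x ∈ Q := (Subgroup.mem_inf.mp hx).2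
    rw [hCset] at hx1
    obtain ⟨z₁, hz₁, z₂, hz₂, rfl⟩ := Set.mem_mul.mp hx1
    have hz₂Q : z₂ ∈ Q := by
      have := mul_mem (inv_mem (hQ2 hz₁)) hx2
      have e : z₁⁻¹ * (z₁ * z₂) = z₂ := by group
      rwa [e] at this
    exact mul_mem ((le_sup_right : centralizer (Q : Set S) ≤ _) hz₁)
      ((le_sup_left : Q ⊓ R ≤ _) (Subgroup.mem_inf.mpr ⟨hz₂Q, hR2 hz₂⟩))
  have hEq : (Q ⊓ R) ⊔ centralizer (Q : Set S) = Q := hQ.2 _ hXQ hXcl
  refine ⟨hEq, ?_⟩
  rw [← hXset, hEq]

theorem minCL_pair {Q R : Subgroup S} (hQ : IsMinimalCentrallyLarge Q)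
    (hR : IsMinimalCentrallyLarge R) :
    Nat.card Q = Nat.card R ∧
      Nat.card (centralizer (Q : Set S)) = Nat.card (centralizer (R : Set S)) := by
  obtain ⟨hQ1, hQ2⟩ := isCentralizerLarge_of_isCentrallyLarge hQ.1
  obtain ⟨hR1, hR2⟩ := isCentralizerLarge_of_isCentrallyLarge hR.1
  have hQ1' : cdm Q = maxCentralizerProduct S := hQ1
  have hR1' : cdm R = maxCentralizerProduct S := hR1
  obtain ⟨hQe, hQset⟩ := minCL_sup hQ hR.1
  obtain ⟨hRe, hRset⟩ := minCL_sup hR hQ.1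
  have hQCC : Q ≤ centralizer ((centralizer (Q : Set S) : Subgroup S) : Set S) :=
    le_centralizer_iff.mp le_rfl
  have hRCC : R ≤ centralizer ((centralizer (R : Set S) : Subgroup S) : Set S) :=
    le_centralizer_iff.mp le_rfl
  have key1 : R ⊓ centralizer (Q : Set S) ≤ centralizer (R : Set S) := by
    intro x hx
    have hxR : x ∈ R := (Subgroup.mem_inf.mp hx).1
    have hxC : x ∈ centralizer (Q : Set S) := (Subgroup.mem_inf.mp hx).2
    have h1 : x ∈ centralizer (((R ⊓ Q) ⊔ centralizer (R : Set S) : Subgroup S) : Set S) := by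
      rw [centralizer_sup_eq]
      exact Subgroup.mem_inf.mpr
        ⟨(centralizer_le (by exact_mod_cast (inf_le_right : R ⊓ Q ≤ Q))) hxC, hRCC hxR⟩
    rw [hRe] at h1
    exact h1
  have key2 : Q ⊓ centralizer (R : Set S) ≤ centralizer (Q : Set S) := by
    intro x hx
    have hxQ : x ∈ Q := (Subgroup.mem_inf.mp hx).1
    have hxC : x ∈ centralizer (R : Set S) := (Subgroup.mem_inf.mp hx).2
    have h1 : x ∈ centralizer (((Q ⊓ R) ⊔ centralizer (Q : Set S) : Subgroup S) : Set S) := by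
      rw [centralizer_sup_eq]
      exact Subgroup.mem_inf.mpr
        ⟨(centralizer_le (by exact_mod_cast (inf_le_right : Q ⊓ R ≤ R))) hxC, hQCC hxQ⟩
    rw [hQe] at h1
    exact h1
  have hzz : R ⊓ centralizer (Q : Set S) = Q ⊓ centralizer (R : Set S) := by
    apply le_antisymm
    · exact le_inf (inf_le_right.trans hQ2) key1
    · exact le_inf (inf_le_right.trans hR2) key2
  have hQset' : (((Q ⊓ R) ⊔ centralizer (Q : Set S) : Subgroup S) : Set S) =
      ((Q ⊓ R : Subgroup S) : Set S) * (centralizer (Q : Set S) : Set S) := by rw [hQe]; exact hQset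
  have hRset' : (((R ⊓ Q) ⊔ centralizer (R : Set S) : Subgroup S) : Set S) =
      ((R ⊓ Q : Subgroup S) : Set S) * (centralizer (R : Set S) : Set S) := by rw [hRe]; exact hRset
  have f1 := card_sup_mul_card_inf_of_coe_eq _ _ hQset'
  have f2 := card_sup_mul_card_inf_of_coe_eq _ _ hRset'
  have i1 : (Q ⊓ R) ⊓ centralizer (Q : Set S) = Q ⊓ centralizer (R : Set S) := by
    rw [← hzz, inf_comm Q R, inf_assoc, inf_eq_right.mpr hQ2]
  have i2 : (R ⊓ Q) ⊓ centralizer (R : Set S) = Q ⊓ centralizer (R : Set S) := by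
    rw [inf_comm R Q, inf_assoc, inf_eq_right.mpr hR2]
  rw [hQe, i1] at f1
  rw [hRe, i2, inf_comm R Q] at f2
  unfold cdm at hQ1' hR1'
  set q := Nat.card Q with hq
  set r := Nat.card R with hr
  set cq := Nat.card (centralizer (Q : Set S)) with hcq
  set cr := Nat.card (centralizer (R : Set S)) with hcr
  set z := Nat.card (Q ⊓ centralizer (R : Set S) : Subgroup S) with hz
  set i := Nat.card (Q ⊓ R : Subgroup S) with hi
  have hq0 : 0 < q := Nat.card_pos
  have hr0 : 0 < r := Nat.card_pos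
  have hz0 : 0 < z := Nat.card_pos
  have g1 : q * q * z = r * r * z := by
    calc q * q * z = q * (q * z) := by ring
      _ = q * (i * cq) := by rw [f1]
      _ = i * (q * cq) := by ring
      _ = i * (r * cr) := by rw [hQ1', hR1']
      _ = r * (i * cr) := by ring
      _ = r * (r * z) := by rw [f2]
      _ = r * r * z := by ring
  have g2 : q * q = r * r := Nat.eq_of_mul_eq_mul_right hz0 g1
  have g3 : q = r := by
    rcases Nat.lt_trichotomy q r with h | h | h
    · exact absurd g2 (Nat.ne_of_lt (Nat.mul_self_lt_mul_self h))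
    · exact h
    · exact absurd g2.symm (Nat.ne_of_lt (Nat.mul_self_lt_mul_self h))
  refine ⟨g3, ?_⟩
  have g4 : q * cq = q * cr := by rw [hQ1', g3, hR1']
  exact Nat.eq_of_mul_eq_mul_left hq0 g4

theorem clm_of_abelian {B : Subgroup S} (hB : B ≤ centralizer (B : Set S)) :
    clm B = Nat.card B * Nat.card B := by
  unfold clm
  rw [card_center_subgroup, inf_eq_left.mpr hB]

theorem minCL_abelian_iff {Q : Subgroup S} (hQ : IsMinimalCentrallyLarge Q)
    (hQab : IsMulCommutative ↥Q) (X : Subgroup S) :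
    IsMinimalCentrallyLarge X ↔ X ∈ maxAbelianSubgroups S := by
  have hQc := le_centralizer_of_isMulCommutative hQab
  obtain ⟨hQ1, hQ2⟩ := isCentralizerLarge_of_isCentrallyLarge hQ.1
  have hCQ : centralizer (Q : Set S) = Q := le_antisymm hQ2 hQc
  have hf : maxCentralProduct S = Nat.card Q * Nat.card Q := by
    have h1 : clm Q = maxCentralProduct S := hQ.1
    rw [← h1, clm_of_abelian hQc]
  have hle : ∀ B : Subgroup S, IsMulCommutative ↥B → Nat.card B ≤ Nat.card Q := by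
    intro B hB
    have h1 := clm_le_maxCentralProduct B
    rw [clm_of_abelian (le_centralizer_of_isMulCommutative hB), hf] at h1
    by_contra hcon
    push Not at hcon
    have := Nat.mul_self_lt_mul_self hcon
    omega
  constructor
  · intro hX
    obtain ⟨h1, h2⟩ := minCL_pair hX hQ
    obtain ⟨-, hX2⟩ := isCentralizerLarge_of_isCentrallyLarge hX.1
    rw [hCQ] at h2
    have h3 : centralizer (X : Set S) = X := Subgroup.eq_of_le_of_card_ge hX2 (by omega)
    refine ⟨isMulCommutative_of_le_centralizer h3.ge, fun B hB => ?_⟩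
    have := hle B hB
    omega
  · intro hX
    have hXc := le_centralizer_of_isMulCommutative hX.1
    have hcard : Nat.card X = Nat.card Q := le_antisymm (hle X hX.1) (hX.2 Q hQab)
    have hXcl : IsCentrallyLarge X := by
      show clm X = maxCentralProduct S
      rw [clm_of_abelian hXc, hf, hcard]
    refine ⟨hXcl, fun R' hR'X hR' => ?_⟩
    have hR'c : R' ≤ centralizer (R' : Set S) :=
      hR'X.trans (hXc.trans (centralizer_le (by exact_mod_cast hR'X)))
    have h1 : clm R' = maxCentralProduct S := hR'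
    rw [clm_of_abelian hR'c, hf, ← hcard] at h1
    apply Subgroup.eq_of_le_of_card_ge hR'X
    by_contra hcon
    push Not at hcon
    have := Nat.mul_self_lt_mul_self hcon
    omega

end CDMSec

end Cfsg.Agent.Lib.Helper2
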