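import Cfsg.Agent.Lib.Helper2.Focal

set_option autoImplicit false

namespace Cfsg.Agent.Lib.Helper2

open scoped commutatorElement

section

variable {G : Type*} [Group G] (H : Subgroup G) [H.FiniteIndex]

theorem ker_restrict_transferFocal_eq_of_coprime
    (hcop : (Nat.card (H ⧸ H.focalSubgroupOf)).Coprime H.index) :
    (H.transferFocal.domRestrict H).ker = H.focalSubgroupOf := by
  ext g
  rw [MonoidHom.mem_ker, MonoidHom.domRestrict_apply, Subgroup.transferFocal_eq_pow]
  have := (powCoprime hcop).apply_eq_iff_eq (x := (g : H ⧸ H.focalSubgroupOf)) (y := 1)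
  simp only [powCoprime, Equiv.coe_fn_mk, one_pow] at this
  rw [this]
  exact QuotientGroup.eq_one_iff g

theorem ker_transferFocal_inf_eq_of_coprime
    (hcop : (Nat.card (H ⧸ H.focalSubgroupOf)).Coprime H.index) :
    H.transferFocal.ker ⊓ H = H.focalSubgroup := by
  rw [← Subgroup.subgroupOf_map_subtype, ← MonoidHom.ker_domRestrict, ← Subgroup.map_focalSubgroupOf]
  exact congr_arg _ (ker_restrict_transferFocal_eq_of_coprime H hcop)

theorem ker_transferFocal_sup_eq_top_of_coprime
    (hcop : (Nat.card (H ⧸ H.focalSubgroupOf)).Coprime H.index) :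
    H.transferFocal.ker ⊔ H = ⊤ := by
  rw [eq_top_iff]
  intro g _
  obtain ⟨y, hy⟩ := (powCoprime hcop).surjective (H.transferFocal g)
  simp only [powCoprime, Equiv.coe_fn_mk] at hy
  obtain ⟨x, rfl⟩ := QuotientGroup.mk'_surjective _ y
  have hx : H.transferFocal (x : G) = H.transferFocal g := by
    rw [Subgroup.transferFocal_eq_pow]
    exact hy
  have : g = (g * (x : G)⁻¹) * (x : G) := by group
  rw [this]
  refine Subgroup.mul_mem_sup ?_ x.2
  rw [MonoidHom.mem_ker, map_mul, map_inv, hx, mul_inv_cancel]

open scoped IsMulCommutative in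
theorem commutator_inf_eq_focalSubgroup_of_coprime
    (hcop : (Nat.card (H ⧸ H.focalSubgroupOf)).Coprime H.index) :
    commutator G ⊓ H = H.focalSubgroup := by
  apply le_antisymm
  · apply le_trans ?_ (ker_transferFocal_inf_eq_of_coprime H hcop).le
    exact inf_le_inf_right _ (Abelianization.commutator_subset_ker H.transferFocal)
  · exact le_inf H.focalSubgroup_le_commutator H.focalSubgroup_le

end

end Cfsg.Agent.Lib.Helper2
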