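import Mathlib

set_option autoImplicit false

namespace Cfsg.Agent.Lib.Helper2.Irr4

open Matrix

theorem dim_dichotomy (q p : ℕ) (hp : p.Prime) (hq : ¬ p ∣ q) (h1 : ¬ p ∣ q - 1)
    (h2 : ¬ p ∣ q ^ 2 - 1) (h3 : ¬ p ∣ q ^ 3 - 1) (d e : ℕ) (hed : e ≤ d) (hd : d ≤ 4)
    (h : q ^ d ≡ q ^ e [MOD p]) : d = e ∨ (d = 4 ∧ e = 0) := by
  obtain ⟨j, rfl⟩ := Nat.exists_eq_add_of_le hed
  have hq0 : 0 < q := Nat.pos_of_ne_zero (by rintro rfl; exact hq (dvd_zero p))
  have hcop : Nat.gcd p (q ^ e) = 1 :=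
    (Nat.Prime.coprime_iff_not_dvd hp).mpr (fun hdv => hq (hp.dvd_of_dvd_pow hdv))
  have h' : q ^ e * q ^ j ≡ q ^ e * 1 [MOD p] := by rw [← pow_add, mul_one]; exact h
  have h'' : q ^ j ≡ 1 [MOD p] := Nat.ModEq.cancel_left_of_coprime hcop h'
  have hdvd : p ∣ q ^ j - 1 := (Nat.modEq_iff_dvd' (Nat.one_le_pow _ _ hq0)).mp h''.symm
  have hj : j ≤ 4 := by omega
  interval_cases j
  · left; rfl
  · rw [pow_one] at hdvd; exact absurd hdvd h1
  · exact absurd hdvd h2
  · exact absurd hdvd h3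
  · right; omega

variable {F : Type*} [Field F] [Fintype F]

theorem sub_one_mulVec_eq_zero (M : Matrix (Fin 4) (Fin 4) F) (v : Fin 4 → F) :
    (M - 1) *ᵥ v = 0 ↔ M *ᵥ v = v := by
  rw [Matrix.sub_mulVec, Matrix.one_mulVec, sub_eq_zero]

theorem card_invariant_modEq (M : Matrix (Fin 4) (Fin 4) F) (p : ℕ) [hp : Fact p.Prime]
    (hM : M ^ p = 1) (W : Submodule F (Fin 4 → F)) (hW : ∀ w ∈ W, M *ᵥ w ∈ W) :
    Nat.card W ≡ Nat.card ↥(W ⊓ LinearMap.ker (Matrix.mulVecLin (M - 1))) [MOD p] := by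
  classical
  let f : Function.End W := fun w => ⟨M *ᵥ w.1, hW w.1 w.2⟩
  have hf : ∀ (n : ℕ) (w : W), (((f ^ n) w : W) : Fin 4 → F) = (M ^ n) *ᵥ w.1 := by
    intro n
    induction n with
    | zero =>
      intro w
      rw [pow_zero, pow_zero, Matrix.one_mulVec]
      rfl
    | succ k ih =>
      intro w
      rw [pow_succ', pow_succ']
      show M *ᵥ (((f ^ k) w : W) : Fin 4 → F) = _
      rw [ih, Matrix.mulVec_mulVec]
  have hfp : f ^ p ^ 1 = 1 := by
    rw [pow_one]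
    funext w
    apply Subtype.ext
    rw [hf, hM, Matrix.one_mulVec]
    rfl
  have key := Equiv.Perm.card_fixedPoints_modEq (p := p) (n := 1) hfp
  rw [← Nat.card_eq_fintype_card, ← Nat.card_eq_fintype_card] at key
  have e : ↥(W ⊓ LinearMap.ker (Matrix.mulVecLin (M - 1))) ≃ Function.fixedPoints f :=
    { toFun := fun x => ⟨⟨x.1, (Submodule.mem_inf.mp x.2).1⟩, by
        have h2 := (Submodule.mem_inf.mp x.2).2
        rw [LinearMap.mem_ker, Matrix.mulVecLin_apply, sub_one_mulVec_eq_zero] at h2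
        show f _ = _
        exact Subtype.ext h2⟩
      invFun := fun w => ⟨w.1.1, Submodule.mem_inf.mpr ⟨w.1.2, by
        rw [LinearMap.mem_ker, Matrix.mulVecLin_apply, sub_one_mulVec_eq_zero]
        have h2 : f w.1 = w.1 := w.2
        exact congrArg Subtype.val h2⟩⟩
      left_inv := fun x => rfl
      right_inv := fun w => rfl }
  rw [Nat.card_congr e]
  exact key

theorem irreducible (M : Matrix (Fin 4) (Fin 4) F) (p : ℕ) [hp : Fact p.Prime]
    (hM : M ^ p = 1) (hM1 : M ≠ 1) (hq : ¬ p ∣ Fintype.card F) (h1 : ¬ p ∣ Fintype.card F - 1)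
    (h2 : ¬ p ∣ Fintype.card F ^ 2 - 1) (h3 : ¬ p ∣ Fintype.card F ^ 3 - 1)
    (W : Submodule F (Fin 4 → F)) (hW : ∀ w ∈ W, M *ᵥ w ∈ W) : W = ⊥ ∨ W = ⊤ := by
  have hcard : ∀ S : Submodule F (Fin 4 → F),
      Nat.card S = Fintype.card F ^ Module.finrank F S := by
    intro S; rw [Module.natCard_eq_pow_finrank (K := F), Nat.card_eq_fintype_card]
  have hle : ∀ S : Submodule F (Fin 4 → F), Module.finrank F S ≤ 4 := by
    intro S; have := Submodule.finrank_le S; simpa using this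
  have hV1bot : LinearMap.ker (Matrix.mulVecLin (M - 1)) = ⊥ := by
    have key := card_invariant_modEq M p hM ⊤ (fun w _ => Submodule.mem_top)
    rw [hcard, hcard, top_inf_eq, finrank_top, Module.finrank_fin_fun] at key
    rcases dim_dichotomy _ p hp.out hq h1 h2 h3 4 _ (hle _) le_rfl key with h | ⟨_, h⟩
    · exfalso
      apply hM1
      have htop : LinearMap.ker (Matrix.mulVecLin (M - 1)) = ⊤ :=
        Submodule.eq_top_of_finrank_eq (by rw [← h, Module.finrank_fin_fun])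
      apply Matrix.mulVec_injective
      funext v
      have hv : v ∈ LinearMap.ker (Matrix.mulVecLin (M - 1)) := by rw [htop]; trivial
      rw [LinearMap.mem_ker, Matrix.mulVecLin_apply, sub_one_mulVec_eq_zero] at hv
      rw [hv, Matrix.one_mulVec]
    · exact Submodule.finrank_eq_zero.mp h
  have key := card_invariant_modEq M p hM W hW
  rw [hV1bot, inf_bot_eq, hcard, hcard, finrank_bot] at key
  rcases dim_dichotomy _ p hp.out hq h1 h2 h3 _ 0 (Nat.zero_le _) (hle _) key with h | ⟨h, _⟩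
  · left; exact Submodule.finrank_eq_zero.mp h
  · right; exact Submodule.eq_top_of_finrank_eq (by rw [h, Module.finrank_fin_fun])

theorem eq_zero_or_injective (M : Matrix (Fin 4) (Fin 4) F) (p : ℕ) [hp : Fact p.Prime]
    (hM : M ^ p = 1) (hM1 : M ≠ 1) (hq : ¬ p ∣ Fintype.card F) (h1 : ¬ p ∣ Fintype.card F - 1)
    (h2 : ¬ p ∣ Fintype.card F ^ 2 - 1) (h3 : ¬ p ∣ Fintype.card F ^ 3 - 1)
    (c : Matrix (Fin 4) (Fin 4) F) (hc : M * c = c * M) :
    c = 0 ∨ ∀ v, c *ᵥ v = 0 → v = 0 := by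
  have hinv : ∀ w ∈ LinearMap.ker (Matrix.mulVecLin c),
      M *ᵥ w ∈ LinearMap.ker (Matrix.mulVecLin c) := by
    intro w hw
    rw [LinearMap.mem_ker, Matrix.mulVecLin_apply] at hw ⊢
    rw [Matrix.mulVec_mulVec, ← hc, ← Matrix.mulVec_mulVec, hw, Matrix.mulVec_zero]
  rcases irreducible M p hM hM1 hq h1 h2 h3 _ hinv with h | h
  · right; exact Matrix.ker_mulVecLin_eq_bot_iff.mp h
  · left
    apply Matrix.mulVec_injective
    funext v
    have : v ∈ LinearMap.ker (Matrix.mulVecLin c) := by rw [h]; trivial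
    rw [LinearMap.mem_ker, Matrix.mulVecLin_apply] at this
    rw [this, Matrix.zero_mulVec]

theorem centralizer_isDomain (M : Matrix (Fin 4) (Fin 4) F) (p : ℕ) [hp : Fact p.Prime]
    (hM : M ^ p = 1) (hM1 : M ≠ 1) (hq : ¬ p ∣ Fintype.card F) (h1 : ¬ p ∣ Fintype.card F - 1)
    (h2 : ¬ p ∣ Fintype.card F ^ 2 - 1) (h3 : ¬ p ∣ Fintype.card F ^ 3 - 1) :
    IsDomain (Subalgebra.centralizer F ({M} : Set (Matrix (Fin 4) (Fin 4) F))) := by
  haveI : NoZeroDivisors (Subalgebra.centralizer F ({M} : Set (Matrix (Fin 4) (Fin 4) F))) := ⟨by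
    rintro ⟨a, ha⟩ ⟨b, hb⟩ hab
    have hab' : a * b = 0 := congrArg Subtype.val hab
    have ha' : M * a = a * M := ha M rfl
    rcases eq_zero_or_injective M p hM hM1 hq h1 h2 h3 a ha' with h | h
    · left; exact Subtype.ext h
    · right
      apply Subtype.ext
      apply Matrix.mulVec_injective
      funext v
      have := h (b *ᵥ v) (by rw [Matrix.mulVec_mulVec, hab', Matrix.zero_mulVec])
      show b *ᵥ v = (0 : Matrix (Fin 4) (Fin 4) F) *ᵥ v
      rw [this, Matrix.zero_mulVec]⟩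
  haveI : Nontrivial (Subalgebra.centralizer F ({M} : Set (Matrix (Fin 4) (Fin 4) F))) :=
    ⟨⟨0, 1, fun h => by
      have := congrArg Subtype.val h
      exact zero_ne_one this⟩⟩
  exact NoZeroDivisors.to_isDomain _

/-- the commutant of an element of prime order `p` acting irreducibly is commutative -/
theorem commutant_comm (M : Matrix (Fin 4) (Fin 4) F) (p : ℕ) [hp : Fact p.Prime]
    (hM : M ^ p = 1) (hM1 : M ≠ 1) (hq : ¬ p ∣ Fintype.card F) (h1 : ¬ p ∣ Fintype.card F - 1)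
    (h2 : ¬ p ∣ Fintype.card F ^ 2 - 1) (h3 : ¬ p ∣ Fintype.card F ^ 3 - 1)
    (c d : Matrix (Fin 4) (Fin 4) F) (hc : M * c = c * M) (hd : M * d = d * M) :
    c * d = d * c := by
  haveI := centralizer_isDomain M p hM hM1 hq h1 h2 h3
  have hfield := Finite.isDomain_to_isField
    (Subalgebra.centralizer F ({M} : Set (Matrix (Fin 4) (Fin 4) F)))
  have hcm : c ∈ Subalgebra.centralizer F ({M} : Set (Matrix (Fin 4) (Fin 4) F)) := by
    intro g hg; rw [Set.mem_singleton_iff.mp hg]; exact hc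
  have hdm : d ∈ Subalgebra.centralizer F ({M} : Set (Matrix (Fin 4) (Fin 4) F)) := by
    intro g hg; rw [Set.mem_singleton_iff.mp hg]; exact hd
  have := hfield.mul_comm ⟨c, hcm⟩ ⟨d, hdm⟩
  exact congrArg Subtype.val this

/-- a finite group of matrices commuting with such an element is cyclic -/
theorem isCyclic_of_commute (M : Matrix (Fin 4) (Fin 4) F) (p : ℕ) [hp : Fact p.Prime]
    (hM : M ^ p = 1) (hM1 : M ≠ 1) (hq : ¬ p ∣ Fintype.card F) (h1 : ¬ p ∣ Fintype.card F - 1)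
    (h2 : ¬ p ∣ Fintype.card F ^ 2 - 1) (h3 : ¬ p ∣ Fintype.card F ^ 3 - 1)
    {P : Type*} [Group P] [Finite P] (φ : P →* Matrix (Fin 4) (Fin 4) F)
    (hφ : Function.Injective φ) (hcomm : ∀ g, M * φ g = φ g * M) : IsCyclic P := by
  haveI := centralizer_isDomain M p hM hM1 hq h1 h2 h3
  have hfield := Finite.isDomain_to_isField
    (Subalgebra.centralizer F ({M} : Set (Matrix (Fin 4) (Fin 4) F)))
  letI : Field (Subalgebra.centralizer F ({M} : Set (Matrix (Fin 4) (Fin 4) F))) :=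
    hfield.toField
  have hmem : ∀ g, φ g ∈ Subalgebra.centralizer F ({M} : Set (Matrix (Fin 4) (Fin 4) F)) := by
    intro g x hx; rw [Set.mem_singleton_iff.mp hx]; exact hcomm g
  let f : P →* (Subalgebra.centralizer F ({M} : Set (Matrix (Fin 4) (Fin 4) F))) :=
    { toFun := fun g => ⟨φ g, hmem g⟩
      map_one' := Subtype.ext φ.map_one
      map_mul' := fun a b => Subtype.ext (φ.map_mul a b) }
  exact isCyclic_of_injective_ringHom f (fun a b h => hφ (congrArg Subtype.val h))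

end Cfsg.Agent.Lib.Helper2.Irr4
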