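import Mathlib
import Cfsg.Prelude.Def_LieExceptional

set_option autoImplicit false

namespace Cfsg.Agent.Lib.Helper2.SzL

section Fld

variable {F : Type*} [Field F] [Fintype F] {m : ℕ}

theorem four_eq_zero' (h2 : (2 : F) = 0) : (4 : F) = 0 := by
  linear_combination 2 * h2

theorem two_eq_zero (hF : Fintype.card F = 2 ^ (2 * m + 1)) : (2 : F) = 0 := by
  have h := Nat.cast_card_eq_zero F
  rw [hF] at h
  push_cast at h
  exact (pow_eq_zero_iff (by omega)).mp h

theorem add_self (hF : Fintype.card F = 2 ^ (2 * m + 1)) (x : F) : x + x = 0 := by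
  rw [← two_mul, two_eq_zero hF, zero_mul]

theorem eq_of_add_eq_zero (hF : Fintype.card F = 2 ^ (2 * m + 1)) {a b : F} (h : a + b = 0) :
    a = b := by
  have h2 := add_self hF b
  linear_combination h - h2

theorem add_eq_zero_of_eq (hF : Fintype.card F = 2 ^ (2 * m + 1)) {a b : F} (h : a = b) :
    a + b = 0 := by
  rw [h]; exact add_self hF b

theorem neg_eq (hF : Fintype.card F = 2 ^ (2 * m + 1)) (x : F) : -x = x := by
  have h2 := add_self hF x
  linear_combination -h2

/-- the Tits endomorphism `x ↦ x ^ (2 ^ (m + 1))` -/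
def th (m : ℕ) (x : F) : F := x ^ (2 ^ (m + 1))

theorem th_def (x : F) : x ^ (2 ^ (m + 1)) = th m x := rfl

theorem th_zero : th m (0 : F) = 0 := by
  unfold th; exact zero_pow (by positivity)

theorem th_one : th m (1 : F) = 1 := by
  unfold th; exact one_pow _

theorem th_mul (x y : F) : th m (x * y) = th m x * th m y := by
  unfold th; exact mul_pow _ _ _

theorem th_pow (x : F) (n : ℕ) : th m (x ^ n) = th m x ^ n := by
  unfold th; rw [← pow_mul, ← pow_mul, mul_comm]

theorem th_inv (x : F) : th m x⁻¹ = (th m x)⁻¹ := by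
  unfold th; exact inv_pow _ _

theorem th_div (x y : F) : th m (x / y) = th m x / th m y := by
  unfold th; exact div_pow _ _ _

theorem th_add (hF : Fintype.card F = 2 ^ (2 * m + 1)) (x y : F) :
    th m (x + y) = th m x + th m y := by
  haveI : CharP F 2 := CharTwo.of_one_ne_zero_of_two_eq_zero one_ne_zero (two_eq_zero hF)
  haveI : Fact (Nat.Prime 2) := ⟨Nat.prime_two⟩
  unfold th
  exact add_pow_char_pow x y 2 (m + 1)

theorem th_th (hF : Fintype.card F = 2 ^ (2 * m + 1)) (x : F) : th m (th m x) = x ^ 2 := by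
  unfold th
  have e : 2 ^ (m + 1) * 2 ^ (m + 1) = Fintype.card F * 2 := by rw [hF]; ring
  rw [← pow_mul, e, pow_mul, FiniteField.pow_card]

theorem th_eq_zero {x : F} : th m x = 0 ↔ x = 0 := by
  unfold th; exact pow_eq_zero_iff (by positivity)

theorem sq_inj (hF : Fintype.card F = 2 ^ (2 * m + 1)) {x y : F} (h : x ^ 2 = y ^ 2) : x = y := by
  have h2 := two_eq_zero hF
  have h3 : (x + y) ^ 2 = 0 := by linear_combination h + (x * y + y ^ 2) * h2
  exact eq_of_add_eq_zero hF ((pow_eq_zero_iff (by norm_num)).mp h3)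

theorem th_inj (hF : Fintype.card F = 2 ^ (2 * m + 1)) {x y : F} (h : th m x = th m y) :
    x = y := by
  apply sq_inj hF
  rw [← th_th hF, ← th_th hF, h]

/-- the Suzuki function -/
def fS (m : ℕ) (x y : F) : F := x * y + x ^ (2 ^ (m + 1) + 2) + y ^ (2 ^ (m + 1))

theorem fS_eq (x y : F) : fS m x y = x * y + th m x * x ^ 2 + th m y := by
  unfold fS th; rw [pow_add]

theorem fS_zero : fS m (0 : F) 0 = 0 := by
  rw [fS_eq, th_zero]; ring

/-- translation identity -/
theorem fS_trans (hF : Fintype.card F = 2 ^ (2 * m + 1)) (a b x y : F) :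
    fS m (x + a) (y + th m a * x + b) =
      fS m x y + a * y + (b + th m a * a) * x + fS m a b := by
  have h2 := two_eq_zero hF
  simp only [fS_eq, th_add hF, th_mul, th_th hF]
  rw [← sub_eq_zero]
  ring_nf
  simp [h2]

/-- torus identity -/
theorem fS_torus (hF : Fintype.card F = 2 ^ (2 * m + 1)) (a x y : F) :
    fS m (th m a * x) (th m a * a ^ 2 * y) = (th m a * a) ^ 2 * fS m x y := by
  simp only [fS_eq, th_mul, th_th hF, th_pow]
  ring

/-- inversion identity (polynomial form) -/
theorem fS_inv_poly (hF : Fintype.card F = 2 ^ (2 * m + 1)) (x y : F) :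
    th m y * y ^ 2 + x * y * th m (fS m x y) + th m x * (fS m x y) ^ 2 =
      th m (fS m x y) * fS m x y := by
  have h2 := two_eq_zero hF
  simp only [fS_eq, th_add hF, th_mul, th_th hF, th_pow]
  rw [← sub_eq_zero]
  ring_nf
  simp [h2]

theorem fS_inv (hF : Fintype.card F = 2 ^ (2 * m + 1)) (x y : F) (hf : fS m x y ≠ 0) :
    fS m x y * fS m (y / fS m x y) (x / fS m x y) = 1 := by
  have hp := fS_inv_poly hF x y
  have hth : th m (fS m x y) ≠ 0 := fun h => hf (th_eq_zero.mp h)
  rw [fS_eq (y / fS m x y), th_div, th_div]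
  field_simp
  linear_combination hp

/-- anisotropy -/
theorem fS_eq_zero (hF : Fintype.card F = 2 ^ (2 * m + 1)) {x y : F} (h : fS m x y = 0) :
    x = 0 ∧ y = 0 := by
  have h2 := two_eq_zero hF
  by_cases hx : x = 0
  · subst hx
    rw [fS_eq, th_zero] at h
    have : th m y = 0 := by linear_combination h
    exact ⟨rfl, th_eq_zero.mp this⟩
  · exfalso
    have hthx : th m x ≠ 0 := fun h' => hx (th_eq_zero.mp h')
    rw [fS_eq] at h
    set t := y / (th m x * x) with ht
    have e1 : th m t = th m y / (x ^ 2 * th m x) := by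
      rw [ht, th_div, th_mul, th_th hF]
    have e2 : t + 1 + th m t = 0 := by
      rw [e1, ht]
      field_simp
      linear_combination h
    have e3 : th m t = t + 1 := by linear_combination e2 - (t + 1) * h2
    have e4 : t ^ 2 = t := by
      have := congrArg (th m) e3
      rw [th_th hF, th_add hF, th_one, e3] at this
      linear_combination this + h2
    have e5 : t * (t + 1) = 0 := by linear_combination e4 + t * h2
    rcases mul_eq_zero.mp e5 with h0 | h1
    · rw [h0, th_zero] at e3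
      have : (1 : F) = 0 := by linear_combination -e3
      exact one_ne_zero this
    · have ht1 : t = 1 := eq_of_add_eq_zero hF h1
      rw [ht1, th_one] at e3
      have : (1 : F) = 0 := by linear_combination -e3
      exact one_ne_zero this

open Polynomial in
theorem poly4 {σ : ℕ} (hσ : 4 ≤ σ) (hq : σ + 2 < Fintype.card F) (c1 c2 c3 c4 : F)
    (h : ∀ x : F, c1 * x + c2 * x ^ 2 + c3 * x ^ σ + c4 * x ^ (σ + 2) = 0) :
    c1 = 0 ∧ c2 = 0 ∧ c3 = 0 ∧ c4 = 0 := by
  have hp0 : (C c1 * X + C c2 * X ^ 2 + C c3 * X ^ σ + C c4 * X ^ (σ + 2) : F[X]) = 0 := by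
    apply Polynomial.eq_zero_of_natDegree_lt_card_of_eval_eq_zero _ (f := id)
      Function.injective_id
    · intro x
      simpa using h x
    · refine lt_of_le_of_lt ?_ hq
      compute_degree
      all_goals omega
  have e1 := congrArg (fun p : F[X] => p.coeff 1) hp0
  have e2 := congrArg (fun p : F[X] => p.coeff 2) hp0
  have e3 := congrArg (fun p : F[X] => p.coeff σ) hp0
  have e4 := congrArg (fun p : F[X] => p.coeff (σ + 2)) hp0
  have n1 : (1 : ℕ) ≠ σ := by omega
  have n2 : (1 : ℕ) ≠ σ + 2 := by omega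
  have n3 : (2 : ℕ) ≠ σ := by omega
  have n4 : (2 : ℕ) ≠ σ + 2 := by omega
  have n5 : σ ≠ 1 := by omega
  have n6 : σ ≠ 2 := by omega
  have n7 : σ ≠ σ + 2 := by omega
  have n8 : σ + 2 ≠ 1 := by omega
  have n9 : σ + 2 ≠ 2 := by omega
  have n10 : σ + 2 ≠ σ := by omega
  have n11 : σ ≠ 0 := by omega
  simp only [coeff_add, coeff_C_mul, coeff_X_pow, coeff_X, coeff_zero] at e1 e2 e3 e4
  simp [n1, n2, n3, n4, n5, n6, n7, n8, n9, n10, n11] at e1 e2 e3 e4
  exact ⟨e1, e2, e3, e4⟩

theorem sigma_bounds (hm : 1 ≤ m) (hF : Fintype.card F = 2 ^ (2 * m + 1)) :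
    4 ≤ 2 ^ (m + 1) ∧ 2 ^ (m + 1) + 2 < Fintype.card F := by
  rw [hF]
  have h1 : 2 ^ 2 ≤ 2 ^ (m + 1) := Nat.pow_le_pow_right (by norm_num) (by omega)
  have h2 : 2 ^ (2 * m + 1) = 2 ^ (m + 1) * 2 ^ m := by rw [← pow_add]; congr 1; omega
  have h3 : 2 ^ 1 ≤ 2 ^ m := Nat.pow_le_pow_right (by norm_num) hm
  refine ⟨by simpa using h1, ?_⟩
  rw [h2]
  nlinarith

end Fld

end Cfsg.Agent.Lib.Helper2.SzL
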