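import Mathlib
import Cfsg.Prelude.Def_LieExceptional
import Cfsg.Agent.Lib.Helper2.Sz1

set_option autoImplicit false

namespace Cfsg.Agent.Lib.Helper2.SzL

open Matrix
open scoped LinearAlgebra.Projectivization Pointwise

section Pts

variable {F : Type*} [Field F] [Fintype F] {m : ℕ}

/-- the vector `(1,0,0,0)` -/
def vInf (F : Type*) [Field F] [Fintype F] : Fin 4 → F := ![1, 0, 0, 0]

/-- the vector of the affine ovoid point with parameters `x y` -/
def vP (m : ℕ) (x y : F) : Fin 4 → F := ![fS m x y, y, x, 1]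

theorem vInf_ne : vInf F ≠ 0 := by
  intro h
  have := congrFun h 0
  simp [vInf] at this

theorem vP_ne (x y : F) : vP m x y ≠ 0 := by
  intro h
  have := congrFun h 3
  simp [vP] at this

/-- the point at infinity of the ovoid -/
def pInf (F : Type*) [Field F] [Fintype F] : ℙ F (Fin 4 → F) := Projectivization.mk F (vInf F) vInf_ne

/-- the affine ovoid point with parameters `x y` -/
def pt (m : ℕ) (x y : F) : ℙ F (Fin 4 → F) := Projectivization.mk F (vP m x y) (vP_ne x y)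

theorem pInf_eq : pInf F = Cfsg.suzukiPointInfinity F := rfl

theorem pt_zero_eq : pt m (0 : F) 0 = Cfsg.suzukiPointZero F := by
  unfold pt Cfsg.suzukiPointZero
  rw [Projectivization.mk_eq_mk_iff']
  refine ⟨1, ?_⟩
  rw [one_smul]
  simp [vP, fS_zero]

theorem mem_ovoid_iff (p : ℙ F (Fin 4 → F)) :
    p ∈ Cfsg.suzukiOvoid F m ↔ p = pInf F ∨ ∃ x y, p = pt m x y := by
  constructor
  · rintro ⟨v, hv, rfl, h | ⟨x, y, h⟩⟩
    · left; subst h; rfl
    · right; subst h; exact ⟨x, y, rfl⟩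
  · rintro (rfl | ⟨x, y, rfl⟩)
    · exact ⟨_, vInf_ne, rfl, Or.inl rfl⟩
    · exact ⟨_, vP_ne x y, rfl, Or.inr ⟨x, y, rfl⟩⟩

theorem pInf_mem : pInf F ∈ Cfsg.suzukiOvoid F m := (mem_ovoid_iff _).mpr (Or.inl rfl)

theorem pt_mem (x y : F) : pt m x y ∈ Cfsg.suzukiOvoid F m :=
  (mem_ovoid_iff _).mpr (Or.inr ⟨x, y, rfl⟩)

theorem pt_ne_inf (x y : F) : pt m x y ≠ pInf F := by
  intro h
  unfold pt pInf at h
  rw [Projectivization.mk_eq_mk_iff'] at h
  obtain ⟨a, ha⟩ := h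
  have := congrFun ha 3
  simp [vP, vInf] at this

theorem pt_inj {x y x' y' : F} (h : pt m x y = pt m x' y') : x = x' ∧ y = y' := by
  unfold pt at h
  rw [Projectivization.mk_eq_mk_iff'] at h
  obtain ⟨a, ha⟩ := h
  have h3 := congrFun ha 3
  have h2 := congrFun ha 2
  have h1 := congrFun ha 1
  simp [vP] at h1 h2 h3
  subst h3
  simp at h1 h2
  exact ⟨h2.symm, h1.symm⟩

theorem smul_mk_eq_iff (g : SpecialLinearGroup (Fin 4) F) (v w : Fin 4 → F) (hv : v ≠ 0)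
    (hw : w ≠ 0) :
    g • Projectivization.mk F v hv = Projectivization.mk F w hw ↔ ∃ c : F, g.1 *ᵥ v = c • w := by
  rw [Projectivization.smul_mk, Projectivization.mk_eq_mk_iff']
  constructor
  · rintro ⟨c, hc⟩; exact ⟨c, hc.symm⟩
  · rintro ⟨c, hc⟩; exact ⟨c, hc.symm⟩

theorem smul_mk_eq (g : SpecialLinearGroup (Fin 4) F) (v w : Fin 4 → F) (hv : v ≠ 0)
    (hw : w ≠ 0) (c : F) (h : g.1 *ᵥ v = c • w) :
    g • Projectivization.mk F v hv = Projectivization.mk F w hw :=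
  (smul_mk_eq_iff g v w hv hw).mpr ⟨c, h⟩

/-- translation matrices -/
def mS (m : ℕ) (a b : F) : Matrix (Fin 4) (Fin 4) F :=
  !![1, a, b + th m a * a, fS m a b; 0, 1, th m a, b; 0, 0, 1, a; 0, 0, 0, 1]

/-- torus matrices -/
def mT (m : ℕ) (a : F) : Matrix (Fin 4) (Fin 4) F :=
  !![th m a * a, 0, 0, 0; 0, a, 0, 0; 0, 0, a⁻¹, 0; 0, 0, 0, (th m a * a)⁻¹]

/-- the Weyl element -/
def mW (F : Type*) [Field F] [Fintype F] : Matrix (Fin 4) (Fin 4) F :=
  !![0, 0, 0, 1; 0, 0, 1, 0; 0, 1, 0, 0; 1, 0, 0, 0]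

theorem det_mS (a b : F) : (mS m a b).det = 1 := by
  rw [Matrix.det_of_isUpperTriangular]
  · simp [mS, Fin.prod_univ_four]
  · intro i j hij
    fin_cases i <;> fin_cases j <;> simp_all [mS]

theorem det_mT {a : F} (ha : a ≠ 0) : (mT m a).det = 1 := by
  have hth : th m a ≠ 0 := fun h => ha (th_eq_zero.mp h)
  rw [Matrix.det_of_isUpperTriangular]
  · simp [mT, Fin.prod_univ_four]
    field_simp
  · intro i j hij
    fin_cases i <;> fin_cases j <;> simp_all [mT]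

theorem mW_mul_mW : mW F * mW F = 1 := by
  ext i j
  fin_cases i <;> fin_cases j <;> simp [mW, Matrix.mul_apply, Fin.sum_univ_four]

theorem det_mW (hF : Fintype.card F = 2 ^ (2 * m + 1)) : (mW F).det = 1 := by
  apply sq_inj hF
  rw [one_pow, sq, ← Matrix.det_mul, mW_mul_mW, Matrix.det_one]

/-- translations in `SL₄` -/
def sS (m : ℕ) (a b : F) : SpecialLinearGroup (Fin 4) F := ⟨mS m a b, det_mS a b⟩

/-- torus elements in `SL₄` -/
noncomputable def sT (m : ℕ) (a : Fˣ) : SpecialLinearGroup (Fin 4) F :=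
  ⟨mT m (a : F), det_mT a.ne_zero⟩

/-- the Weyl element in `SL₄` -/
def sW (hF : Fintype.card F = 2 ^ (2 * m + 1)) : SpecialLinearGroup (Fin 4) F :=
  ⟨mW F, det_mW hF⟩

theorem mS_mulVec_inf (a b : F) : mS m a b *ᵥ vInf F = vInf F := by
  ext i
  fin_cases i <;> simp [mS, vInf, Matrix.mulVec, dotProduct, Fin.sum_univ_four]

theorem mS_mulVec_P (hF : Fintype.card F = 2 ^ (2 * m + 1)) (a b x y : F) :
    mS m a b *ᵥ vP m x y = vP m (x + a) (y + th m a * x + b) := by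
  ext i
  fin_cases i
  · simp [mS, vP, Matrix.mulVec, dotProduct, Fin.sum_univ_four]
    rw [fS_trans hF] <;> ring
  · simp [mS, vP, Matrix.mulVec, dotProduct, Fin.sum_univ_four] <;> ring
  · simp [mS, vP, Matrix.mulVec, dotProduct, Fin.sum_univ_four]
  · simp [mS, vP, Matrix.mulVec, dotProduct, Fin.sum_univ_four]

theorem mT_mulVec_inf (a : F) : mT m a *ᵥ vInf F = (th m a * a) • vInf F := by
  ext i
  fin_cases i <;> simp [mT, vInf, Matrix.mulVec, dotProduct, Fin.sum_univ_four]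

theorem mT_mulVec_P (hF : Fintype.card F = 2 ^ (2 * m + 1)) {a : F} (ha : a ≠ 0) (x y : F) :
    mT m a *ᵥ vP m x y = (th m a * a)⁻¹ • vP m (th m a * x) (th m a * a ^ 2 * y) := by
  have hth : th m a ≠ 0 := fun h => ha (th_eq_zero.mp h)
  ext i
  fin_cases i
  · simp [mT, vP, Matrix.mulVec, dotProduct, Fin.sum_univ_four]
    rw [fS_torus hF]; field_simp
  · simp [mT, vP, Matrix.mulVec, dotProduct, Fin.sum_univ_four]; field_simp
  · simp [mT, vP, Matrix.mulVec, dotProduct, Fin.sum_univ_four]; field_simp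
  · simp [mT, vP, Matrix.mulVec, dotProduct, Fin.sum_univ_four]

theorem mW_mulVec_inf : mW F *ᵥ vInf F = vP m 0 0 := by
  ext i
  fin_cases i <;> simp [mW, vInf, vP, fS_zero, Matrix.mulVec, dotProduct, Fin.sum_univ_four]

theorem mW_mulVec_zero : mW F *ᵥ vP m 0 0 = vInf F := by
  ext i
  fin_cases i <;> simp [mW, vInf, vP, fS_zero, Matrix.mulVec, dotProduct, Fin.sum_univ_four]

theorem mW_mulVec_P (hF : Fintype.card F = 2 ^ (2 * m + 1)) (x y : F) (hf : fS m x y ≠ 0) :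
    mW F *ᵥ vP m x y = fS m x y • vP m (y / fS m x y) (x / fS m x y) := by
  ext i
  fin_cases i
  · simp [mW, vP, Matrix.mulVec, dotProduct, Fin.sum_univ_four]
    rw [fS_inv hF x y hf]
  · simp [mW, vP, Matrix.mulVec, dotProduct, Fin.sum_univ_four]; field_simp
  · simp [mW, vP, Matrix.mulVec, dotProduct, Fin.sum_univ_four]; field_simp
  · simp [mW, vP, Matrix.mulVec, dotProduct, Fin.sum_univ_four]

theorem sS_smul_inf (a b : F) : sS m a b • pInf F = pInf F :=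
  smul_mk_eq _ _ _ _ _ 1 (by rw [one_smul]; exact mS_mulVec_inf a b)

theorem sS_smul_pt (hF : Fintype.card F = 2 ^ (2 * m + 1)) (a b x y : F) :
    sS m a b • pt m x y = pt m (x + a) (y + th m a * x + b) :=
  smul_mk_eq _ _ _ _ _ 1 (by rw [one_smul]; exact mS_mulVec_P hF a b x y)

theorem sT_smul_inf (a : Fˣ) : sT m a • pInf F = pInf F :=
  smul_mk_eq _ _ _ _ _ _ (mT_mulVec_inf (a : F))

theorem sT_smul_pt (hF : Fintype.card F = 2 ^ (2 * m + 1)) (a : Fˣ) (x y : F) :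
    sT m a • pt m x y = pt m (th m (a : F) * x) (th m (a : F) * (a : F) ^ 2 * y) :=
  smul_mk_eq _ _ _ _ _ _ (mT_mulVec_P hF a.ne_zero x y)

theorem sW_smul_inf (hF : Fintype.card F = 2 ^ (2 * m + 1)) : sW hF • pInf F = pt m 0 0 :=
  smul_mk_eq _ _ _ _ _ 1 (by rw [one_smul]; exact mW_mulVec_inf)

theorem sW_smul_zero (hF : Fintype.card F = 2 ^ (2 * m + 1)) : sW hF • pt m 0 0 = pInf F :=
  smul_mk_eq _ _ _ _ _ 1 (by rw [one_smul]; exact mW_mulVec_zero)

theorem sW_smul_pt (hF : Fintype.card F = 2 ^ (2 * m + 1)) (x y : F) (hf : fS m x y ≠ 0) :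
    sW hF • pt m x y = pt m (y / fS m x y) (x / fS m x y) :=
  smul_mk_eq _ _ _ _ _ _ (mW_mulVec_P hF x y hf)

theorem ovoid_finite : (Cfsg.suzukiOvoid F m).Finite := Set.toFinite _

theorem mem_Sz_of (g : SpecialLinearGroup (Fin 4) F)
    (h : ∀ p ∈ Cfsg.suzukiOvoid F m, g • p ∈ Cfsg.suzukiOvoid F m) : g ∈ Cfsg.Sz F m := by
  rw [MulAction.mem_stabilizer_set_iff_smul_set_subset ovoid_finite]
  rintro _ ⟨p, hp, rfl⟩
  exact h p hp

theorem smul_mem_ovoid {g : SpecialLinearGroup (Fin 4) F} (hg : g ∈ Cfsg.Sz F m)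
    {p : ℙ F (Fin 4 → F)} (hp : p ∈ Cfsg.suzukiOvoid F m) : g • p ∈ Cfsg.suzukiOvoid F m := by
  have h : g • Cfsg.suzukiOvoid F m = Cfsg.suzukiOvoid F m := hg
  rw [← h]
  exact Set.smul_mem_smul_set hp

theorem sS_mem (hF : Fintype.card F = 2 ^ (2 * m + 1)) (a b : F) : sS m a b ∈ Cfsg.Sz F m := by
  apply mem_Sz_of
  intro p hp
  rcases (mem_ovoid_iff p).mp hp with rfl | ⟨x, y, rfl⟩
  · rw [sS_smul_inf]; exact pInf_mem
  · rw [sS_smul_pt hF]; exact pt_mem _ _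

theorem sT_mem (hF : Fintype.card F = 2 ^ (2 * m + 1)) (a : Fˣ) : sT m a ∈ Cfsg.Sz F m := by
  apply mem_Sz_of
  intro p hp
  rcases (mem_ovoid_iff p).mp hp with rfl | ⟨x, y, rfl⟩
  · rw [sT_smul_inf]; exact pInf_mem
  · rw [sT_smul_pt hF]; exact pt_mem _ _

theorem sW_mem (hF : Fintype.card F = 2 ^ (2 * m + 1)) : sW hF ∈ Cfsg.Sz F m := by
  apply mem_Sz_of
  intro p hp
  rcases (mem_ovoid_iff p).mp hp with rfl | ⟨x, y, rfl⟩
  · rw [sW_smul_inf]; exact pt_mem _ _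
  · by_cases hf : fS m x y = 0
    · obtain ⟨rfl, rfl⟩ := fS_eq_zero hF hf
      rw [sW_smul_zero]; exact pInf_mem
    · rw [sW_smul_pt hF x y hf]; exact pt_mem _ _

end Pts

end Cfsg.Agent.Lib.Helper2.SzL
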