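import Mathlib
import Cfsg.Prelude.Def_LieExceptional
import Cfsg.Agent.Lib.Helper2.Sz2

set_option autoImplicit false

namespace Cfsg.Agent.Lib.Helper2.SzL

open Matrix
open scoped LinearAlgebra.Projectivization Pointwise

section Stab

variable {F : Type*} [Field F] [Fintype F] {m : ℕ}

/-- the key identity satisfied by a matrix mapping affine ovoid points to affine ovoid points -/
theorem star_identity (g : Matrix (Fin 4) (Fin 4) F)
    (h10 : g 1 0 = 0) (h20 : g 2 0 = 0) (h30 : g 3 0 = 0)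
    (h03 : g 0 3 = 0) (h13 : g 1 3 = 0) (h23 : g 2 3 = 0)
    (x y x' y' c : F) (h : g *ᵥ vP m x y = c • vP m x' y') :
    c = g 3 1 * y + g 3 2 * x + g 3 3 ∧
    th m c * c * (g 0 0 * fS m x y + g 0 1 * y + g 0 2 * x) =
      th m c * (g 2 1 * y + g 2 2 * x) * (g 1 1 * y + g 1 2 * x) +
        th m (g 2 1 * y + g 2 2 * x) * (g 2 1 * y + g 2 2 * x) ^ 2 +
        c ^ 2 * th m (g 1 1 * y + g 1 2 * x) := by
  have e0 := congrFun h 0
  have e1 := congrFun h 1
  have e2 := congrFun h 2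
  have e3 := congrFun h 3
  simp [vP, Matrix.mulVec, dotProduct, Fin.sum_univ_four, h10, h20, h30, h03, h13, h23]
    at e0 e1 e2 e3
  refine ⟨e3.symm, ?_⟩
  rw [e1, e2, e0, th_mul, th_mul, fS_eq x' y']
  ring

theorem diag_of_fix (hm : 1 ≤ m) (hF : Fintype.card F = 2 ^ (2 * m + 1))
    (g : Matrix (Fin 4) (Fin 4) F) (hdet : g.det = 1)
    (h10 : g 1 0 = 0) (h20 : g 2 0 = 0) (h30 : g 3 0 = 0)
    (h03 : g 0 3 = 0) (h13 : g 1 3 = 0) (h23 : g 2 3 = 0)
    (hO : ∀ x y : F, ∃ x' y' c : F, c ≠ 0 ∧ g *ᵥ vP m x y = c • vP m x' y') :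
    ∃ a : F, a ≠ 0 ∧ g = mT m a := by
  have h2 := two_eq_zero hF
  obtain ⟨hσ4, hσq⟩ := sigma_bounds hm hF
  -- the star identity for all x y
  have star : ∀ x y : F, g 3 1 * y + g 3 2 * x + g 3 3 ≠ 0 ∧
      th m (g 3 1 * y + g 3 2 * x + g 3 3) * (g 3 1 * y + g 3 2 * x + g 3 3) *
        (g 0 0 * fS m x y + g 0 1 * y + g 0 2 * x) =
      th m (g 3 1 * y + g 3 2 * x + g 3 3) * (g 2 1 * y + g 2 2 * x) * (g 1 1 * y + g 1 2 * x) +
        th m (g 2 1 * y + g 2 2 * x) * (g 2 1 * y + g 2 2 * x) ^ 2 +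
        (g 3 1 * y + g 3 2 * x + g 3 3) ^ 2 * th m (g 1 1 * y + g 1 2 * x) := by
    intro x y
    obtain ⟨x', y', c, hc, h⟩ := hO x y
    obtain ⟨e, hs⟩ := star_identity g h10 h20 h30 h03 h13 h23 x y x' y' c h
    rw [e] at hc hs
    exact ⟨hc, hs⟩
  -- step 1
  have h31 : g 3 1 = 0 := by
    by_contra hne
    have := (star 0 (g 3 3 / g 3 1)).1
    apply this
    field_simp
    linear_combination (g 3 3) * h2
  have h32 : g 3 2 = 0 := by
    by_contra hne
    have := (star (g 3 3 / g 3 2) 0).1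
    apply this
    field_simp
    linear_combination (g 3 3) * h2
  have hμ : g 3 3 ≠ 0 := by
    have := (star 0 0).1
    simpa [h31, h32] using this
  have hthμ : th m (g 3 3) ≠ 0 := fun h => hμ (th_eq_zero.mp h)
  have star' : ∀ x y : F,
      th m (g 3 3) * (g 3 3) * (g 0 0 * fS m x y + g 0 1 * y + g 0 2 * x) =
      th m (g 3 3) * (g 2 1 * y + g 2 2 * x) * (g 1 1 * y + g 1 2 * x) +
        th m (g 2 1 * y + g 2 2 * x) * (g 2 1 * y + g 2 2 * x) ^ 2 +
        (g 3 3) ^ 2 * th m (g 1 1 * y + g 1 2 * x) := by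
    intro x y
    have := (star x y).2
    simpa [h31, h32] using this
  -- step 2 : y = 0
  have s2 : ∀ x : F, (th m (g 3 3) * g 3 3 * g 0 2) * x + (th m (g 3 3) * g 2 2 * g 1 2) * x ^ 2 +
      (g 3 3 ^ 2 * th m (g 1 2)) * x ^ (2 ^ (m + 1)) +
      (th m (g 3 3) * g 3 3 * g 0 0 + th m (g 2 2) * g 2 2 ^ 2) * x ^ (2 ^ (m + 1) + 2) = 0 := by
    intro x
    have h := add_eq_zero_of_eq hF (star' x 0)
    simp only [fS_eq, th_zero, th_mul, mul_zero, add_zero, zero_add] at h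
    rw [pow_add x (2 ^ (m + 1)) 2, th_def x]
    linear_combination h
  obtain ⟨p1, p2, p3, p4⟩ := poly4 hσ4 hσq _ _ _ _ s2
  have h02 : g 0 2 = 0 := by
    rcases mul_eq_zero.mp p1 with h | h
    · exact absurd h (mul_ne_zero hthμ hμ)
    · exact h
  have h12 : g 1 2 = 0 := by
    rcases mul_eq_zero.mp p3 with h | h
    · exact absurd h (pow_ne_zero 2 hμ)
    · exact th_eq_zero.mp h
  have r2 : th m (g 3 3) * g 3 3 * g 0 0 = th m (g 2 2) * g 2 2 ^ 2 := eq_of_add_eq_zero hF p4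
  -- step 3 : x = 0
  have s3 : ∀ y : F, (th m (g 3 3) * g 3 3 * g 0 1) * y + (th m (g 3 3) * g 2 1 * g 1 1) * y ^ 2 +
      (th m (g 3 3) * g 3 3 * g 0 0 + g 3 3 ^ 2 * th m (g 1 1)) * y ^ (2 ^ (m + 1)) +
      (th m (g 2 1) * g 2 1 ^ 2) * y ^ (2 ^ (m + 1) + 2) = 0 := by
    intro y
    have h := add_eq_zero_of_eq hF (star' 0 y)
    simp only [fS_eq, th_zero, th_mul, mul_zero, add_zero, zero_add, zero_mul] at h
    rw [pow_add y (2 ^ (m + 1)) 2, th_def y]
    linear_combination h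
  obtain ⟨q1, q2, q3, q4⟩ := poly4 hσ4 hσq _ _ _ _ s3
  have h01 : g 0 1 = 0 := by
    rcases mul_eq_zero.mp q1 with h | h
    · exact absurd h (mul_ne_zero hthμ hμ)
    · exact h
  have h21 : g 2 1 = 0 := by
    rcases mul_eq_zero.mp q4 with h | h
    · exact th_eq_zero.mp h
    · exact (pow_eq_zero_iff (by norm_num)).mp h
  have r3 : th m (g 3 3) * g 3 3 * g 0 0 = g 3 3 ^ 2 * th m (g 1 1) := eq_of_add_eq_zero hF q3
  -- step 4 : x = y = 1
  have r4 : g 3 3 * g 0 0 = g 2 2 * g 1 1 := by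
    have h := star' 1 1
    simp only [fS_eq, th_one, h01, h02, h12, h21, mul_one, one_pow, zero_add, add_zero,
      mul_zero] at h
    have h' : th m (g 3 3) * (g 3 3 * g 0 0) = th m (g 3 3) * (g 2 2 * g 1 1) := by
      linear_combination h - r2 - r3
    exact mul_left_cancel₀ hthμ h'
  -- determinant
  have hdet' : g 0 0 * g 1 1 * g 2 2 * g 3 3 = 1 := by
    rw [← hdet, Matrix.det_of_isUpperTriangular]
    · simp [Fin.prod_univ_four]
    · intro i j hij
      fin_cases i <;> fin_cases j <;> simp_all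
  have r5 : g 3 3 * g 0 0 = 1 := by
    apply sq_inj hF
    rw [one_pow]
    linear_combination (g 3 3 * g 0 0) * r4 + hdet'
  have r6 : g 2 2 * g 1 1 = 1 := by rw [← r4, r5]
  have h11 : g 1 1 ≠ 0 := by
    intro h; rw [h, mul_zero] at r6; exact zero_ne_one r6
  have h22 : g 2 2 ≠ 0 := by
    intro h; rw [h, zero_mul] at r6; exact zero_ne_one r6
  have r7 : th m (g 3 3) = th m (g 2 2) * g 2 2 ^ 2 := by
    have : th m (g 3 3) * (g 3 3 * g 0 0) = th m (g 2 2) * g 2 2 ^ 2 := by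
      linear_combination r2
    rwa [r5, mul_one] at this
  have r8 : g 3 3 = g 2 2 * th m (g 2 2) := by
    apply sq_inj hF
    have := congrArg (th m) r7
    rw [th_th hF, th_mul, th_th hF, th_pow] at this
    linear_combination this
  refine ⟨g 1 1, h11, ?_⟩
  have e22 : g 2 2 = (g 1 1)⁻¹ := eq_inv_of_mul_eq_one_left r6
  have hth11 : th m (g 1 1) ≠ 0 := fun h => h11 (th_eq_zero.mp h)
  have e33 : g 3 3 = (th m (g 1 1) * g 1 1)⁻¹ := by
    rw [r8, e22, th_inv, mul_inv]; ring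
  have e00 : g 0 0 = th m (g 1 1) * g 1 1 := by
    have : g 0 0 = (g 3 3)⁻¹ := eq_inv_of_mul_eq_one_right r5
    rw [this, e33, inv_inv]
  ext i j
  fin_cases i <;> fin_cases j <;>
    simp [mT, h01, h02, h03, h10, h12, h13, h20, h21, h23, h30, h31, h32, e00, e22, e33]

end Stab

end Cfsg.Agent.Lib.Helper2.SzL
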