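import Mathlib
import Cfsg.Prelude.Def_LieExceptional
import Cfsg.Agent.Lib.Helper2.Sz3

set_option autoImplicit false

namespace Cfsg.Agent.Lib.Helper2.SzL

open Matrix
open scoped LinearAlgebra.Projectivization Pointwise

section Grp

variable {F : Type*} [Field F] [Fintype F] {m : ℕ}

theorem sW_mul_sW (hF : Fintype.card F = 2 ^ (2 * m + 1)) : sW hF * sW hF = 1 :=
  Subtype.ext mW_mul_mW

theorem sW_inv (hF : Fintype.card F = 2 ^ (2 * m + 1)) : (sW hF)⁻¹ = sW hF :=
  inv_eq_of_mul_eq_one_left (sW_mul_sW hF)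

theorem sS_smul_zero (hF : Fintype.card F = 2 ^ (2 * m + 1)) (a b : F) :
    sS m a b • pt m (0 : F) 0 = pt m a b := by
  rw [sS_smul_pt hF]; simp

/-- an element of the ovoid stabiliser fixing `∞` and the origin is a torus element -/
theorem fix_two (hm : 1 ≤ m) (hF : Fintype.card F = 2 ^ (2 * m + 1))
    (g : SpecialLinearGroup (Fin 4) F) (hg : g ∈ Cfsg.Sz F m)
    (hinf : g • pInf F = pInf F) (h0 : g • pt m (0 : F) 0 = pt m (0 : F) 0) : ∃ a : Fˣ, g = sT m a := by
  obtain ⟨c, hc⟩ := (smul_mk_eq_iff g (vInf F) (vInf F) vInf_ne vInf_ne).mp hinf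
  have h10 : g.1 1 0 = 0 := by
    have := congrFun hc 1
    simpa [vInf, Matrix.mulVec, dotProduct, Fin.sum_univ_four] using this
  have h20 : g.1 2 0 = 0 := by
    have := congrFun hc 2
    simpa [vInf, Matrix.mulVec, dotProduct, Fin.sum_univ_four] using this
  have h30 : g.1 3 0 = 0 := by
    have := congrFun hc 3
    simpa [vInf, Matrix.mulVec, dotProduct, Fin.sum_univ_four] using this
  obtain ⟨c', hc'⟩ := (smul_mk_eq_iff g (vP m 0 0) (vP m 0 0) (vP_ne 0 0) (vP_ne 0 0)).mp h0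
  have h03 : g.1 0 3 = 0 := by
    have := congrFun hc' 0
    simpa [vP, fS_zero, Matrix.mulVec, dotProduct, Fin.sum_univ_four] using this
  have h13 : g.1 1 3 = 0 := by
    have := congrFun hc' 1
    simpa [vP, fS_zero, Matrix.mulVec, dotProduct, Fin.sum_univ_four] using this
  have h23 : g.1 2 3 = 0 := by
    have := congrFun hc' 2
    simpa [vP, fS_zero, Matrix.mulVec, dotProduct, Fin.sum_univ_four] using this
  have hO : ∀ x y : F, ∃ x' y' c : F, c ≠ 0 ∧ g.1 *ᵥ vP m x y = c • vP m x' y' := by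
    intro x y
    have hmem := smul_mem_ovoid hg (pt_mem (m := m) x y)
    rcases (mem_ovoid_iff _).mp hmem with h | ⟨x', y', h⟩
    · exfalso
      exact pt_ne_inf x y (MulAction.injective g (h.trans hinf.symm))
    · obtain ⟨c, hc⟩ := (smul_mk_eq_iff g _ _ (vP_ne x y) (vP_ne x' y')).mp h
      refine ⟨x', y', c, ?_, hc⟩
      intro hc0
      rw [hc0, zero_smul] at hc
      have := Matrix.eq_zero_of_mulVec_eq_zero (by rw [g.2]; exact one_ne_zero) hc
      exact vP_ne x y this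
  obtain ⟨a, ha, hga⟩ := diag_of_fix hm hF g.1 g.2 h10 h20 h30 h03 h13 h23 hO
  exact ⟨Units.mk0 a ha, Subtype.ext hga⟩

/-- an element of the ovoid stabiliser fixing `∞` is a translation times a torus element -/
theorem fix_inf (hm : 1 ≤ m) (hF : Fintype.card F = 2 ^ (2 * m + 1))
    (g : SpecialLinearGroup (Fin 4) F) (hg : g ∈ Cfsg.Sz F m)
    (hinf : g • pInf F = pInf F) : ∃ (a b : F) (t : Fˣ), g = sS m a b * sT m t := by
  have hmem := smul_mem_ovoid hg (pt_mem (m := m) (0 : F) 0)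
  rcases (mem_ovoid_iff _).mp hmem with h | ⟨a, b, h⟩
  · exfalso
    exact pt_ne_inf 0 0 (MulAction.injective g (h.trans hinf.symm))
  · have h1 : ((sS m a b)⁻¹ * g) • pInf F = pInf F := by
      rw [mul_smul, hinf, inv_smul_eq_iff, sS_smul_inf]
    have h2 : ((sS m a b)⁻¹ * g) • pt m (0 : F) 0 = pt m (0 : F) 0 := by
      rw [mul_smul, h, inv_smul_eq_iff, sS_smul_zero hF]
    have hmem2 : (sS m a b)⁻¹ * g ∈ Cfsg.Sz F m :=
      Subgroup.mul_mem _ (Subgroup.inv_mem _ (sS_mem hF a b)) hg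
    obtain ⟨t, ht⟩ := fix_two hm hF _ hmem2 h1 h2
    exact ⟨a, b, t, by rw [← ht, mul_inv_cancel_left]⟩

/-- Bruhat decomposition of the ovoid stabiliser -/
theorem decomp (hm : 1 ≤ m) (hF : Fintype.card F = 2 ^ (2 * m + 1))
    (g : SpecialLinearGroup (Fin 4) F) (hg : g ∈ Cfsg.Sz F m) :
    (∃ (a b : F) (t : Fˣ), g = sS m a b * sT m t) ∨
    (∃ (a b a' b' : F) (t : Fˣ), g = sS m a b * sW hF * (sS m a' b' * sT m t)) := by
  have hmem := smul_mem_ovoid hg (pInf_mem (F := F) (m := m))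
  rcases (mem_ovoid_iff _).mp hmem with h | ⟨a, b, h⟩
  · exact Or.inl (fix_inf hm hF g hg h)
  · right
    have h1 : (sW hF * (sS m a b)⁻¹ * g) • pInf F = pInf F := by
      rw [mul_smul, mul_smul, h]
      have : (sS m a b)⁻¹ • pt m a b = pt m (0 : F) 0 := by
        rw [inv_smul_eq_iff, sS_smul_zero hF]
      rw [this, sW_smul_zero]
    have hmem2 : sW hF * (sS m a b)⁻¹ * g ∈ Cfsg.Sz F m :=
      Subgroup.mul_mem _ (Subgroup.mul_mem _ (sW_mem hF) (Subgroup.inv_mem _ (sS_mem hF a b))) hg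
    obtain ⟨a', b', t, ht⟩ := fix_inf hm hF _ hmem2 h1
    refine ⟨a, b, a', b', t, ?_⟩
    rw [← ht]
    have hW := sW_mul_sW hF
    calc g = sS m a b * (sW hF * sW hF) * ((sS m a b)⁻¹ * g) := by rw [hW]; group
      _ = sS m a b * sW hF * (sW hF * (sS m a b)⁻¹ * g) := by group

/-! ### The invariant form -/

theorem form_mS (hF : Fintype.card F = 2 ^ (2 * m + 1)) (a b : F) :
    (mS m a b).transpose * Cfsg.suzukiForm F * mS m a b = Cfsg.suzukiForm F := by
  have h2 := two_eq_zero hF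
  ext i j
  fin_cases i <;> fin_cases j <;>
    simp [mS, Cfsg.suzukiForm, Matrix.mul_apply, Fin.sum_univ_four] <;>
    (rw [← sub_eq_zero]; ring_nf; simp [h2])

theorem form_mT {a : F} (ha : a ≠ 0) :
    (mT m a).transpose * Cfsg.suzukiForm F * mT m a = Cfsg.suzukiForm F := by
  have hth : th m a ≠ 0 := fun h => ha (th_eq_zero.mp h)
  ext i j
  fin_cases i <;> fin_cases j <;>
    simp [mT, Cfsg.suzukiForm, Matrix.mul_apply, Fin.sum_univ_four, ha, hth] <;> field_simp

theorem form_mW :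
    (mW F).transpose * Cfsg.suzukiForm F * mW F = Cfsg.suzukiForm F := by
  ext i j
  fin_cases i <;> fin_cases j <;>
    simp [mW, Cfsg.suzukiForm, Matrix.mul_apply, Fin.sum_univ_four]

theorem form_mul {A B : Matrix (Fin 4) (Fin 4) F}
    (hA : A.transpose * Cfsg.suzukiForm F * A = Cfsg.suzukiForm F)
    (hB : B.transpose * Cfsg.suzukiForm F * B = Cfsg.suzukiForm F) :
    (A * B).transpose * Cfsg.suzukiForm F * (A * B) = Cfsg.suzukiForm F := by
  rw [Matrix.transpose_mul]
  calc B.transpose * A.transpose * Cfsg.suzukiForm F * (A * B)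
      = B.transpose * (A.transpose * Cfsg.suzukiForm F * A) * B := by
        simp only [Matrix.mul_assoc]
    _ = Cfsg.suzukiForm F := by rw [hA, hB]

theorem form_of_mem (hm : 1 ≤ m) (hF : Fintype.card F = 2 ^ (2 * m + 1))
    (g : SpecialLinearGroup (Fin 4) F) (hg : g ∈ Cfsg.Sz F m) :
    (g : Matrix (Fin 4) (Fin 4) F).transpose * Cfsg.suzukiForm F *
      (g : Matrix (Fin 4) (Fin 4) F) = Cfsg.suzukiForm F := by
  rcases decomp hm hF g hg with ⟨a, b, t, rfl⟩ | ⟨a, b, a', b', t, rfl⟩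
  · exact form_mul (form_mS hF a b) (form_mT t.ne_zero)
  · exact form_mul (form_mul (form_mS hF a b) form_mW)
      (form_mul (form_mS hF a' b') (form_mT t.ne_zero))

end Grp

end Cfsg.Agent.Lib.Helper2.SzL
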