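import Mathlib
import Cfsg.Prelude.Def_LieExceptional
import Cfsg.Agent.Lib.Helper2.Sz4

set_option autoImplicit false

namespace Cfsg.Agent.Lib.Helper2.SzL

open Matrix
open scoped LinearAlgebra.Projectivization Pointwise

section Cnt

variable {F : Type*} [Field F] [Fintype F] {m : ℕ}

theorem mT_mul (a b : F) : mT m (a * b) = mT m a * mT m b := by
  ext i j
  fin_cases i <;> fin_cases j <;>
    simp [mT, Matrix.mul_apply, Fin.sum_univ_four, th_mul, mul_inv] <;> ring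

theorem mT_one : mT m (1 : F) = 1 := by
  ext i j
  fin_cases i <;> fin_cases j <;> simp [mT, th_one]

theorem sT_mul (a b : Fˣ) : sT m (a * b) = sT m a * sT m b :=
  Subtype.ext (by simp only [sT, Units.val_mul]; exact mT_mul _ _)

theorem sT_one : sT m (1 : Fˣ) = 1 :=
  Subtype.ext (by simp only [sT, Units.val_one]; exact mT_one)

theorem sT_inj {a b : Fˣ} (h : sT m a = sT m b) : a = b := by
  have h1 := congrArg (fun g : SpecialLinearGroup (Fin 4) F => g.1 1 1) h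
  simp [sT, mT] at h1
  exact Units.ext h1

theorem sT_smul_zero (hF : Fintype.card F = 2 ^ (2 * m + 1)) (a : Fˣ) :
    sT m a • pt m (0 : F) 0 = pt m (0 : F) 0 := by
  rw [sT_smul_pt hF]; simp

/-- the torus as a homomorphism into the Suzuki group -/
noncomputable def torusHom (hF : Fintype.card F = 2 ^ (2 * m + 1)) : Fˣ →* ↥(Cfsg.Sz F m) where
  toFun a := ⟨sT m a, sT_mem hF a⟩
  map_one' := Subtype.ext sT_one
  map_mul' a b := Subtype.ext (sT_mul a b)

theorem torusHom_coe (hF : Fintype.card F = 2 ^ (2 * m + 1)) (a : Fˣ) :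
    ((torusHom hF a : ↥(Cfsg.Sz F m)) : SpecialLinearGroup (Fin 4) F) = sT m a := rfl

theorem torusHom_injective (hF : Fintype.card F = 2 ^ (2 * m + 1)) :
    Function.Injective (torusHom (m := m) hF) := by
  intro a b h
  exact sT_inj (congrArg Subtype.val h)

/-- the two-point stabiliser is the torus -/
theorem twoPoint_iso (hm : 1 ≤ m) (hF : Fintype.card F = 2 ^ (2 * m + 1)) :
    Nonempty (↥(MulAction.stabilizer (Cfsg.Sz F m) (Cfsg.suzukiPointInfinity F) ⊓
        MulAction.stabilizer (Cfsg.Sz F m) (Cfsg.suzukiPointZero F)) ≃* Fˣ) := by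
  have hmem : ∀ a : Fˣ, torusHom (m := m) hF a ∈
      MulAction.stabilizer (Cfsg.Sz F m) (Cfsg.suzukiPointInfinity F) ⊓
        MulAction.stabilizer (Cfsg.Sz F m) (Cfsg.suzukiPointZero F) := by
    intro a
    refine Subgroup.mem_inf.mpr ⟨?_, ?_⟩
    · rw [MulAction.mem_stabilizer_iff, ← pInf_eq]
      exact sT_smul_inf a
    · rw [MulAction.mem_stabilizer_iff, ← pt_zero_eq (m := m)]
      exact sT_smul_zero hF a
  let f : Fˣ →* ↥(MulAction.stabilizer (Cfsg.Sz F m) (Cfsg.suzukiPointInfinity F) ⊓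
        MulAction.stabilizer (Cfsg.Sz F m) (Cfsg.suzukiPointZero F)) :=
    (torusHom (m := m) hF).codRestrict _ hmem
  have hf : Function.Bijective f := by
    constructor
    · intro a b h
      apply torusHom_injective hF
      exact congrArg Subtype.val h
    · rintro ⟨g, hg⟩
      obtain ⟨hg1, hg2⟩ := Subgroup.mem_inf.mp hg
      rw [MulAction.mem_stabilizer_iff, ← pInf_eq] at hg1
      rw [MulAction.mem_stabilizer_iff, ← pt_zero_eq (m := m)] at hg2
      obtain ⟨a, ha⟩ := fix_two hm hF g.1 g.2 hg1 hg2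
      refine ⟨a, ?_⟩
      apply Subtype.ext
      apply Subtype.ext
      exact ha.symm
  exact ⟨(MulEquiv.ofBijective f hf).symm⟩

/-- parametrisation of the stabiliser of `∞` -/
theorem stabInf_card (hm : 1 ≤ m) (hF : Fintype.card F = 2 ^ (2 * m + 1)) :
    Nat.card (MulAction.stabilizer (Cfsg.Sz F m) (Cfsg.suzukiPointInfinity F)) =
      (2 ^ (2 * m + 1)) ^ 2 * (2 ^ (2 * m + 1) - 1) := by
  have hmem : ∀ p : F × F × Fˣ, sS m p.1 p.2.1 * sT m p.2.2 ∈ Cfsg.Sz F m :=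
    fun p => Subgroup.mul_mem _ (sS_mem hF _ _) (sT_mem hF _)
  have hfix : ∀ p : F × F × Fˣ, (⟨_, hmem p⟩ : ↥(Cfsg.Sz F m)) ∈
      MulAction.stabilizer (Cfsg.Sz F m) (Cfsg.suzukiPointInfinity F) := by
    intro p
    rw [MulAction.mem_stabilizer_iff, ← pInf_eq]
    show (sS m p.1 p.2.1 * sT m p.2.2) • pInf F = pInf F
    rw [mul_smul, sT_smul_inf, sS_smul_inf]
  let f : F × F × Fˣ → ↥(MulAction.stabilizer (Cfsg.Sz F m) (Cfsg.suzukiPointInfinity F)) :=
    fun p => ⟨⟨_, hmem p⟩, hfix p⟩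
  have hf : Function.Bijective f := by
    constructor
    · rintro ⟨a, b, t⟩ ⟨a', b', t'⟩ h
      have h1 : sS m a b * sT m t = sS m a' b' * sT m t' :=
        congrArg (fun x : ↥(MulAction.stabilizer (Cfsg.Sz F m) (Cfsg.suzukiPointInfinity F)) =>
          x.1.1) h
      have h2 := congrArg (fun g : SpecialLinearGroup (Fin 4) F => g • pt m (0 : F) 0) h1
      simp only [mul_smul, sT_smul_zero hF, sS_smul_zero hF] at h2
      obtain ⟨rfl, rfl⟩ := pt_inj h2
      have h3 : sT m t = sT m t' := mul_left_cancel h1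
      rw [sT_inj h3]
    · rintro ⟨g, hg⟩
      rw [MulAction.mem_stabilizer_iff, ← pInf_eq] at hg
      obtain ⟨a, b, t, h⟩ := fix_inf hm hF g.1 g.2 hg
      refine ⟨(a, b, t), ?_⟩
      apply Subtype.ext
      apply Subtype.ext
      exact h.symm
  rw [← Nat.card_congr (Equiv.ofBijective f hf)]
  rw [Nat.card_prod, Nat.card_prod, Nat.card_units, Nat.card_eq_fintype_card, hF]
  ring

theorem ovoid_eq : Cfsg.suzukiOvoid F m =
    insert (pInf F) (Set.range (fun p : F × F => pt m p.1 p.2)) := by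
  ext p
  rw [mem_ovoid_iff]
  constructor
  · rintro (rfl | ⟨x, y, rfl⟩)
    · exact Set.mem_insert _ _
    · exact Set.mem_insert_of_mem _ ⟨(x, y), rfl⟩
  · rintro (rfl | ⟨⟨x, y⟩, rfl⟩)
    · exact Or.inl rfl
    · exact Or.inr ⟨x, y, rfl⟩

theorem ovoid_ncard (hF : Fintype.card F = 2 ^ (2 * m + 1)) :
    (Cfsg.suzukiOvoid F m).ncard = (2 ^ (2 * m + 1)) ^ 2 + 1 := by
  rw [ovoid_eq, Set.ncard_insert_of_notMem]
  · congr 1
    rw [Set.ncard_range_of_injective]
    · rw [Nat.card_prod, Nat.card_eq_fintype_card, hF]; ring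
    · rintro ⟨x, y⟩ ⟨x', y'⟩ h
      obtain ⟨rfl, rfl⟩ := pt_inj h
      rfl
  · rintro ⟨⟨x, y⟩, h⟩
    exact pt_ne_inf x y h

/-- for every ovoid point there is a group element moving it to `∞` -/
theorem exists_to_inf (hF : Fintype.card F = 2 ^ (2 * m + 1)) (u : ℙ F (Fin 4 → F))
    (hu : u ∈ Cfsg.suzukiOvoid F m) : ∃ g ∈ Cfsg.Sz F m, g • u = pInf F := by
  rcases (mem_ovoid_iff u).mp hu with rfl | ⟨a, b, rfl⟩
  · exact ⟨1, Subgroup.one_mem _, one_smul _ _⟩
  · refine ⟨sW hF * (sS m a b)⁻¹,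
      Subgroup.mul_mem _ (sW_mem hF) (Subgroup.inv_mem _ (sS_mem hF a b)), ?_⟩
    rw [mul_smul]
    have : (sS m a b)⁻¹ • pt m a b = pt m (0 : F) 0 := by
      rw [inv_smul_eq_iff, sS_smul_zero hF]
    rw [this, sW_smul_zero]

/-- double transitivity in normal form -/
theorem exists_to_inf_zero (hF : Fintype.card F = 2 ^ (2 * m + 1)) (u v : ℙ F (Fin 4 → F))
    (hu : u ∈ Cfsg.suzukiOvoid F m) (hv : v ∈ Cfsg.suzukiOvoid F m) (huv : u ≠ v) :
    ∃ g ∈ Cfsg.Sz F m, g • u = pInf F ∧ g • v = pt m (0 : F) 0 := by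
  obtain ⟨g1, hg1, h1⟩ := exists_to_inf hF u hu
  have hmem := smul_mem_ovoid hg1 hv
  rcases (mem_ovoid_iff _).mp hmem with h | ⟨c, d, h⟩
  · exfalso
    exact huv (MulAction.injective g1 (h1.trans h.symm))
  · refine ⟨(sS m c d)⁻¹ * g1, Subgroup.mul_mem _ (Subgroup.inv_mem _ (sS_mem hF c d)) hg1, ?_, ?_⟩
    · rw [mul_smul, h1, inv_smul_eq_iff, sS_smul_inf]
    · rw [mul_smul, h, inv_smul_eq_iff, sS_smul_zero hF]

theorem orbit_inf (hF : Fintype.card F = 2 ^ (2 * m + 1)) :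
    MulAction.orbit (Cfsg.Sz F m) (Cfsg.suzukiPointInfinity F) = Cfsg.suzukiOvoid F m := by
  ext p
  constructor
  · rintro ⟨g, rfl⟩
    exact smul_mem_ovoid g.2 pInf_mem
  · intro hp
    obtain ⟨g, hg, h⟩ := exists_to_inf hF p hp
    refine ⟨⟨g⁻¹, Subgroup.inv_mem _ hg⟩, ?_⟩
    show g⁻¹ • Cfsg.suzukiPointInfinity F = p
    rw [inv_smul_eq_iff, h]; rfl

theorem card_Sz (hm : 1 ≤ m) (hF : Fintype.card F = 2 ^ (2 * m + 1)) :
    Nat.card (Cfsg.Sz F m) =
      (2 ^ (2 * m + 1)) ^ 2 * ((2 ^ (2 * m + 1)) ^ 2 + 1) * (2 ^ (2 * m + 1) - 1) := by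
  rw [← Subgroup.card_mul_index
    (MulAction.stabilizer (Cfsg.Sz F m) (Cfsg.suzukiPointInfinity F)),
    MulAction.index_stabilizer, orbit_inf hF, ovoid_ncard hF, stabInf_card hm hF]
  ring

end Cnt

end Cfsg.Agent.Lib.Helper2.SzL
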