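import Mathlib
import Cfsg.Prelude.Def_LieExceptional
import Cfsg.Agent.Lib.Helper2.Sz5

set_option autoImplicit false

namespace Cfsg.Agent.Lib.Helper2.SzL

open Matrix
open scoped LinearAlgebra.Projectivization Pointwise

section Zas

variable {F : Type*} [Field F] [Fintype F] {m : ℕ}

theorem torus_fix_pt (hF : Fintype.card F = 2 ^ (2 * m + 1)) (t : Fˣ) (x y : F)
    (hxy : x ≠ 0 ∨ y ≠ 0) (h : sT m t • pt m x y = pt m x y) : t = 1 := by
  rw [sT_smul_pt hF] at h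
  obtain ⟨h1, h2⟩ := pt_inj h
  apply Units.ext
  rw [Units.val_one]
  rcases hxy with hx | hy
  · have h3 : th m (t : F) = 1 := by
      have : (th m (t : F) - 1) * x = 0 := by linear_combination h1
      rcases mul_eq_zero.mp this with h' | h'
      · linear_combination h'
      · exact absurd h' hx
    apply th_inj hF
    rw [h3, th_one]
  · have h3 : th m (t : F) * (t : F) ^ 2 = 1 := by
      have : (th m (t : F) * (t : F) ^ 2 - 1) * y = 0 := by linear_combination h2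
      rcases mul_eq_zero.mp this with h' | h'
      · linear_combination h'
      · exact absurd h' hy
    have h4 : (t : F) * th m (t : F) = 1 := by
      apply sq_inj hF
      have := congrArg (th m) h3
      rw [th_mul, th_th hF, th_pow, th_one] at this
      rw [one_pow]
      linear_combination this
    linear_combination h3 - (t : F) * h4

/-- an element of the ovoid stabiliser fixing three ovoid points is trivial -/
theorem eq_one_of_fix_three (hm : 1 ≤ m) (hF : Fintype.card F = 2 ^ (2 * m + 1))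
    (g : SpecialLinearGroup (Fin 4) F) (hg : g ∈ Cfsg.Sz F m) (u v w : ℙ F (Fin 4 → F))
    (hu : u ∈ Cfsg.suzukiOvoid F m) (hv : v ∈ Cfsg.suzukiOvoid F m)
    (hw : w ∈ Cfsg.suzukiOvoid F m) (huv : u ≠ v) (huw : u ≠ w) (hvw : v ≠ w)
    (h1 : g • u = u) (h2 : g • v = v) (h3 : g • w = w) : g = 1 := by
  obtain ⟨h, hh, e1, e2⟩ := exists_to_inf_zero hF u v hu hv huv
  have e1' : h⁻¹ • pInf F = u := by rw [inv_smul_eq_iff, e1]
  have e2' : h⁻¹ • pt m (0 : F) 0 = v := by rw [inv_smul_eq_iff, e2]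
  have f1 : (h * g * h⁻¹) • pInf F = pInf F := by
    rw [mul_smul, mul_smul, e1', h1, e1]
  have f2 : (h * g * h⁻¹) • pt m (0 : F) 0 = pt m (0 : F) 0 := by
    rw [mul_smul, mul_smul, e2', h2, e2]
  have hmem : h * g * h⁻¹ ∈ Cfsg.Sz F m :=
    Subgroup.mul_mem _ (Subgroup.mul_mem _ hh hg) (Subgroup.inv_mem _ hh)
  obtain ⟨t, ht⟩ := fix_two hm hF _ hmem f1 f2
  have hw' := smul_mem_ovoid hh hw
  rcases (mem_ovoid_iff _).mp hw' with e | ⟨x, y, e⟩
  · exfalso
    exact huw (MulAction.injective h (e1.trans e.symm))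
  · have hxy : x ≠ 0 ∨ y ≠ 0 := by
      by_contra hcon
      rw [not_or, not_not, not_not] at hcon
      obtain ⟨rfl, rfl⟩ := hcon
      exact hvw (MulAction.injective h (e2.trans e.symm))
    have e' : h⁻¹ • pt m x y = w := by rw [inv_smul_eq_iff, e]
    have f3 : (h * g * h⁻¹) • pt m x y = pt m x y := by
      rw [mul_smul, mul_smul, e', h3, e]
    rw [ht] at f3
    have ht1 := torus_fix_pt hF t x y hxy f3
    rw [ht1, sT_one] at ht
    have : g = h⁻¹ * (h * g * h⁻¹) * h := by group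
    rw [this, ht]; group

theorem exists_torus_ne_one (hm : 1 ≤ m) (hF : Fintype.card F = 2 ^ (2 * m + 1)) :
    ∃ t : Fˣ, t ≠ 1 := by
  have h1 : 1 < Nat.card Fˣ := by
    rw [Nat.card_units, Nat.card_eq_fintype_card, hF]
    have : 2 ^ 3 ≤ 2 ^ (2 * m + 1) := Nat.pow_le_pow_right (by norm_num) (by omega)
    omega
  haveI : Nontrivial Fˣ := Finite.one_lt_card_iff_nontrivial.mp h1
  exact exists_ne (1 : Fˣ)

theorem sT_ne_one {t : Fˣ} (ht : t ≠ 1) : sT m t ≠ 1 := by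
  intro h
  rw [← sT_one (m := m)] at h
  exact ht (sT_inj h)

theorem pt_zero_ne_inf : pt m (0 : F) 0 ≠ pInf F := pt_ne_inf 0 0

theorem zassenhaus (hm : 1 ≤ m) (hF : Fintype.card F = 2 ^ (2 * m + 1)) :
    Cfsg.IsZassenhausGroup (Cfsg.Sz F m) (Cfsg.suzukiOvoid F m) := by
  have three : ∀ g : Cfsg.Sz F m, ∀ a b c : Cfsg.suzukiOvoid F m, a ≠ b → b ≠ c → a ≠ c →
      g • a = a → g • b = b → g • c = c → g = 1 := by
    intro g a b c hab hbc hac h1 h2 h3
    apply Subtype.ext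
    exact eq_one_of_fix_three hm hF g.1 g.2 a.1 b.1 c.1 a.2 b.2 c.2
      (fun h => hab (Subtype.ext h)) (fun h => hac (Subtype.ext h)) (fun h => hbc (Subtype.ext h))
      (congrArg Subtype.val h1) (congrArg Subtype.val h2) (congrArg Subtype.val h3)
  obtain ⟨t, ht⟩ := exists_torus_ne_one hm hF
  have hτ1 : torusHom (m := m) hF t ≠ 1 := by
    intro h
    exact sT_ne_one ht (congrArg Subtype.val h)
  have hτinf : torusHom (m := m) hF t • (⟨pInf F, pInf_mem⟩ : Cfsg.suzukiOvoid F m) =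
      ⟨pInf F, pInf_mem⟩ := Subtype.ext (sT_smul_inf t)
  have hτzero : torusHom (m := m) hF t • (⟨pt m (0 : F) 0, pt_mem _ _⟩ : Cfsg.suzukiOvoid F m) =
      ⟨pt m (0 : F) 0, pt_mem _ _⟩ := Subtype.ext (sT_smul_zero hF t)
  have hne : (⟨pInf F, pInf_mem⟩ : Cfsg.suzukiOvoid F m) ≠ ⟨pt m (0 : F) 0, pt_mem _ _⟩ := by
    intro h
    exact pt_zero_ne_inf (congrArg Subtype.val h).symm
  refine ⟨?_, ?_, three, ?_, ?_⟩
  · -- faithful
    constructor
    intro g₁ g₂ h
    have hg : g₁⁻¹ * g₂ = 1 := by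
      have hfix : ∀ a : Cfsg.suzukiOvoid F m, (g₁⁻¹ * g₂) • a = a := by
        intro a
        rw [mul_smul, ← h a, inv_smul_smul]
      have hne2 : (⟨pInf F, pInf_mem⟩ : Cfsg.suzukiOvoid F m) ≠ ⟨pt m (1 : F) 0, pt_mem _ _⟩ := by
        intro h
        exact pt_ne_inf (1 : F) 0 (congrArg Subtype.val h).symm
      have hne3 : (⟨pt m (0 : F) 0, pt_mem _ _⟩ : Cfsg.suzukiOvoid F m) ≠
          ⟨pt m (1 : F) 0, pt_mem _ _⟩ := by
        intro h
        have := (pt_inj (congrArg Subtype.val h)).1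
        exact zero_ne_one this
      exact three _ _ _ _ hne hne3 hne2 (hfix _) (hfix _) (hfix _)
    exact (inv_mul_eq_one.mp hg)
  · -- 2-transitive
    rw [MulAction.is_two_pretransitive_iff]
    intro a b c d hab hcd
    obtain ⟨g1, hg1, e1, e2⟩ := exists_to_inf_zero hF a.1 b.1 a.2 b.2
      (fun h => hab (Subtype.ext h))
    obtain ⟨g2, hg2, e3, e4⟩ := exists_to_inf_zero hF c.1 d.1 c.2 d.2
      (fun h => hcd (Subtype.ext h))
    refine ⟨⟨g2⁻¹ * g1, Subgroup.mul_mem _ (Subgroup.inv_mem _ hg2) hg1⟩, ?_, ?_⟩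
    · apply Subtype.ext
      show (g2⁻¹ * g1) • a.1 = c.1
      rw [mul_smul, e1, inv_smul_eq_iff, e3]
    · apply Subtype.ext
      show (g2⁻¹ * g1) • b.1 = d.1
      rw [mul_smul, e2, inv_smul_eq_iff, e4]
  · exact ⟨_, hτ1, _, _, hne, hτinf, hτzero⟩
  · -- no regular normal subgroup
    intro N hN hNt
    by_contra hcon
    have hstab : ∀ a : Cfsg.suzukiOvoid F m, MulAction.stabilizer N a = ⊥ := by
      intro a
      by_contra h
      exact hcon ⟨a, h⟩
    obtain ⟨n, hn⟩ := hNt.exists_smul_eq (⟨pInf F, pInf_mem⟩ : Cfsg.suzukiOvoid F m)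
      ⟨pt m (0 : F) 0, pt_mem _ _⟩
    have hn' : (n : Cfsg.Sz F m) • (⟨pInf F, pInf_mem⟩ : Cfsg.suzukiOvoid F m) =
      ⟨pt m (0 : F) 0, pt_mem _ _⟩ := hn
    set τ := torusHom (m := m) hF t with hτ
    -- τ n τ⁻¹ = n
    have hconj : τ * (n : Cfsg.Sz F m) * τ⁻¹ ∈ N := hN.conj_mem _ n.2 τ
    have hτinv_inf : τ⁻¹ • (⟨pInf F, pInf_mem⟩ : Cfsg.suzukiOvoid F m) = ⟨pInf F, pInf_mem⟩ := by
      rw [inv_smul_eq_iff, hτinf]
    have hτinv_zero : τ⁻¹ • (⟨pt m (0 : F) 0, pt_mem _ _⟩ : Cfsg.suzukiOvoid F m) =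
        ⟨pt m (0 : F) 0, pt_mem _ _⟩ := by
      rw [inv_smul_eq_iff, hτzero]
    have hcomm : τ * (n : Cfsg.Sz F m) * τ⁻¹ = n := by
      have hmem : (⟨(n : Cfsg.Sz F m)⁻¹ * (τ * (n : Cfsg.Sz F m) * τ⁻¹),
          N.mul_mem (N.inv_mem n.2) hconj⟩ : N) ∈
          MulAction.stabilizer N (⟨pInf F, pInf_mem⟩ : Cfsg.suzukiOvoid F m) := by
        rw [MulAction.mem_stabilizer_iff]
        show ((n : Cfsg.Sz F m)⁻¹ * (τ * (n : Cfsg.Sz F m) * τ⁻¹)) •
          (⟨pInf F, pInf_mem⟩ : Cfsg.suzukiOvoid F m) = _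
        rw [mul_smul, mul_smul, mul_smul, hτinv_inf, hn', hτzero, inv_smul_eq_iff, hn']
      rw [hstab, Subgroup.mem_bot] at hmem
      have := congrArg Subtype.val hmem
      simp only [Subgroup.coe_one] at this
      exact (inv_mul_eq_one.mp this).symm
    -- τ fixes n • 0
    have hfixc : τ • ((n : Cfsg.Sz F m) • (⟨pt m (0 : F) 0, pt_mem _ _⟩ : Cfsg.suzukiOvoid F m)) =
        (n : Cfsg.Sz F m) • (⟨pt m (0 : F) 0, pt_mem _ _⟩ : Cfsg.suzukiOvoid F m) := by
      have e : τ * (n : Cfsg.Sz F m) = (n : Cfsg.Sz F m) * τ := by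
        calc τ * (n : Cfsg.Sz F m) = (τ * (n : Cfsg.Sz F m) * τ⁻¹) * τ := by group
          _ = (n : Cfsg.Sz F m) * τ := by rw [hcomm]
      rw [← mul_smul, e, mul_smul, hτzero]
    have hc0 : (n : Cfsg.Sz F m) • (⟨pt m (0 : F) 0, pt_mem _ _⟩ : Cfsg.suzukiOvoid F m) ≠
        ⟨pt m (0 : F) 0, pt_mem _ _⟩ := by
      intro h
      exact hne (MulAction.injective (n : Cfsg.Sz F m) (h.trans hn'.symm)).symm
    have hcinf : (n : Cfsg.Sz F m) • (⟨pt m (0 : F) 0, pt_mem _ _⟩ : Cfsg.suzukiOvoid F m) =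
        ⟨pInf F, pInf_mem⟩ := by
      by_contra h
      exact hτ1 (three τ _ _ _ hne (Ne.symm hc0) (Ne.symm h) hτinf hτzero hfixc)
    -- n^2 = 1
    have hsq : n * n = 1 := by
      have hmem : n * n ∈ MulAction.stabilizer N (⟨pInf F, pInf_mem⟩ : Cfsg.suzukiOvoid F m) := by
        rw [MulAction.mem_stabilizer_iff]
        show ((n : Cfsg.Sz F m) * (n : Cfsg.Sz F m)) •
          (⟨pInf F, pInf_mem⟩ : Cfsg.suzukiOvoid F m) = _
        rw [mul_smul, hn', hcinf]
      rw [hstab, Subgroup.mem_bot] at hmem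
      exact hmem
    have hn1 : n ≠ 1 := by
      intro h
      rw [h] at hn
      simp only [one_smul] at hn
      exact hne hn
    have hord : orderOf n = 2 := by
      apply orderOf_eq_prime
      · rw [sq]; exact hsq
      · exact hn1
    have hdvd : 2 ∣ Nat.card N := hord ▸ orderOf_dvd_natCard n
    have hcard : Nat.card N = (2 ^ (2 * m + 1)) ^ 2 + 1 := by
      have h1 := MulAction.index_stabilizer_of_transitive N
        (⟨pInf F, pInf_mem⟩ : Cfsg.suzukiOvoid F m)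
      rw [hstab, Subgroup.index_bot] at h1
      rw [h1, Nat.card_coe_set_eq, ovoid_ncard hF]
    rw [hcard] at hdvd
    have h2 : 2 ∣ (2 ^ (2 * m + 1)) ^ 2 := by
      rw [← pow_mul]
      exact dvd_pow_self 2 (by omega)
    omega

end Zas

end Cfsg.Agent.Lib.Helper2.SzL
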