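import Mathlib
import Cfsg.Prelude.Def_LieExceptional
import Cfsg.Agent.Lib.Helper2.Sz6

set_option autoImplicit false

namespace Cfsg.Agent.Lib.Helper2.SzL

open Matrix
open scoped LinearAlgebra.Projectivization Pointwise

section Law

variable {F : Type*} [Field F] [Fintype F] {m : ℕ}

theorem mS_mul (hF : Fintype.card F = 2 ^ (2 * m + 1)) (a b c d : F) :
    mS m a b * mS m c d = mS m (a + c) (b + d + th m a * c) := by
  have h2 := two_eq_zero hF
  ext i j
  fin_cases i <;> fin_cases j <;>
    simp [mS, Matrix.mul_apply, Fin.sum_univ_four, fS_eq, th_add hF, th_mul, th_th hF] <;>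
    (rw [← sub_eq_zero]; ring_nf; try simp [h2])

theorem mS_zero : mS m (0 : F) 0 = 1 := by
  ext i j
  fin_cases i <;> fin_cases j <;> simp [mS, fS_zero, th_zero]

theorem mT_mS (hF : Fintype.card F = 2 ^ (2 * m + 1)) {t : F} (ht : t ≠ 0) (a b : F) :
    mT m t * mS m a b = mS m (th m t * a) (th m t * t ^ 2 * b) * mT m t := by
  have hth : th m t ≠ 0 := fun h => ht (th_eq_zero.mp h)
  ext i j
  fin_cases i <;> fin_cases j <;>
    simp [mS, mT, Matrix.mul_apply, Fin.sum_univ_four, fS_eq, th_mul, th_th hF, th_pow] <;>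
    field_simp

theorem mW_mT_mW {t : F} (ht : t ≠ 0) : mW F * mT m t * mW F = mT m t⁻¹ := by
  have hth : th m t ≠ 0 := fun h => ht (th_eq_zero.mp h)
  ext i j
  fin_cases i <;> fin_cases j <;>
    simp [mW, mT, Matrix.mul_apply, Fin.sum_univ_four, th_inv, mul_comm]

theorem sS_mul (hF : Fintype.card F = 2 ^ (2 * m + 1)) (a b c d : F) :
    sS m a b * sS m c d = sS m (a + c) (b + d + th m a * c) :=
  Subtype.ext (mS_mul hF a b c d)

theorem sS_zero : sS m (0 : F) 0 = 1 := Subtype.ext mS_zero

theorem sS_inv (hF : Fintype.card F = 2 ^ (2 * m + 1)) (a b : F) :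
    (sS m a b)⁻¹ = sS m a (b + th m a * a) := by
  apply inv_eq_of_mul_eq_one_right
  rw [sS_mul hF]
  have h2 := two_eq_zero hF
  have e1 : a + a = 0 := add_self hF a
  have e2 : b + (b + th m a * a) + th m a * a = 0 := by
    linear_combination (b + th m a * a) * h2
  rw [e1, e2, sS_zero]

theorem sT_sS (hF : Fintype.card F = 2 ^ (2 * m + 1)) (t : Fˣ) (a b : F) :
    sT m t * sS m a b = sS m (th m (t : F) * a) (th m (t : F) * (t : F) ^ 2 * b) * sT m t :=
  Subtype.ext (mT_mS hF t.ne_zero a b)

theorem sT_sS_conj (hF : Fintype.card F = 2 ^ (2 * m + 1)) (t : Fˣ) (a b : F) :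
    sT m t * sS m a b * (sT m t)⁻¹ = sS m (th m (t : F) * a) (th m (t : F) * (t : F) ^ 2 * b) := by
  rw [sT_sS hF, mul_inv_cancel_right]

theorem sW_sT_sW (hF : Fintype.card F = 2 ^ (2 * m + 1)) (t : Fˣ) :
    sW hF * sT m t * sW hF = sT m t⁻¹ :=
  Subtype.ext (by
    show mW F * mT m (t : F) * mW F = mT m ((t⁻¹ : Fˣ) : F)
    rw [Units.val_inv_eq_inv_val]
    exact mW_mT_mW t.ne_zero)

theorem sT_inv (t : Fˣ) : (sT m t)⁻¹ = sT m t⁻¹ := by
  apply inv_eq_of_mul_eq_one_right
  rw [← sT_mul, mul_inv_cancel, sT_one]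

theorem sS_inj {a b c d : F} (h : sS m a b = sS m c d) : a = c ∧ b = d := by
  have h1 := congrArg (fun g : SpecialLinearGroup (Fin 4) F => g.1 2 3) h
  have h2 := congrArg (fun g : SpecialLinearGroup (Fin 4) F => g.1 1 3) h
  simp [sS, mS] at h1 h2
  exact ⟨h1, h2⟩

/-- `k ↦ k^σ * k` is injective -/
theorem thmul_inj (hF : Fintype.card F = 2 ^ (2 * m + 1)) {k l : F}
    (h : th m k * k = th m l * l) : k = l := by
  by_cases hk : k = 0
  · subst hk
    rw [th_zero, zero_mul] at h
    rcases mul_eq_zero.mp h.symm with h' | h'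
    · exact (th_eq_zero.mp h').symm
    · exact h'.symm
  · have hl : l ≠ 0 := by
      rintro rfl
      rw [th_zero, zero_mul] at h
      rcases mul_eq_zero.mp h with h' | h'
      · exact hk (th_eq_zero.mp h')
      · exact hk h'
    have hthk : th m k ≠ 0 := fun h' => hk (th_eq_zero.mp h')
    have hthl : th m l ≠ 0 := fun h' => hl (th_eq_zero.mp h')
    have h2 := congrArg (th m) h
    rw [th_mul, th_mul, th_th hF, th_th hF] at h2
    -- k^2 * th k = l^2 * th l and th k * k = th l * l
    have h3 : k * (th m k * k) = l * (th m l * l) := by linear_combination h2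
    rw [h] at h3
    exact mul_right_cancel₀ (mul_ne_zero hthl hl) h3

theorem thmul_surj (hF : Fintype.card F = 2 ^ (2 * m + 1)) (c : F) :
    ∃ k : F, th m k * k = c := by
  have hinj : Function.Injective (fun k : F => th m k * k) := fun k l h => thmul_inj hF h
  exact (Finite.injective_iff_surjective.mp hinj) c

theorem th_surj (hF : Fintype.card F = 2 ^ (2 * m + 1)) (c : F) : ∃ k : F, th m k = c := by
  have hinj : Function.Injective (fun k : F => th m k) := fun k l h => th_inj hF h
  exact (Finite.injective_iff_surjective.mp hinj) c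

theorem sq_surj (hF : Fintype.card F = 2 ^ (2 * m + 1)) (c : F) : ∃ k : F, k ^ 2 = c := by
  have hinj : Function.Injective (fun k : F => k ^ 2) := fun k l h => sq_inj hF h
  exact (Finite.injective_iff_surjective.mp hinj) c

end Law

end Cfsg.Agent.Lib.Helper2.SzL
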