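import Mathlib
import Cfsg.Prelude.Def_LieExceptional
import Cfsg.Agent.Lib.Helper2.Sz8

set_option autoImplicit false

namespace Cfsg.Agent.Lib.Helper2.SzL

open Matrix
open scoped LinearAlgebra.Projectivization Pointwise

section Simple

variable {F : Type*} [Field F] [Fintype F] {m : ℕ}

/-- a nontrivial subgroup normalised by the Suzuki group is transitive on the ovoid -/
theorem N_trans (hm : 1 ≤ m) (hF : Fintype.card F = 2 ^ (2 * m + 1))
    (N : Subgroup (SpecialLinearGroup (Fin 4) F)) (hle : N ≤ Cfsg.Sz F m)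
    (hnorm : ∀ g ∈ Cfsg.Sz F m, ∀ x ∈ N, g * x * g⁻¹ ∈ N) (hne : N ≠ ⊥)
    (u v : ℙ F (Fin 4 → F)) (hu : u ∈ Cfsg.suzukiOvoid F m) (hv : v ∈ Cfsg.suzukiOvoid F m) :
    ∃ n ∈ N, n • u = v := by
  by_cases huv : u = v
  · exact ⟨1, N.one_mem, by rw [one_smul, huv]⟩
  obtain ⟨y, hy1⟩ := (Subgroup.ne_bot_iff_exists_ne_one).mp hne
  have hy1' : (y : SpecialLinearGroup (Fin 4) F) ≠ 1 := fun h => hy1 (Subtype.ext h)
  have hyS : (y : SpecialLinearGroup (Fin 4) F) ∈ Cfsg.Sz F m := hle y.2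
  -- y moves some ovoid point
  have hmove : ∃ a ∈ Cfsg.suzukiOvoid F m, (y : SpecialLinearGroup (Fin 4) F) • a ≠ a := by
    by_contra hcon
    have hfix : ∀ a ∈ Cfsg.suzukiOvoid F m, (y : SpecialLinearGroup (Fin 4) F) • a = a := by
      intro a ha
      by_contra h
      exact hcon ⟨a, ha, h⟩
    apply hy1'
    have n1 : pInf F ≠ pt m (0 : F) 0 := fun h => pt_ne_inf (0 : F) 0 h.symm
    have n2 : pInf F ≠ pt m (1 : F) 0 := fun h => pt_ne_inf (1 : F) 0 h.symm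
    have n3 : pt m (0 : F) 0 ≠ pt m (1 : F) 0 := fun h => zero_ne_one (pt_inj h).1
    exact eq_one_of_fix_three hm hF _ hyS _ _ _ pInf_mem (pt_mem _ _) (pt_mem _ _) n1 n2 n3
      (hfix _ pInf_mem) (hfix _ (pt_mem _ _)) (hfix _ (pt_mem _ _))
  obtain ⟨a, ha, hya⟩ := hmove
  have hb : (y : SpecialLinearGroup (Fin 4) F) • a ∈ Cfsg.suzukiOvoid F m := smul_mem_ovoid hyS ha
  obtain ⟨g1, hg1, e1, e2⟩ := exists_to_inf_zero hF a _ ha hb (Ne.symm hya)
  obtain ⟨g2, hg2, e3, e4⟩ := exists_to_inf_zero hF u v hu hv huv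
  have hg : g2⁻¹ * g1 ∈ Cfsg.Sz F m := Subgroup.mul_mem _ (Subgroup.inv_mem _ hg2) hg1
  refine ⟨(g2⁻¹ * g1) * y * (g2⁻¹ * g1)⁻¹, hnorm _ hg _ y.2, ?_⟩
  have e5 : (g2⁻¹ * g1)⁻¹ • u = a := by
    rw [inv_smul_eq_iff, mul_smul, e1, eq_inv_smul_iff, e3]
  rw [mul_smul, mul_smul, e5, mul_smul, e2, inv_smul_eq_iff, e4]

theorem unit_sq_eq_one (hF : Fintype.card F = 2 ^ (2 * m + 1)) {t : Fˣ} (h : t * t = 1) :
    t = 1 := by
  apply Units.ext
  apply sq_inj hF
  have := congrArg (fun u : Fˣ => (u : F)) h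
  simp only [Units.val_mul, Units.val_one] at this
  rw [Units.val_one, one_pow, sq]
  exact this

/-- the cohomological argument excluding `N ∩ B ≤ Z(Q)` -/
theorem not_bad (hm : 1 ≤ m) (hF : Fintype.card F = 2 ^ (2 * m + 1))
    (N : Subgroup (SpecialLinearGroup (Fin 4) F)) (hle : N ≤ Cfsg.Sz F m)
    (hnorm : ∀ g ∈ Cfsg.Sz F m, ∀ x ∈ N, g * x * g⁻¹ ∈ N)
    (htrans : ∃ n ∈ N, n • pInf F = pt m (0 : F) 0)
    (hbad : ∀ x ∈ N, x • pInf F = pInf F → ∃ f : F, x = sS m 0 f) : False := by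
  classical
  have h2 := two_eq_zero hF
  obtain ⟨n, hn, hninf⟩ := htrans
  have hx : ∀ t : Fˣ, ∃ f : F, n⁻¹ * (sT m t * n * (sT m t)⁻¹) = sS m 0 f := by
    intro t
    apply hbad
    · exact N.mul_mem (N.inv_mem hn) (hnorm _ (sT_mem hF t) _ hn)
    · rw [mul_smul, mul_smul, mul_smul, inv_smul_eq_iff.mpr (sT_smul_inf t).symm, hninf,
        sT_smul_zero hF, inv_smul_eq_iff, hninf]
  choose β hβ using hx
  have hcoc : ∀ t u : Fˣ, β (t * u) = β t + th m (t : F) * (t : F) ^ 2 * β u := by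
    intro t u
    have e1 : n⁻¹ * (sT m (t * u) * n * (sT m (t * u))⁻¹) =
        (n⁻¹ * (sT m t * n * (sT m t)⁻¹)) *
          (sT m t * (n⁻¹ * (sT m u * n * (sT m u)⁻¹)) * (sT m t)⁻¹) := by
      rw [sT_mul]; group
    rw [hβ, hβ, hβ, sT_sS_conj hF, sS_mul hF] at e1
    have e2 := (sS_inj e1).2
    rw [e2, th_zero]; ring
  let s : F := ∑ u : Fˣ, β u
  have hsum : ∀ t : Fˣ, β t = s + th m (t : F) * (t : F) ^ 2 * s := by
    intro t
    have e1 : ∑ u : Fˣ, β (t * u) = s :=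
      Fintype.sum_equiv (Equiv.mulLeft t) _ _ (fun _ => rfl)
    have e2 : ∑ u : Fˣ, β (t * u) =
        (Fintype.card Fˣ : F) * β t + th m (t : F) * (t : F) ^ 2 * s := by
      simp only [hcoc, Finset.sum_add_distrib, Finset.sum_const, Finset.card_univ, nsmul_eq_mul,
        ← Finset.mul_sum]
      rfl
    have e3 : (Fintype.card Fˣ : F) = 1 := by
      rw [Fintype.card_units, Nat.cast_sub Fintype.card_pos, Nat.cast_card_eq_zero]
      simp only [Nat.cast_one]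
      linear_combination -h2
    rw [e3, e1] at e2
    linear_combination -e2 - (th m (t : F) * (t : F) ^ 2 * s) * h2
  -- the corrected element commutes with the torus
  have hcomm : ∀ t : Fˣ, sT m t * (n * sS m 0 s) * (sT m t)⁻¹ = n * sS m 0 s := by
    intro t
    have e1 : sT m t * (n * sS m 0 s) * (sT m t)⁻¹ =
        n * (n⁻¹ * (sT m t * n * (sT m t)⁻¹)) * (sT m t * sS m 0 s * (sT m t)⁻¹) := by group
    rw [e1, hβ, sT_sS_conj hF, mul_assoc, sS_mul hF]
    congr 1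
    have e2 : (0 : F) + th m (t : F) * 0 = 0 := by ring
    have e3 : β t + th m (t : F) * (t : F) ^ 2 * s + th m (0 : F) * (th m (t : F) * 0) = s := by
      rw [hsum t, th_zero]
      linear_combination (th m (t : F) * (t : F) ^ 2 * s) * h2
    rw [e2, e3]
  have hn'S : n * sS m 0 s ∈ Cfsg.Sz F m := Subgroup.mul_mem _ (hle hn) (sS_mem hF 0 s)
  have hn'inf : (n * sS m 0 s) • pInf F = pt m (0 : F) 0 := by
    rw [mul_smul, sS_smul_inf, hninf]
  obtain ⟨t0, ht0⟩ := exists_torus_ne_one (F := F) hm hF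
  have hc0 : (n * sS m 0 s) • pt m (0 : F) 0 ≠ pt m (0 : F) 0 := by
    intro h
    exact pt_ne_inf (0 : F) 0 (MulAction.injective _ (h.trans hn'inf.symm))
  have hcmem : (n * sS m 0 s) • pt m (0 : F) 0 ∈ Cfsg.suzukiOvoid F m :=
    smul_mem_ovoid hn'S (pt_mem _ _)
  have hcinf : (n * sS m 0 s) • pt m (0 : F) 0 = pInf F := by
    by_contra h
    apply sT_ne_one (m := m) ht0
    have hfix : sT m t0 • ((n * sS m 0 s) • pt m (0 : F) 0) = (n * sS m 0 s) • pt m (0 : F) 0 := by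
      have e : sT m t0 * (n * sS m 0 s) = (n * sS m 0 s) * sT m t0 := by
        calc sT m t0 * (n * sS m 0 s) = (sT m t0 * (n * sS m 0 s) * (sT m t0)⁻¹) * sT m t0 := by
              group
          _ = (n * sS m 0 s) * sT m t0 := by rw [hcomm]
      rw [← mul_smul, e, mul_smul, sT_smul_zero hF]
    exact eq_one_of_fix_three hm hF _ (sT_mem hF t0) _ _ _ pInf_mem (pt_mem _ _) hcmem
      (fun h' => pt_ne_inf (0 : F) 0 h'.symm) (Ne.symm h) (Ne.symm hc0)
      (sT_smul_inf t0) (sT_smul_zero hF t0) hfix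
  have hW1 : (sW hF * (n * sS m 0 s)) • pInf F = pInf F := by
    rw [mul_smul, hn'inf, sW_smul_zero]
  have hW2 : (sW hF * (n * sS m 0 s)) • pt m (0 : F) 0 = pt m (0 : F) 0 := by
    rw [mul_smul, hcinf, sW_smul_inf]
  obtain ⟨r, hr⟩ := fix_two hm hF _ (Subgroup.mul_mem _ (sW_mem hF) hn'S) hW1 hW2
  have hn' : n * sS m 0 s = sW hF * sT m r := by
    rw [← hr, ← mul_assoc, sW_mul_sW, one_mul]
  have e := hcomm t0
  rw [hn'] at e
  -- sT t0 * sW * sT r * (sT t0)⁻¹ = sW * sT r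
  have e' : sW hF * sT m t0 * sW hF * sT m r = sT m r * sT m t0 := by
    have : sW hF * (sT m t0 * (sW hF * sT m r) * (sT m t0)⁻¹) * sT m t0 =
        sW hF * (sW hF * sT m r) * sT m t0 := by rw [e]
    calc sW hF * sT m t0 * sW hF * sT m r
        = sW hF * (sT m t0 * (sW hF * sT m r) * (sT m t0)⁻¹) * sT m t0 := by group
      _ = sW hF * (sW hF * sT m r) * sT m t0 := this
      _ = (sW hF * sW hF) * sT m r * sT m t0 := by group
      _ = sT m r * sT m t0 := by rw [sW_mul_sW, one_mul]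
  rw [sW_sT_sW, ← sT_mul, ← sT_mul] at e'
  have e'' := sT_inj e'
  have : t0 * t0 = 1 := by
    have h3 : t0⁻¹ * r = t0 * r := by rw [e'', mul_comm]
    have h4 : t0⁻¹ = t0 := mul_right_cancel h3
    exact (congrArg (fun z => t0 * z) h4.symm).trans (mul_inv_cancel t0)
  exact ht0 (unit_sq_eq_one hF this)

end Simple

end Cfsg.Agent.Lib.Helper2.SzL
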