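import Mathlib
import Cfsg.Prelude.Def_LieExceptional
import Cfsg.Agent.Lib.Helper2.Sz9

set_option autoImplicit false

namespace Cfsg.Agent.Lib.Helper2.SzL

open Matrix
open scoped LinearAlgebra.Projectivization Pointwise

section Simple2

variable {F : Type*} [Field F] [Fintype F] {m : ℕ}

/-- from one translation with each first coordinate to all translations -/
theorem all_sS_of_first (hF : Fintype.card F = 2 ^ (2 * m + 1))
    (N : Subgroup (SpecialLinearGroup (Fin 4) F))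
    (h : ∀ e : F, ∃ f : F, sS m e f ∈ N) : ∀ e f : F, sS m e f ∈ N := by
  have h2 := two_eq_zero hF
  have hZ : ∀ c : F, sS m 0 c ∈ N := by
    intro c
    obtain ⟨e, he⟩ := thmul_surj hF c
    obtain ⟨f, hf⟩ := h e
    have := N.mul_mem hf hf
    rw [sS_mul hF] at this
    have e1 : e + e = 0 := add_self hF e
    have e2 : f + f + th m e * e = c := by rw [add_self hF f, zero_add, he]
    rwa [e1, e2] at this
  intro e f'
  obtain ⟨f, hf⟩ := h e
  have := N.mul_mem hf (hZ (f + f'))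
  rw [sS_mul hF] at this
  have e1 : e + 0 = e := add_zero e
  have e2 : f + (f + f') + th m e * 0 = f' := by linear_combination f * h2
  rwa [e1, e2] at this

/-- a normalised subgroup containing an element of `B` outside `Z(Q)` contains `Q` -/
theorem all_sS_of_good (hm : 1 ≤ m) (hF : Fintype.card F = 2 ^ (2 * m + 1))
    (N : Subgroup (SpecialLinearGroup (Fin 4) F)) (hle : N ≤ Cfsg.Sz F m)
    (hnorm : ∀ g ∈ Cfsg.Sz F m, ∀ x ∈ N, g * x * g⁻¹ ∈ N)
    (x : SpecialLinearGroup (Fin 4) F) (hx : x ∈ N) (hxinf : x • pInf F = pInf F)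
    (hxZ : ¬ ∃ f : F, x = sS m 0 f) : ∀ e f : F, sS m e f ∈ N := by
  have h2 := two_eq_zero hF
  apply all_sS_of_first hF
  obtain ⟨a, b, t, rfl⟩ := fix_inf hm hF x (hle hx) hxinf
  by_cases ht : t = 1
  · subst ht
    rw [sT_one, mul_one] at hx hxZ
    have ha : a ≠ 0 := by
      rintro rfl
      exact hxZ ⟨b, rfl⟩
    intro e
    by_cases he : e = 0
    · subst he
      exact ⟨0, by rw [sS_zero]; exact N.one_mem⟩
    · obtain ⟨k, hk⟩ := th_surj (m := m) hF (e / a)
      have hk0 : k ≠ 0 := by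
        rintro rfl
        rw [th_zero] at hk
        exact (div_ne_zero he ha) hk.symm
      have := hnorm _ (sT_mem hF (Units.mk0 k hk0)) _ hx
      rw [sT_sS_conj hF] at this
      simp only [Units.val_mk0] at this
      have e1 : th m k * a = e := by rw [hk]; field_simp
      rw [e1] at this
      exact ⟨_, this⟩
  · have htF : th m (t : F) ≠ 1 := by
      intro h
      apply ht
      apply Units.ext
      apply th_inj hF
      rw [h, Units.val_one, th_one]
    have hne : th m (t : F) + 1 ≠ 0 := by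
      intro h
      apply htF
      linear_combination h - h2
    intro e
    -- commutator with sS c 0, c = e / (th t + 1)
    have hc : ∀ c : F, ∃ f : F, sS m (th m (t : F) * c + c) f ∈ N := by
      intro c
      have h1 : (sS m a b * sT m t) * sS m c 0 * (sS m a b * sT m t)⁻¹ * (sS m c 0)⁻¹ ∈ N := by
        have h3 : sS m c 0 * (sS m a b * sT m t)⁻¹ * (sS m c 0)⁻¹ ∈ N :=
          hnorm _ (sS_mem hF c 0) _ (N.inv_mem hx)
        have h4 := N.mul_mem hx h3
        have e : (sS m a b * sT m t) * sS m c 0 * (sS m a b * sT m t)⁻¹ * (sS m c 0)⁻¹ =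
            (sS m a b * sT m t) * (sS m c 0 * (sS m a b * sT m t)⁻¹ * (sS m c 0)⁻¹) := by group
        rw [e]; exact h4
      have e : (sS m a b * sT m t) * sS m c 0 * (sS m a b * sT m t)⁻¹ * (sS m c 0)⁻¹ =
          sS m a b * (sT m t * sS m c 0 * (sT m t)⁻¹) * (sS m a b)⁻¹ * (sS m c 0)⁻¹ := by group
      rw [e, sT_sS_conj hF, sS_inv hF, sS_inv hF, sS_mul hF, sS_mul hF, sS_mul hF] at h1
      have e1 : a + th m (t : F) * c + a + c = th m (t : F) * c + c := by
        linear_combination a * h2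
      rw [e1] at h1
      exact ⟨_, h1⟩
    obtain ⟨f, hf⟩ := hc (e / (th m (t : F) + 1))
    have e1 : th m (t : F) * (e / (th m (t : F) + 1)) + e / (th m (t : F) + 1) = e := by
      field_simp
    rw [e1] at hf
    exact ⟨f, hf⟩

/-- a normalised transitive subgroup containing `Q` is everything -/
theorem eq_Sz_of_sS (hm : 1 ≤ m) (hF : Fintype.card F = 2 ^ (2 * m + 1))
    (N : Subgroup (SpecialLinearGroup (Fin 4) F)) (hle : N ≤ Cfsg.Sz F m)
    (hnorm : ∀ g ∈ Cfsg.Sz F m, ∀ x ∈ N, g * x * g⁻¹ ∈ N)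
    (htrans : ∃ n ∈ N, n • pInf F = pt m (0 : F) 0)
    (hQ : ∀ e f : F, sS m e f ∈ N) : N = Cfsg.Sz F m := by
  have h2 := two_eq_zero hF
  obtain ⟨n1, hn1, hn1inf⟩ := htrans
  have hn1S := hle hn1
  have hcmem : n1 • pt m (0 : F) 0 ∈ Cfsg.suzukiOvoid F m := smul_mem_ovoid hn1S (pt_mem _ _)
  have hc0 : n1 • pt m (0 : F) 0 ≠ pt m (0 : F) 0 := by
    intro h
    exact pt_ne_inf (0 : F) 0 (MulAction.injective _ (h.trans hn1inf.symm))
  -- an element of N fixing the origin and moving c to ∞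
  have hu : ∃ u ∈ N, u • pt m (0 : F) 0 = pt m (0 : F) 0 ∧ u • (n1 • pt m (0 : F) 0) = pInf F := by
    rcases (mem_ovoid_iff _).mp hcmem with h | ⟨c1, c2, h⟩
    · exact ⟨1, N.one_mem, one_smul _ _, by rw [one_smul, h]⟩
    · have hf : fS m c1 c2 ≠ 0 := by
        intro hf0
        obtain ⟨rfl, rfl⟩ := fS_eq_zero hF hf0
        exact hc0 h
      have hWc : sW hF • (n1 • pt m (0 : F) 0) = pt m (c2 / fS m c1 c2) (c1 / fS m c1 c2) := by
        rw [h, sW_smul_pt hF c1 c2 hf]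
      set x' := c2 / fS m c1 c2 with hx'
      set y' := c1 / fS m c1 c2 with hy'
      refine ⟨sW hF * sS m x' (y' + th m x' * x') * (sW hF)⁻¹,
        hnorm _ (sW_mem hF) _ (hQ _ _), ?_, ?_⟩
      · rw [sW_inv, mul_smul, mul_smul, sW_smul_zero, sS_smul_inf, sW_smul_inf]
      · rw [sW_inv, mul_smul, mul_smul, hWc, sS_smul_pt hF]
        have e1 : x' + x' = 0 := add_self hF x'
        have e2 : y' + th m x' * x' + (y' + th m x' * x') = 0 := add_self hF _
        rw [e1, e2, sW_smul_zero]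
  obtain ⟨u, hu, hu0, huc⟩ := hu
  have hn2 : u * n1 ∈ N := N.mul_mem hu hn1
  have hn2inf : (u * n1) • pInf F = pt m (0 : F) 0 := by rw [mul_smul, hn1inf, hu0]
  have hn2zero : (u * n1) • pt m (0 : F) 0 = pInf F := by rw [mul_smul, huc]
  have hW1 : (sW hF * (u * n1)) • pInf F = pInf F := by rw [mul_smul, hn2inf, sW_smul_zero]
  have hW2 : (sW hF * (u * n1)) • pt m (0 : F) 0 = pt m (0 : F) 0 := by
    rw [mul_smul, hn2zero, sW_smul_inf]
  obtain ⟨r, hr⟩ := fix_two hm hF _ (Subgroup.mul_mem _ (sW_mem hF) (hle hn2)) hW1 hW2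
  have hn2' : u * n1 = sW hF * sT m r := by
    rw [← hr, ← mul_assoc, sW_mul_sW, one_mul]
  rw [hn2'] at hn2
  -- torus elements
  have hT : ∀ s : Fˣ, sT m s ∈ N := by
    intro s
    obtain ⟨k, hk⟩ := sq_surj (m := m) hF ((s⁻¹ : Fˣ) : F)
    have hk0 : k ≠ 0 := by
      rintro rfl
      rw [zero_pow (by norm_num)] at hk
      exact (s⁻¹).ne_zero hk.symm
    set t : Fˣ := Units.mk0 k hk0 with ht
    have hts : t⁻¹ * t⁻¹ = s := by
      have : t * t = s⁻¹ := by
        apply Units.ext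
        rw [Units.val_mul, ht, Units.val_mk0, ← sq, hk]
      rw [← _root_.mul_inv_rev, this, inv_inv]
    have h1 : (sW hF * sT m r)⁻¹ * (sT m t * (sW hF * sT m r) * (sT m t)⁻¹) ∈ N :=
      N.mul_mem (N.inv_mem hn2) (hnorm _ (sT_mem hF t) _ hn2)
    have e : (sW hF * sT m r)⁻¹ * (sT m t * (sW hF * sT m r) * (sT m t)⁻¹) =
        (sT m r)⁻¹ * ((sW hF)⁻¹ * sT m t * sW hF) * sT m r * (sT m t)⁻¹ := by group
    rw [e, sW_inv, sW_sT_sW, sT_inv, sT_inv, ← sT_mul, ← sT_mul, ← sT_mul] at h1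
    have e2 : r⁻¹ * t⁻¹ * r * t⁻¹ = s := by
      rw [← hts]
      rw [mul_comm r⁻¹ t⁻¹, mul_assoc t⁻¹ r⁻¹ r, inv_mul_cancel, mul_one]
    rwa [e2] at h1
  have hW : sW hF ∈ N := by
    have := N.mul_mem hn2 (N.inv_mem (hT r))
    rwa [mul_inv_cancel_right] at this
  apply le_antisymm hle
  intro g hg
  rcases decomp hm hF g hg with ⟨a, b, t, rfl⟩ | ⟨a, b, a', b', t, rfl⟩
  · exact N.mul_mem (hQ a b) (hT t)
  · exact N.mul_mem (N.mul_mem (hQ a b) hW) (N.mul_mem (hQ a' b') (hT t))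

/-- any nontrivial subgroup normalised by the Suzuki group is the whole group -/
theorem eq_Sz_of_normal (hm : 1 ≤ m) (hF : Fintype.card F = 2 ^ (2 * m + 1))
    (N : Subgroup (SpecialLinearGroup (Fin 4) F)) (hle : N ≤ Cfsg.Sz F m)
    (hnorm : ∀ g ∈ Cfsg.Sz F m, ∀ x ∈ N, g * x * g⁻¹ ∈ N) (hne : N ≠ ⊥) :
    N = Cfsg.Sz F m := by
  have htrans : ∃ n ∈ N, n • pInf F = pt m (0 : F) 0 :=
    N_trans hm hF N hle hnorm hne _ _ pInf_mem (pt_mem _ _)
  by_cases hbad : ∀ x ∈ N, x • pInf F = pInf F → ∃ f : F, x = sS m 0 f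
  · exact absurd (not_bad hm hF N hle hnorm htrans hbad) id
  · have hex : ∃ x ∈ N, x • pInf F = pInf F ∧ ¬ ∃ f : F, x = sS m 0 f := by
      by_contra hcon
      apply hbad
      intro x hx hxinf
      by_contra h
      exact hcon ⟨x, hx, hxinf, h⟩
    obtain ⟨x, hx, hxinf, hxZ⟩ := hex
    exact eq_Sz_of_sS hm hF N hle hnorm htrans
      (all_sS_of_good hm hF N hle hnorm x hx hxinf hxZ)

theorem isSimple (hm : 1 ≤ m) (hF : Fintype.card F = 2 ^ (2 * m + 1)) :
    IsSimpleGroup (Cfsg.Sz F m) := by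
  obtain ⟨t0, ht0⟩ := exists_torus_ne_one (F := F) hm hF
  have hnt : Nontrivial (Cfsg.Sz F m) := by
    refine ⟨⟨torusHom (m := m) hF t0, 1, ?_⟩⟩
    intro h
    exact sT_ne_one ht0 (congrArg Subtype.val h)
  refine { toNontrivial := hnt, eq_bot_or_eq_top_of_normal := ?_ }
  intro N hN
  by_cases hb : N = ⊥
  · exact Or.inl hb
  right
  have hle : N.map (Cfsg.Sz F m).subtype ≤ Cfsg.Sz F m := by
    rintro _ ⟨y, _, rfl⟩
    exact y.2
  have hnorm : ∀ g ∈ Cfsg.Sz F m, ∀ x ∈ N.map (Cfsg.Sz F m).subtype,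
      g * x * g⁻¹ ∈ N.map (Cfsg.Sz F m).subtype := by
    rintro g hg _ ⟨y, hy, rfl⟩
    exact ⟨⟨g, hg⟩ * y * ⟨g, hg⟩⁻¹, hN.conj_mem y hy ⟨g, hg⟩, rfl⟩
  have hne : N.map (Cfsg.Sz F m).subtype ≠ ⊥ := by
    intro h
    apply hb
    rw [eq_bot_iff]
    intro y hy
    have : (y : SpecialLinearGroup (Fin 4) F) ∈ N.map (Cfsg.Sz F m).subtype := ⟨y, hy, rfl⟩
    rw [h, Subgroup.mem_bot] at this
    exact Subgroup.mem_bot.mpr (Subtype.ext this)
  have key := eq_Sz_of_normal hm hF _ hle hnorm hne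
  rw [eq_top_iff]
  intro g _
  have : (g : SpecialLinearGroup (Fin 4) F) ∈ N.map (Cfsg.Sz F m).subtype := by
    rw [key]; exact g.2
  obtain ⟨y, hy, hyg⟩ := this
  have : y = g := Subtype.ext hyg
  rwa [this] at hy

end Simple2

end Cfsg.Agent.Lib.Helper2.SzL
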