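import Mathlib
import Cfsg.Prelude.Def_LieExceptional
import Cfsg.Agent.Lib.Helper2.Sz10

set_option autoImplicit false

namespace Cfsg.Agent.Lib.Helper2.SzL

open Matrix
open scoped LinearAlgebra.Projectivization Pointwise commutatorElement

section Syl

variable {F : Type*} [Field F] [Fintype F] {m : ℕ}

/-- the translation subgroup of the Suzuki group -/
def QG (hF : Fintype.card F = 2 ^ (2 * m + 1)) : Subgroup (Cfsg.Sz F m) where
  carrier := {g | ∃ a b : F, (g : SpecialLinearGroup (Fin 4) F) = sS m a b}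
  one_mem' := ⟨0, 0, sS_zero.symm⟩
  mul_mem' := by
    rintro g h ⟨a, b, hg⟩ ⟨c, d, hh⟩
    exact ⟨_, _, by rw [Subgroup.coe_mul, hg, hh, sS_mul hF]⟩
  inv_mem' := by
    rintro g ⟨a, b, hg⟩
    exact ⟨_, _, by rw [Subgroup.coe_inv, hg, sS_inv hF]⟩

/-- elements of the translation subgroup -/
def qS (hF : Fintype.card F = 2 ^ (2 * m + 1)) (a b : F) : QG (m := m) hF :=
  ⟨⟨sS m a b, sS_mem hF a b⟩, a, b, rfl⟩

theorem qS_mul (hF : Fintype.card F = 2 ^ (2 * m + 1)) (a b c d : F) :
    qS (m := m) hF a b * qS hF c d = qS hF (a + c) (b + d + th m a * c) :=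
  Subtype.ext (Subtype.ext (sS_mul hF a b c d))

theorem qS_surj (hF : Fintype.card F = 2 ^ (2 * m + 1)) (g : QG (m := m) hF) :
    ∃ a b : F, g = qS hF a b := by
  obtain ⟨a, b, h⟩ := g.2
  exact ⟨a, b, Subtype.ext (Subtype.ext h)⟩

theorem qS_inj (hF : Fintype.card F = 2 ^ (2 * m + 1)) {a b c d : F}
    (h : qS (m := m) hF a b = qS hF c d) : a = c ∧ b = d :=
  sS_inj (congrArg (fun g : QG (m := m) hF => (g.1.1)) h)

theorem qS_zero (hF : Fintype.card F = 2 ^ (2 * m + 1)) : qS (m := m) hF 0 0 = 1 :=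
  Subtype.ext (Subtype.ext sS_zero)

theorem card_QG (hF : Fintype.card F = 2 ^ (2 * m + 1)) :
    Nat.card (QG (m := m) hF) = (2 ^ (2 * m + 1)) ^ 2 := by
  have hbij : Function.Bijective (fun p : F × F => qS (m := m) hF p.1 p.2) := by
    constructor
    · rintro ⟨a, b⟩ ⟨c, d⟩ h
      obtain ⟨rfl, rfl⟩ := qS_inj hF h
      rfl
    · intro g
      obtain ⟨a, b, h⟩ := qS_surj hF g
      exact ⟨(a, b), h.symm⟩
  rw [← Nat.card_congr (Equiv.ofBijective _ hbij), Nat.card_prod, Nat.card_eq_fintype_card, hF]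
  ring

theorem qS_sq (hF : Fintype.card F = 2 ^ (2 * m + 1)) (a b : F) :
    qS (m := m) hF a b * qS hF a b = qS hF 0 (th m a * a) := by
  rw [qS_mul]
  congr 1
  · exact add_self hF a
  · rw [add_self hF b, zero_add]

theorem qS_pow_four (hF : Fintype.card F = 2 ^ (2 * m + 1)) (g : QG (m := m) hF) : g ^ 4 = 1 := by
  obtain ⟨a, b, rfl⟩ := qS_surj hF g
  have : qS (m := m) hF a b ^ 4 = (qS hF a b * qS hF a b) * (qS hF a b * qS hF a b) := by
    have h4 : qS (m := m) hF a b ^ 4 = (qS hF a b ^ 2) ^ 2 := pow_mul (qS hF a b) 2 2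
    rw [h4, pow_two, pow_two]
  rw [this, qS_sq, qS_sq, th_zero, zero_mul, qS_zero]

theorem exponent_QG (hF : Fintype.card F = 2 ^ (2 * m + 1)) :
    Monoid.exponent (QG (m := m) hF) = 4 := by
  apply Nat.dvd_antisymm
  · exact Monoid.exponent_dvd_of_forall_pow_eq_one (qS_pow_four hF)
  · have hord : orderOf (qS (m := m) hF 1 0) = 2 ^ (1 + 1) := by
      apply orderOf_eq_prime_pow
      · rw [pow_one, sq, qS_sq, th_one, mul_one]
        intro h
        rw [← qS_zero hF] at h
        exact one_ne_zero (qS_inj hF h).2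
      · exact qS_pow_four hF _
    have := Monoid.order_dvd_exponent (qS (m := m) hF 1 0)
    rw [hord] at this
    exact this

theorem exists_ne_zero_one (hm : 1 ≤ m) (hF : Fintype.card F = 2 ^ (2 * m + 1)) :
    ∃ u : F, u ≠ 0 ∧ u ≠ 1 := by
  obtain ⟨t, ht⟩ := exists_torus_ne_one (F := F) hm hF
  refine ⟨t, t.ne_zero, ?_⟩
  intro h
  exact ht (Units.ext h)

theorem th_ne_self (hm : 1 ≤ m) (hF : Fintype.card F = 2 ^ (2 * m + 1)) :
    ∃ u : F, u + th m u ≠ 0 := by
  have h2 := two_eq_zero hF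
  obtain ⟨u, hu0, hu1⟩ := exists_ne_zero_one hm hF
  refine ⟨u, ?_⟩
  intro h
  have h1 : th m u = u := by linear_combination h - u * h2
  have h3 : u ^ 2 = u := by
    have := congrArg (th m) h1
    rw [th_th hF, h1] at this
    exact this
  have h4 : u * (u - 1) = 0 := by linear_combination h3
  rcases mul_eq_zero.mp h4 with h5 | h5
  · exact hu0 h5
  · exact hu1 (by linear_combination h5)

theorem mem_center_QG (hm : 1 ≤ m) (hF : Fintype.card F = 2 ^ (2 * m + 1)) (a b : F) :
    qS (m := m) hF a b ∈ Subgroup.center (QG (m := m) hF) ↔ a = 0 := by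
  have h2 := two_eq_zero hF
  rw [Subgroup.mem_center_iff]
  constructor
  · intro h
    have e1 := h (qS hF 1 0)
    rw [qS_mul, qS_mul] at e1
    have h1 := (qS_inj hF e1).2
    rw [th_one] at h1
    have h1' : th m a = a := by linear_combination -h1
    obtain ⟨u, hu⟩ := th_ne_self (m := m) hm hF
    have e3 := h (qS hF u 0)
    rw [qS_mul, qS_mul] at e3
    have h3 := (qS_inj hF e3).2
    rw [h1'] at h3
    have h4 : a * (u + th m u) = 0 := by linear_combination h3 + (a * u) * h2
    rcases mul_eq_zero.mp h4 with h5 | h5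
    · exact h5
    · exact absurd h5 hu
  · rintro rfl g
    obtain ⟨c, d, rfl⟩ := qS_surj hF g
    rw [qS_mul, qS_mul, th_zero]
    congr 1
    · ring
    · ring

theorem center_QG_card (hm : 1 ≤ m) (hF : Fintype.card F = 2 ^ (2 * m + 1)) :
    Nat.card (Subgroup.center (QG (m := m) hF)) = 2 ^ (2 * m + 1) := by
  have hbij : Function.Bijective (fun b : F =>
      (⟨qS (m := m) hF 0 b, (mem_center_QG hm hF 0 b).mpr rfl⟩ :
        Subgroup.center (QG (m := m) hF))) := by
    constructor
    · intro b c h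
      exact (qS_inj hF (congrArg Subtype.val h)).2
    · rintro ⟨g, hg⟩
      obtain ⟨a, b, rfl⟩ := qS_surj hF g
      have ha := (mem_center_QG hm hF a b).mp hg
      subst ha
      exact ⟨b, rfl⟩
  rw [← Nat.card_congr (Equiv.ofBijective _ hbij), Nat.card_eq_fintype_card, hF]

/-- first coordinate as a homomorphism -/
def firstHom (hF : Fintype.card F = 2 ^ (2 * m + 1)) : QG (m := m) hF →* Multiplicative F where
  toFun g := Multiplicative.ofAdd ((g.1.1 : Matrix (Fin 4) (Fin 4) F) 2 3)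
  map_one' := by
    show Multiplicative.ofAdd (((1 : SpecialLinearGroup (Fin 4) F) : Matrix (Fin 4) (Fin 4) F) 2 3)
      = 1
    simp
  map_mul' g h := by
    obtain ⟨a, b, rfl⟩ := qS_surj hF g
    obtain ⟨c, d, rfl⟩ := qS_surj hF h
    rw [qS_mul]
    show Multiplicative.ofAdd ((mS m (a + c) _) 2 3) =
      Multiplicative.ofAdd ((mS m a b) 2 3) * Multiplicative.ofAdd ((mS m c d) 2 3)
    simp [mS, ofAdd_add]

theorem firstHom_qS (hF : Fintype.card F = 2 ^ (2 * m + 1)) (a b : F) :
    firstHom hF (qS (m := m) hF a b) = Multiplicative.ofAdd a := by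
  show Multiplicative.ofAdd ((mS m a b) 2 3) = Multiplicative.ofAdd a
  simp [mS]

theorem center_eq_commutator_QG (hm : 1 ≤ m) (hF : Fintype.card F = 2 ^ (2 * m + 1)) :
    Subgroup.center (QG (m := m) hF) = commutator (QG (m := m) hF) := by
  have h2 := two_eq_zero hF
  apply le_antisymm
  · intro g hg
    obtain ⟨a, b, rfl⟩ := qS_surj hF g
    have ha := (mem_center_QG hm hF a b).mp hg
    subst ha
    obtain ⟨u, hu⟩ := th_ne_self (m := m) hm hF
    obtain ⟨k, hk⟩ := thmul_surj (m := m) hF (b / (u + th m u))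
    have key : qS (m := m) hF 0 b = ⁅qS hF k 0, qS hF (k * u) 0⁆ := by
      have e : qS (m := m) hF k 0 * qS hF (k * u) 0 =
          qS hF 0 b * (qS hF (k * u) 0 * qS hF k 0) := by
        rw [qS_mul, qS_mul, qS_mul, th_zero, th_mul]
        congr 1
        · ring
        · have hb : b = th m k * k * (u + th m u) := by rw [hk]; field_simp
          rw [hb]
          linear_combination (-(th m k * th m u * k)) * h2
      rw [commutatorElement_def]
      calc qS (m := m) hF 0 b
          = qS hF 0 b * (qS hF (k * u) 0 * qS hF k 0) * (qS hF k 0)⁻¹ * (qS hF (k * u) 0)⁻¹ := by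
            group
        _ = qS hF k 0 * qS hF (k * u) 0 * (qS hF k 0)⁻¹ * (qS hF (k * u) 0)⁻¹ := by rw [← e]
    rw [key, commutator_def]
    exact Subgroup.commutator_mem_commutator (Subgroup.mem_top _) (Subgroup.mem_top _)
  · intro g hg
    have hker := Abelianization.commutator_subset_ker (firstHom (m := m) hF) hg
    obtain ⟨a, b, rfl⟩ := qS_surj hF g
    rw [MonoidHom.mem_ker, firstHom_qS] at hker
    have ha : a = 0 := by
      have := congrArg Multiplicative.toAdd hker
      simpa using this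
    exact (mem_center_QG hm hF a b).mpr ha

theorem card_Sz_factorization (hm : 1 ≤ m) (hF : Fintype.card F = 2 ^ (2 * m + 1)) :
    (Nat.card (Cfsg.Sz F m)).factorization 2 = 2 * (2 * m + 1) := by
  rw [card_Sz hm hF]
  have hq : 2 ^ 3 ≤ 2 ^ (2 * m + 1) := Nat.pow_le_pow_right (by norm_num) (by omega)
  have hodd1 : ¬ 2 ∣ (2 ^ (2 * m + 1)) ^ 2 + 1 := by
    have : 2 ∣ (2 ^ (2 * m + 1)) ^ 2 := by
      rw [← pow_mul]; exact dvd_pow_self 2 (by omega)
    omega
  have hodd2 : ¬ 2 ∣ 2 ^ (2 * m + 1) - 1 := by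
    have : 2 ∣ 2 ^ (2 * m + 1) := dvd_pow_self 2 (by omega)
    omega
  have hne1 : (2 ^ (2 * m + 1)) ^ 2 ≠ 0 := by positivity
  have hne2 : (2 ^ (2 * m + 1)) ^ 2 + 1 ≠ 0 := by positivity
  have hne3 : 2 ^ (2 * m + 1) - 1 ≠ 0 := by omega
  rw [Nat.factorization_mul (mul_ne_zero hne1 hne2) hne3, Nat.factorization_mul hne1 hne2]
  simp only [Finsupp.coe_add, Pi.add_apply]
  rw [Nat.factorization_eq_zero_of_not_dvd hodd1, Nat.factorization_eq_zero_of_not_dvd hodd2,
    ← pow_mul, Nat.Prime.factorization_pow Nat.prime_two]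
  simp
  ring

/-- the translation subgroup as a Sylow 2-subgroup -/
noncomputable def QSyl (hm : 1 ≤ m) (hF : Fintype.card F = 2 ^ (2 * m + 1)) :
    Sylow 2 (Cfsg.Sz F m) :=
  haveI : Fact (Nat.Prime 2) := ⟨Nat.prime_two⟩
  Sylow.ofCard (QG (m := m) hF) (by
    rw [card_QG, card_Sz_factorization hm hF, ← pow_mul, mul_comm])

theorem QSyl_coe (hm : 1 ≤ m) (hF : Fintype.card F = 2 ^ (2 * m + 1)) :
    ((QSyl hm hF : Sylow 2 (Cfsg.Sz F m)) : Subgroup (Cfsg.Sz F m)) = QG hF := rfl

theorem center_eq_commutator_of_equiv {A B : Type*} [Group A] [Group B] (e : A ≃* B)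
    (h : Subgroup.center A = commutator A) :
    Subgroup.center B = commutator B ∧ Nat.card (Subgroup.center B) = Nat.card (Subgroup.center A) := by
  have hc : (Subgroup.center A).map e.toMonoidHom = Subgroup.center B := by
    ext x
    constructor
    · intro hx'
      obtain ⟨z, hz, rfl⟩ := Subgroup.mem_map.mp hx'
      rw [Subgroup.mem_center_iff] at hz ⊢
      intro y
      have := hz (e.symm y)
      have h2 := congrArg e this
      simpa using h2
    · intro hx
      rw [Subgroup.mem_center_iff] at hx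
      refine Subgroup.mem_map.mpr ⟨e.symm x, ?_, by simp⟩
      rw [Subgroup.mem_center_iff]
      intro a
      apply e.injective
      have := hx (e a)
      simpa using this
  have hk : (commutator A).map e.toMonoidHom = commutator B := by
    rw [commutator_def, Subgroup.map_commutator, commutator_def]
    have : (⊤ : Subgroup A).map e.toMonoidHom = ⊤ :=
      Subgroup.map_top_of_surjective _ e.surjective
    rw [this]
  refine ⟨by rw [← hc, ← hk, h], ?_⟩
  rw [← hc]
  exact Subgroup.card_map_of_injective e.injective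

theorem sylow_two_structure (hm : 1 ≤ m) (hF : Fintype.card F = 2 ^ (2 * m + 1))
    (P : Sylow 2 (Cfsg.Sz F m)) :
    Nat.card P = (2 ^ (2 * m + 1)) ^ 2 ∧ Monoid.exponent P = 4 ∧
      Subgroup.center P = commutator P ∧ Nat.card (Subgroup.center P) = 2 ^ (2 * m + 1) := by
  haveI : Fact (Nat.Prime 2) := ⟨Nat.prime_two⟩
  have e : QG (m := m) hF ≃* P := Sylow.equiv (QSyl hm hF) P
  obtain ⟨h1, h2⟩ := center_eq_commutator_of_equiv e (center_eq_commutator_QG hm hF)
  refine ⟨?_, ?_, h1, ?_⟩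
  · rw [← Nat.card_congr e.toEquiv, card_QG]
  · rw [← Monoid.exponent_eq_of_mulEquiv e, exponent_QG]
  · rw [h2, center_QG_card hm hF]

end Syl

end Cfsg.Agent.Lib.Helper2.SzL
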