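import Mathlib
import Cfsg.Prelude.Def_LieExceptional
import Cfsg.Agent.Lib.Helper2.Sz11

set_option autoImplicit false

namespace Cfsg.Agent.Lib.Helper2.SzL

open Matrix
open scoped LinearAlgebra.Projectivization Pointwise commutatorElement

section Real

variable {F : Type*} [Field F] [Fintype F] {m : ℕ}

/-- a nontrivial translation fixes only `∞` on the ovoid -/
theorem sS_fix_only_inf (hF : Fintype.card F = 2 ^ (2 * m + 1)) {a b : F}
    (hab : ¬ (a = 0 ∧ b = 0)) {p : ℙ F (Fin 4 → F)} (hp : p ∈ Cfsg.suzukiOvoid F m)
    (hfix : sS m a b • p = p) : p = pInf F := by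
  rcases (mem_ovoid_iff p).mp hp with h | ⟨x, y, rfl⟩
  · exact h
  · exfalso
    rw [sS_smul_pt hF] at hfix
    obtain ⟨e1, e2⟩ := pt_inj hfix
    have ha : a = 0 := by
      have : x + a = x + 0 := by rw [add_zero]; exact e1
      exact add_left_cancel this
    subst ha
    have hb : b = 0 := by
      have : y + b = y + 0 := by
        rw [add_zero]
        have e3 := e2
        rw [th_zero, zero_mul, add_zero] at e3
        exact e3
      exact add_left_cancel this
    exact hab ⟨rfl, hb⟩

/-- an element conjugating a nontrivial translation to a translation fixes `∞` -/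
theorem conj_sS_fix_inf (hF : Fintype.card F = 2 ^ (2 * m + 1)) {a b a' b' : F}
    (hab : ¬ (a = 0 ∧ b = 0)) (c : SpecialLinearGroup (Fin 4) F) (hc : c ∈ Cfsg.Sz F m)
    (h : c * sS m a b * c⁻¹ = sS m a' b') : c • pInf F = pInf F := by
  have hab' : ¬ (a' = 0 ∧ b' = 0) := by
    rintro ⟨rfl, rfl⟩
    rw [sS_zero] at h
    have h1 : sS m a b = 1 := by
      have : sS m a b = c⁻¹ * (c * sS m a b * c⁻¹) * c := by group
      rw [this, h]; group
    rw [← sS_zero (m := m) (F := F)] at h1
    exact hab (sS_inj h1)
  apply sS_fix_only_inf hF hab' (smul_mem_ovoid hc pInf_mem)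
  rw [← h, ← mul_smul, inv_mul_cancel_right, mul_smul, sS_smul_inf]

/-- conjugation formula for the point stabiliser acting on translations -/
theorem conj_formula (hF : Fintype.card F = 2 ^ (2 * m + 1)) (e f : F) (t : Fˣ) (a b : F) :
    (sS m e f * sT m t) * sS m a b * (sS m e f * sT m t)⁻¹ =
      sS m (th m (t : F) * a)
        (th m (t : F) * (t : F) ^ 2 * b + th m e * (th m (t : F) * a)
          + th m (th m (t : F) * a) * e) := by
  have h2 := two_eq_zero hF
  have e1 : (sS m e f * sT m t) * sS m a b * (sS m e f * sT m t)⁻¹ =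
      sS m e f * (sT m t * sS m a b * (sT m t)⁻¹) * (sS m e f)⁻¹ := by group
  rw [e1, sT_sS_conj hF, sS_inv hF, sS_mul hF, sS_mul hF]
  congr 1
  · have := add_self hF e
    calc e + th m (t : F) * a + e = (e + e) + th m (t : F) * a := by ring
      _ = th m (t : F) * a := by rw [this, zero_add]
  · rw [th_add hF]
    have h3 := add_self hF f
    have h4 := add_self hF (th m e * e)
    linear_combination h3 + h4

/-- a translation with nonzero first coordinate is not conjugate to its inverse -/
theorem not_conj_inv (hm : 1 ≤ m) (hF : Fintype.card F = 2 ^ (2 * m + 1)) {a b : F} (ha : a ≠ 0)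
    (c : SpecialLinearGroup (Fin 4) F) (hc : c ∈ Cfsg.Sz F m)
    (h : c * sS m a b * c⁻¹ = (sS m a b)⁻¹) : False := by
  have h2 := two_eq_zero hF
  rw [sS_inv hF] at h
  have hfix := conj_sS_fix_inf hF (fun hh => ha hh.1) c hc h
  obtain ⟨e, f, t, rfl⟩ := fix_inf hm hF c hc hfix
  rw [conj_formula hF] at h
  obtain ⟨h3, h4⟩ := sS_inj h
  have ht : th m (t : F) = 1 := by
    have : th m (t : F) * a = 1 * a := by rw [one_mul]; exact h3
    exact mul_right_cancel₀ ha this
  have ht1 : (t : F) = 1 := th_inj hF (by rw [ht, th_one])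
  rw [ht, ht1] at h4
  simp only [one_mul, one_pow] at h4
  -- h4 : b + th e * a + th a * e = b + th a * a
  have h5 : th m e * a + th m a * e = th m a * a := by
    have := add_left_cancel (a := b) (b := th m e * a + th m a * e) (c := th m a * a)
      (by rw [← add_assoc]; exact h4)
    exact this
  have hta : th m a ≠ 0 := fun hh => ha (th_eq_zero.mp hh)
  set u := e / a with hu
  have heu : e = u * a := by rw [hu, div_mul_cancel₀ _ ha]
  have h6 : th m u + u = 1 := by
    rw [heu, th_mul] at h5
    have : (th m u + u) * (th m a * a) = 1 * (th m a * a) := by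
      linear_combination h5
    exact mul_right_cancel₀ (mul_ne_zero hta ha) this
  have h7 : u ^ 2 + th m u = 1 := by
    have := congrArg (th m) h6
    rw [th_add hF, th_th hF, th_one] at this
    exact this
  have h8 : u * (u + 1) = 0 := by
    have h10 : th m u + th m u = 0 := add_self hF (th m u)
    linear_combination h7 + h6 - h10 + h2
  rcases mul_eq_zero.mp h8 with h9 | h9
  · rw [h9, th_zero, add_zero] at h6
    exact zero_ne_one h6
  · have hu1 : u = 1 := eq_of_add_eq_zero hF h9
    rw [hu1, th_one] at h6
    have : (1 : F) + 1 = 0 := add_self hF 1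
    rw [this] at h6
    exact zero_ne_one h6

end Real

end Cfsg.Agent.Lib.Helper2.SzL
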