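import Mathlib
import Cfsg.Prelude.Def_LieExceptional
import Cfsg.Agent.Lib.Helper2.Sz12

set_option autoImplicit false

namespace Cfsg.Agent.Lib.Helper2.SzL

open Matrix
open scoped LinearAlgebra.Projectivization Pointwise commutatorElement

section Borel

variable {F : Type*} [Field F] [Fintype F] {m : ℕ}

/-- the point stabiliser of `∞` in the Suzuki group -/
def BInf (F : Type*) [Field F] [Fintype F] (m : ℕ) : Subgroup (Cfsg.Sz F m) :=
  (MulAction.stabilizer (SpecialLinearGroup (Fin 4) F) (pInf F)).subgroupOf (Cfsg.Sz F m)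

theorem mem_BInf (g : Cfsg.Sz F m) :
    g ∈ BInf F m ↔ (g : SpecialLinearGroup (Fin 4) F) • pInf F = pInf F := by
  rw [BInf, Subgroup.mem_subgroupOf, MulAction.mem_stabilizer_iff]

theorem QG_le_BInf (hF : Fintype.card F = 2 ^ (2 * m + 1)) : QG (m := m) hF ≤ BInf F m := by
  rintro g ⟨a, b, h⟩
  rw [mem_BInf, h, sS_smul_inf]

theorem conj_mem_QG (hm : 1 ≤ m) (hF : Fintype.card F = 2 ^ (2 * m + 1))
    (β : Cfsg.Sz F m) (hβ : β ∈ BInf F m) (s : Cfsg.Sz F m) (hs : s ∈ QG (m := m) hF) :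
    β * s * β⁻¹ ∈ QG (m := m) hF := by
  obtain ⟨a, b, hab⟩ := hs
  obtain ⟨e, f, t, ht⟩ := fix_inf hm hF β.1 β.2 ((mem_BInf β).mp hβ)
  have key : ((β * s * β⁻¹ : Cfsg.Sz F m) : SpecialLinearGroup (Fin 4) F) =
      sS m (th m (t : F) * a)
        (th m (t : F) * (t : F) ^ 2 * b + th m e * (th m (t : F) * a)
          + th m (th m (t : F) * a) * e) := by
    rw [Subgroup.coe_mul, Subgroup.coe_mul, Subgroup.coe_inv, hab, ht, conj_formula hF]
  exact ⟨_, _, key⟩

theorem normalizer_QG (hm : 1 ≤ m) (hF : Fintype.card F = 2 ^ (2 * m + 1)) :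
    Subgroup.normalizer ((QG (m := m) hF : Subgroup (Cfsg.Sz F m)) : Set (Cfsg.Sz F m)) =
      BInf F m := by
  ext n
  constructor
  · intro hn
    rw [Subgroup.mem_normalizer_iff] at hn
    have h1 := (hn (qS hF 1 0).1).mp (qS hF 1 0).2
    obtain ⟨a', b', h⟩ := h1
    rw [mem_BInf]
    apply conj_sS_fix_inf hF (a := 1) (b := 0) (fun hh => one_ne_zero hh.1) n.1 n.2
    rw [← h]
    rfl
  · intro hn
    rw [Subgroup.mem_normalizer_iff]
    intro h
    constructor
    · exact conj_mem_QG hm hF n hn h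
    · intro hh
      have := conj_mem_QG hm hF n⁻¹ (inv_mem hn) _ hh
      have e : n⁻¹ * (n * h * n⁻¹) * n⁻¹⁻¹ = h := by group
      rwa [e] at this

theorem exists_translate (hF : Fintype.card F = 2 ^ (2 * m + 1)) (a b x y : F) :
    ∃ s : Cfsg.Sz F m, s ∈ QG (m := m) hF ∧
      (s : SpecialLinearGroup (Fin 4) F) • pt m a b = pt m x y := by
  refine ⟨(qS hF (x + a) (y + b + th m (x + a) * a)).1, (qS hF _ _).2, ?_⟩
  show sS m _ _ • pt m a b = _
  rw [sS_smul_pt hF]
  have h1 := add_self hF a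
  have h2 := add_self hF b
  have h3 := add_self hF (th m (x + a) * a)
  congr 1
  · linear_combination h1
  · linear_combination h2 + h3

/-- a subgroup containing the translations and moving `∞` covers all cosets of the point
stabiliser -/
theorem factor (hF : Fintype.card F = 2 ^ (2 * m + 1)) (K : Subgroup (Cfsg.Sz F m))
    (hQ : QG (m := m) hF ≤ K) (k : Cfsg.Sz F m) (hk : k ∈ K) (hkB : k ∉ BInf F m)
    (g : Cfsg.Sz F m) : ∃ μ ∈ K, μ⁻¹ * g ∈ BInf F m := by
  by_cases hg : g ∈ BInf F m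
  · exact ⟨1, K.one_mem, by simpa using hg⟩
  · rw [mem_BInf] at hkB hg
    have hk1 := smul_mem_ovoid k.2 (pInf_mem (F := F) (m := m))
    have hg1 := smul_mem_ovoid g.2 (pInf_mem (F := F) (m := m))
    rcases (mem_ovoid_iff _).mp hk1 with h | ⟨a, b, hab⟩
    · exact absurd h hkB
    rcases (mem_ovoid_iff _).mp hg1 with h | ⟨x, y, hxy⟩
    · exact absurd h hg
    obtain ⟨s, hs, hs2⟩ := exists_translate hF a b x y
    refine ⟨s * k, K.mul_mem (hQ hs) hk, ?_⟩
    rw [mem_BInf]
    have e : (((s * k)⁻¹ * g : Cfsg.Sz F m) : SpecialLinearGroup (Fin 4) F) =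
        (k : SpecialLinearGroup (Fin 4) F)⁻¹ * (s : SpecialLinearGroup (Fin 4) F)⁻¹ *
          (g : SpecialLinearGroup (Fin 4) F) := by
      rw [_root_.mul_inv_rev]; rfl
    rw [e, mul_smul, mul_smul, hxy, inv_smul_eq_iff, inv_smul_eq_iff, hab, hs2]

theorem BInf_ne_top (hF : Fintype.card F = 2 ^ (2 * m + 1)) : BInf F m ≠ ⊤ := by
  intro h
  have : (⟨sW hF, sW_mem hF⟩ : Cfsg.Sz F m) ∈ BInf F m := by rw [h]; trivial
  rw [mem_BInf] at this
  have h2 : sW hF • pInf F = pt m 0 0 := sW_smul_inf hF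
  exact pt_ne_inf (m := m) (0 : F) 0 (h2.symm.trans this)

theorem BInf_isCoatom (hF : Fintype.card F = 2 ^ (2 * m + 1)) : IsCoatom (BInf F m) := by
  refine ⟨BInf_ne_top hF, ?_⟩
  intro K hK
  obtain ⟨k, hk, hkB⟩ := SetLike.exists_of_lt hK
  rw [eq_top_iff]
  intro g _
  obtain ⟨μ, hμ, hμg⟩ := factor hF K ((QG_le_BInf hF).trans hK.le) k hk hkB g
  have : g = μ * (μ⁻¹ * g) := by group
  rw [this]
  exact K.mul_mem hμ (hK.le hμg)

theorem eq_BInf_of_coatom (hm : 1 ≤ m) (hF : Fintype.card F = 2 ^ (2 * m + 1))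
    (M : Subgroup (Cfsg.Sz F m)) (hM : IsCoatom M) (hQ : QG (m := m) hF ≤ M) :
    M = BInf F m := by
  have hle : M ≤ BInf F m := by
    by_contra hcon
    obtain ⟨k, hk, hkB⟩ := SetLike.not_le_iff_exists.mp hcon
    have hN : Subgroup.normalClosure ((QG (m := m) hF : Subgroup (Cfsg.Sz F m)) :
        Set (Cfsg.Sz F m)) ≤ M := by
      rw [Subgroup.normalClosure, Subgroup.closure_le]
      intro c hc
      obtain ⟨b, hb, hbc⟩ := Group.mem_conjugatesOfSet_iff.mp hc
      obtain ⟨g, hg⟩ := isConj_iff.mp hbc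
      obtain ⟨μ, hμ, hμg⟩ := factor hF M hQ k hk hkB g
      have h1 := conj_mem_QG hm hF _ hμg b hb
      have e : c = μ * ((μ⁻¹ * g) * b * (μ⁻¹ * g)⁻¹) * μ⁻¹ := by
        rw [← hg]; group
      rw [e]
      exact M.mul_mem (M.mul_mem hμ (hQ h1)) (M.inv_mem hμ)
    haveI := isSimple hm hF
    have hnorm : (Subgroup.normalClosure ((QG (m := m) hF : Subgroup (Cfsg.Sz F m)) :
        Set (Cfsg.Sz F m))).Normal := Subgroup.normalClosure_normal
    rcases hnorm.eq_bot_or_eq_top with h | h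
    · have h1 : (qS (m := m) hF 1 0).1 ∈ Subgroup.normalClosure
          ((QG (m := m) hF : Subgroup (Cfsg.Sz F m)) : Set (Cfsg.Sz F m)) :=
        Subgroup.subset_normalClosure (qS hF 1 0).2
      rw [h, Subgroup.mem_bot] at h1
      have h2 : qS (m := m) hF 1 0 = qS hF 0 0 := by
        rw [qS_zero]; exact Subtype.ext h1
      exact one_ne_zero (qS_inj hF h2).1
    · rw [h] at hN
      exact hM.1 (eq_top_iff.mpr hN)
  rcases (hM.le_iff).mp hle with h | h
  · exact absurd h (BInf_ne_top hF)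
  · exact h.symm

end Borel

/-- transporting "the normaliser is the unique maximal subgroup containing `Q`" along an inner
automorphism -/
theorem transport_max {G : Type*} [Group G] (Q : Subgroup G) (x : G)
    (h : IsCoatom (Subgroup.normalizer (Q : Set G)) ∧
      ∀ M : Subgroup G, IsCoatom M → Q ≤ M → M = Subgroup.normalizer (Q : Set G)) :
    IsCoatom (Subgroup.normalizer ((MulAut.conj x • Q : Subgroup G) : Set G)) ∧
      ∀ M : Subgroup G, IsCoatom M → MulAut.conj x • Q ≤ M →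
        M = Subgroup.normalizer ((MulAut.conj x • Q : Subgroup G) : Set G) := by
  set φ : G ≃* G := MulAut.conj x with hφ
  have e1 : (MulAut.conj x • Q : Subgroup G) = Q.map φ.toMonoidHom := rfl
  have e2 : Subgroup.normalizer ((MulAut.conj x • Q : Subgroup G) : Set G) =
      φ.mapSubgroup (Subgroup.normalizer (Q : Set G)) := by
    rw [e1]
    exact (Subgroup.map_equiv_normalizer_eq Q φ).symm
  refine ⟨?_, ?_⟩
  · rw [e2, OrderIso.isCoatom_iff]
    exact h.1
  · intro M hM hQM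
    have hM' : IsCoatom (φ.symm.mapSubgroup M) := by
      rw [OrderIso.isCoatom_iff]; exact hM
    have hQ' : Q ≤ φ.symm.mapSubgroup M := by
      intro q hq
      have : φ q ∈ M := hQM (by rw [e1]; exact Subgroup.mem_map_of_mem _ hq)
      have h2 : φ.symm (φ q) ∈ φ.symm.mapSubgroup M := Subgroup.mem_map_of_mem _ this
      simpa using h2
    have h3 := h.2 _ hM' hQ'
    rw [e2, ← h3]
    ext y
    constructor
    · intro hy
      refine Subgroup.mem_map.mpr ⟨φ.symm y, Subgroup.mem_map_of_mem _ hy, by simp⟩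
    · intro hy
      obtain ⟨z, hz, rfl⟩ := Subgroup.mem_map.mp hy
      obtain ⟨w, hw, rfl⟩ := Subgroup.mem_map.mp hz
      simpa using hw

end Cfsg.Agent.Lib.Helper2.SzL
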