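import Mathlib
import Cfsg.Prelude.Def_LieExceptional
import Cfsg.Agent.Lib.Helper2.Sz13
import Cfsg.Agent.Lib.Helper2.Irr4

set_option autoImplicit false

namespace Cfsg.Agent.Lib.Helper2.SzL

open Matrix
open scoped LinearAlgebra.Projectivization Pointwise commutatorElement IsMulCommutative

section CN

/-- arithmetic of primes dividing `q ^ 2 + 1` for even `q` -/
theorem arith_q2 (q p : ℕ) (hp : p.Prime) (hq2 : 2 ∣ q) (hq0 : 1 ≤ q) (hdiv : p ∣ q ^ 2 + 1) :
    p ≠ 2 ∧ ¬ p ∣ q ∧ ¬ p ∣ q - 1 ∧ ¬ p ∣ q ^ 2 - 1 ∧ ¬ p ∣ q ^ 3 - 1 := by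
  haveI : Fact p.Prime := ⟨hp⟩
  have hp2 : p ≠ 2 := by
    rintro rfl
    have h1 : 2 ∣ q ^ 2 := dvd_pow hq2 (by norm_num)
    have h2 : 2 ∣ 1 := (Nat.dvd_add_right h1).mp hdiv
    omega
  have hx : ((q : ZMod p)) ^ 2 + 1 = 0 := by
    have := (ZMod.natCast_eq_zero_iff (q ^ 2 + 1) p).mpr hdiv
    push_cast at this
    exact this
  have h2ne : (2 : ZMod p) ≠ 0 := by
    intro h
    have h' : ((2 : ℕ) : ZMod p) = 0 := by exact_mod_cast h
    have := (ZMod.natCast_eq_zero_iff 2 p).mp h'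
    have := Nat.le_of_dvd (by norm_num) this
    have := hp.two_le
    omega
  have hq1' : 1 ≤ q ^ 2 := Nat.one_le_pow _ _ hq0
  have hq3' : 1 ≤ q ^ 3 := Nat.one_le_pow _ _ hq0
  refine ⟨hp2, ?_, ?_, ?_, ?_⟩
  · intro h
    have h0 : (q : ZMod p) = 0 := (ZMod.natCast_eq_zero_iff q p).mpr h
    rw [h0] at hx
    simp at hx
  · intro h
    have h0 := (ZMod.natCast_eq_zero_iff (q - 1) p).mpr h
    rw [Nat.cast_sub hq0] at h0
    have h1 : (q : ZMod p) = 1 := by
      push_cast at h0
      linear_combination h0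
    rw [h1] at hx
    apply h2ne
    linear_combination hx
  · intro h
    have h0 := (ZMod.natCast_eq_zero_iff (q ^ 2 - 1) p).mpr h
    rw [Nat.cast_sub hq1'] at h0
    push_cast at h0
    apply h2ne
    linear_combination hx - h0
  · intro h
    have h0 := (ZMod.natCast_eq_zero_iff (q ^ 3 - 1) p).mpr h
    rw [Nat.cast_sub hq3'] at h0
    push_cast at h0
    -- x^3 = 1, x^2 = -1 → x = -1 → x^2 = 1 → 2 = 0
    have h1 : (q : ZMod p) = -1 := by
      linear_combination (q : ZMod p) * hx - h0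
    rw [h1] at hx
    apply h2ne
    linear_combination hx

variable {F : Type*} [Field F] [Fintype F] {m : ℕ}

/-- the centraliser of a nontrivial torus element is the torus -/
theorem centralizer_sT (hm : 1 ≤ m) (hF : Fintype.card F = 2 ^ (2 * m + 1)) {t : Fˣ} (ht : t ≠ 1)
    (c : SpecialLinearGroup (Fin 4) F) (hc : c ∈ Cfsg.Sz F m)
    (hcomm : c * sT m t = sT m t * c) : ∃ t' : Fˣ, c = sT m t' := by
  -- fixed points of sT t on the ovoid
  have hfix : ∀ p ∈ Cfsg.suzukiOvoid F m, sT m t • p = p → p = pInf F ∨ p = pt m (0 : F) 0 := by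
    intro p hp h
    rcases (mem_ovoid_iff p).mp hp with rfl | ⟨x, y, rfl⟩
    · left; rfl
    · right
      by_cases hxy : x ≠ 0 ∨ y ≠ 0
      · exact absurd (torus_fix_pt hF t x y hxy h) ht
      · push_neg at hxy
        rw [hxy.1, hxy.2]
  have h1 : sT m t • (c • pInf F) = c • pInf F := by
    rw [← mul_smul, ← hcomm, mul_smul, sT_smul_inf]
  have h2 : sT m t • (c • pt m (0 : F) 0) = c • pt m (0 : F) 0 := by
    rw [← mul_smul, ← hcomm, mul_smul, sT_smul_zero hF]
  have hne : c • pInf F ≠ c • pt m (0 : F) 0 := by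
    intro h
    exact pt_ne_inf (0 : F) 0 (MulAction.injective c h).symm
  rcases hfix _ (smul_mem_ovoid hc pInf_mem) h1 with e1 | e1
  · rcases hfix _ (smul_mem_ovoid hc (pt_mem _ _)) h2 with e2 | e2
    · exact absurd (e1.trans e2.symm) hne
    · exact fix_two hm hF c hc e1 e2
  · rcases hfix _ (smul_mem_ovoid hc (pt_mem _ _)) h2 with e2 | e2
    · exfalso
      have hW1 : (sW hF * c) • pInf F = pInf F := by rw [mul_smul, e1, sW_smul_zero]
      have hW2 : (sW hF * c) • pt m (0 : F) 0 = pt m (0 : F) 0 := by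
        rw [mul_smul, e2, sW_smul_inf]
      obtain ⟨r, hr⟩ := fix_two hm hF _ (Subgroup.mul_mem _ (sW_mem hF) hc) hW1 hW2
      have hc' : c = sW hF * sT m r := by
        rw [← hr, ← mul_assoc, sW_mul_sW, one_mul]
      rw [hc'] at hcomm
      -- sW sT r sT t = sT t sW sT r → sT r sT t = sW sT t sW sT r = sT t⁻¹ sT r
      have h3 : sT m r * sT m t = (sW hF * sT m t * sW hF) * sT m r := by
        calc sT m r * sT m t = (sW hF * sW hF) * (sT m r * sT m t) := by
              rw [sW_mul_sW, one_mul]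
          _ = sW hF * (sW hF * sT m r * sT m t) := by group
          _ = sW hF * (sT m t * (sW hF * sT m r)) := by rw [hcomm]
          _ = (sW hF * sT m t * sW hF) * sT m r := by group
      rw [sW_sT_sW hF, ← sT_mul, ← sT_mul] at h3
      have h4 := sT_inj h3
      have h5 : t * t = 1 := by
        have : r * t = r * t⁻¹ := by rw [h4, mul_comm]
        have h6 : t = t⁻¹ := mul_left_cancel this
        calc t * t = t * t⁻¹ := by rw [← h6]
          _ = 1 := mul_inv_cancel t
      exact ht (unit_sq_eq_one hF h5)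
    · exact absurd (e1.trans e2.symm) hne

/-- the centraliser of a central involution of `Q` lies in `Q` -/
theorem centralizer_sS0 (hm : 1 ≤ m) (hF : Fintype.card F = 2 ^ (2 * m + 1)) {b : F} (hb : b ≠ 0)
    (c : SpecialLinearGroup (Fin 4) F) (hc : c ∈ Cfsg.Sz F m)
    (hcomm : c * sS m 0 b = sS m 0 b * c) : ∃ e f : F, c = sS m e f := by
  have hconj : c * sS m 0 b * c⁻¹ = sS m 0 b := by rw [hcomm, mul_inv_cancel_right]
  have hfix := conj_sS_fix_inf hF (fun hh => hb hh.2) c hc hconj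
  obtain ⟨e, f, t, rfl⟩ := fix_inf hm hF c hc hfix
  rw [conj_formula hF] at hconj
  obtain ⟨_, h4⟩ := sS_inj hconj
  simp only [mul_zero, th_zero, zero_mul, add_zero] at h4
  have h5 : th m (t : F) * (t : F) ^ 2 = 1 := by
    have : (th m (t : F) * (t : F) ^ 2) * b = 1 * b := by rw [one_mul]; exact h4
    exact mul_right_cancel₀ hb this
  have h6 : th m (t : F) * (t : F) = th m 1 * 1 := by
    apply th_inj hF
    rw [th_mul, th_th hF, th_one, mul_one, th_one]
    linear_combination h5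
  have h7 : (t : F) = 1 := thmul_inj hF h6
  have h8 : t = 1 := Units.ext h7
  exact ⟨e, f, by rw [h8, sT_one, mul_one]⟩

end CN

end Cfsg.Agent.Lib.Helper2.SzL
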