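import Mathlib
import Cfsg.Prelude.Def_LieExceptional
import Cfsg.Agent.Lib.Helper2.Sz14

set_option autoImplicit false

namespace Cfsg.Agent.Lib.Helper2.SzL

open Matrix
open scoped LinearAlgebra.Projectivization Pointwise commutatorElement IsMulCommutative

section CN2

variable {F : Type*} [Field F] [Fintype F] {m : ℕ}

/-- order of the torus -/
theorem card_torus (hF : Fintype.card F = 2 ^ (2 * m + 1)) :
    Nat.card (torusHom (m := m) hF).range = 2 ^ (2 * m + 1) - 1 := by
  rw [← Nat.card_congr (MonoidHom.ofInjective (torusHom_injective (m := m) hF)).toEquiv,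
    Nat.card_units, Nat.card_eq_fintype_card, hF]

/-- for an odd prime `p` dividing `q - 1`, a Sylow `p`-subgroup inside the torus -/
theorem exists_sylow_le_torus (hm : 1 ≤ m) (hF : Fintype.card F = 2 ^ (2 * m + 1))
    (p : ℕ) [Fact p.Prime] (hp2 : p ≠ 2) (hdiv : p ∣ 2 ^ (2 * m + 1) - 1) :
    ∃ P : Sylow p (Cfsg.Sz F m),
      (P : Subgroup (Cfsg.Sz F m)) ≤ (torusHom (m := m) hF).range := by
  have hpr : p.Prime := Fact.out
  have hq1 : 1 ≤ 2 ^ (2 * m + 1) := Nat.one_le_two_pow
  have hq2 : 2 ∣ 2 ^ (2 * m + 1) := dvd_pow_self 2 (by omega)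
  have hpn : p ^ (Nat.card (Cfsg.Sz F m)).factorization p ∣ Nat.card (Cfsg.Sz F m) :=
    Nat.ordProj_dvd _ _
  have hcardG := card_Sz (F := F) hm hF
  set n := (Nat.card (Cfsg.Sz F m)).factorization p with hn
  rw [hcardG] at hpn
  have hc0 : Nat.Coprime p 2 := (Nat.coprime_primes hpr Nat.prime_two).mpr hp2
  have hc1 : Nat.Coprime (p ^ n) ((2 ^ (2 * m + 1)) ^ 2) :=
    Nat.Coprime.pow _ _ (Nat.Coprime.pow_right _ hc0)
  have hnd : ¬ p ∣ (2 ^ (2 * m + 1)) ^ 2 + 1 := by
    intro h
    exact (arith_q2 _ p hpr hq2 hq1 h).2.2.1 hdiv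
  have hc2 : Nat.Coprime (p ^ n) ((2 ^ (2 * m + 1)) ^ 2 + 1) :=
    Nat.Coprime.pow_left _ ((Nat.Prime.coprime_iff_not_dvd hpr).mpr hnd)
  have h3 : p ^ n ∣ 2 ^ (2 * m + 1) - 1 :=
    Nat.Coprime.dvd_of_dvd_mul_left (Nat.Coprime.mul_right hc1 hc2) hpn
  have h4 : p ^ n ∣ Nat.card (torusHom (m := m) hF).range := by rw [card_torus]; exact h3
  obtain ⟨K, hK⟩ := Sylow.exists_subgroup_card_pow_prime p h4
  have hcard : Nat.card (K.map (torusHom (m := m) hF).range.subtype) = p ^ n := by
    rw [Subgroup.card_map_of_injective (Subgroup.subtype_injective _), hK]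
  refine ⟨Sylow.ofCard _ hcard, ?_⟩
  rw [Sylow.coe_ofCard]
  exact Subgroup.map_subtype_le K

theorem conj_mem_of_smul {p : ℕ} [Fact p.Prime] (P0 P : Sylow p (Cfsg.Sz F m))
    (x : Cfsg.Sz F m) (hx : x • P0 = P) (z : Cfsg.Sz F m) :
    z ∈ (P : Subgroup (Cfsg.Sz F m)) ↔ x⁻¹ * z * x ∈ (P0 : Subgroup (Cfsg.Sz F m)) := by
  rw [← hx, Sylow.coe_subgroup_smul, Subgroup.mem_pointwise_smul_iff_inv_smul_mem]
  have h2 : (MulAut.conj x)⁻¹ • z = x⁻¹ * z * x := by
    rw [← map_inv, MulAut.smul_def, MulAut.conj_apply, inv_inv]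
  rw [h2]

/-- elements of odd prime order dividing `q - 1` are conjugate into the torus -/
theorem exists_conj_torus (hm : 1 ≤ m) (hF : Fintype.card F = 2 ^ (2 * m + 1))
    (p : ℕ) [Fact p.Prime] (hp2 : p ≠ 2) (hdiv : p ∣ 2 ^ (2 * m + 1) - 1)
    (z : Cfsg.Sz F m) (hz : orderOf z = p) :
    ∃ (x : Cfsg.Sz F m) (t : Fˣ), t ≠ 1 ∧ x⁻¹ * z * x = torusHom hF t := by
  obtain ⟨P0, hP0⟩ := exists_sylow_le_torus hm hF p hp2 hdiv
  have hzp : IsPGroup p (Subgroup.zpowers z) := by
    apply IsPGroup.of_card (n := 1)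
    rw [Nat.card_zpowers, hz, pow_one]
  obtain ⟨P, hP⟩ := hzp.exists_le_sylow
  obtain ⟨x, hx⟩ := MulAction.exists_smul_eq (Cfsg.Sz F m) P0 P
  have hmem : x⁻¹ * z * x ∈ (P0 : Subgroup (Cfsg.Sz F m)) :=
    (conj_mem_of_smul P0 P x hx z).mp (hP (Subgroup.mem_zpowers z))
  obtain ⟨t, ht⟩ := hP0 hmem
  refine ⟨x, t, ?_, ht.symm⟩
  rintro rfl
  rw [map_one] at ht
  have hz1 : z = 1 := by
    have : z = x * (x⁻¹ * z * x) * x⁻¹ := by group
    rw [this, ← ht]; group
  rw [hz1, orderOf_one] at hz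
  exact (Fact.out : p.Prime).one_lt.ne hz

/-- the underlying matrix, as a monoid homomorphism -/
def matHom (F : Type*) [Field F] [Fintype F] (m : ℕ) :
    Cfsg.Sz F m →* Matrix (Fin 4) (Fin 4) F where
  toFun g := (g.1 : SpecialLinearGroup (Fin 4) F).1
  map_one' := rfl
  map_mul' _ _ := rfl

theorem matHom_injective : Function.Injective (matHom F m) := by
  intro a b h
  exact Subtype.ext (Subtype.ext h)

/-- Sylow subgroups of the Suzuki group for odd primes are cyclic -/
theorem sylow_odd_cyclic (hm : 1 ≤ m) (hF : Fintype.card F = 2 ^ (2 * m + 1))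
    {p : ℕ} [Fact p.Prime] (hp : p ≠ 2) (P : Sylow p (Cfsg.Sz F m)) : IsCyclic P := by
  have hpr : p.Prime := Fact.out
  have hq1 : 1 ≤ 2 ^ (2 * m + 1) := Nat.one_le_two_pow
  have hq2 : 2 ∣ 2 ^ (2 * m + 1) := dvd_pow_self 2 (by omega)
  by_cases h1 : p ∣ 2 ^ (2 * m + 1) - 1
  · obtain ⟨P0, hP0⟩ := exists_sylow_le_torus hm hF p hp h1
    have e : P ≃* P0 := Sylow.equiv P P0
    haveI : IsCyclic (torusHom (m := m) hF).range :=
      isCyclic_of_surjective (torusHom (m := m) hF).rangeRestrict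
        (torusHom (m := m) hF).rangeRestrict_surjective
    haveI : IsCyclic P0 :=
      isCyclic_of_injective (Subgroup.inclusion hP0) (Subgroup.inclusion_injective hP0)
    exact isCyclic_of_injective e.toMonoidHom e.injective
  · by_cases h2 : p ∣ (2 ^ (2 * m + 1)) ^ 2 + 1
    · obtain ⟨_, hq0, hq1', hq2', hq3'⟩ := arith_q2 _ p hpr hq2 hq1 h2
      by_cases htriv : Subsingleton P
      · exact isCyclic_of_subsingleton
      · haveI : Nontrivial P := not_subsingleton_iff_nontrivial.mp htriv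
        have hPg : IsPGroup p P := P.isPGroup'
        haveI hcen : Nontrivial (Subgroup.center P) := hPg.center_nontrivial
        have hdvd : p ∣ Nat.card (Subgroup.center P) := by
          obtain ⟨k, hk⟩ := IsPGroup.iff_card.mp (hPg.to_subgroup (Subgroup.center P))
          have h1lt : 1 < Nat.card (Subgroup.center P) := Finite.one_lt_card
          rw [hk] at h1lt ⊢
          have hk0 : k ≠ 0 := by
            rintro rfl
            simp at h1lt
          exact dvd_pow_self p hk0
        obtain ⟨z, hz⟩ := exists_prime_orderOf_dvd_card' p hdvd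
        let φ : P →* Matrix (Fin 4) (Fin 4) F := (matHom F m).comp (P : Subgroup (Cfsg.Sz F m)).subtype
        have hφ : Function.Injective φ :=
          matHom_injective.comp (Subgroup.subtype_injective _)
        have hzp : z ^ p = 1 := by
          have := pow_orderOf_eq_one z
          rwa [hz] at this
        have hMp : φ (z : P) ^ p = 1 := by
          rw [← map_pow, ← Subgroup.coe_pow, hzp, Subgroup.coe_one, map_one]
        have hM1 : φ (z : P) ≠ 1 := by
          intro h
          have h' : (z : P) = 1 := hφ (h.trans (map_one φ).symm)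
          have h'' : z = 1 := Subtype.ext h'
          rw [h'', orderOf_one] at hz
          exact hpr.one_lt.ne hz
        have hcomm : ∀ g : P, φ (z : P) * φ g = φ g * φ (z : P) := by
          intro g
          rw [← map_mul, ← map_mul]
          congr 1
          exact (Subgroup.mem_center_iff.mp z.2 g).symm
        rw [← hF] at hq0 hq1' hq2' hq3'
        exact Irr4.isCyclic_of_commute (φ (z : P)) p hMp hM1 hq0 hq1' hq2' hq3' φ hφ hcomm
    · -- `p` does not divide the order
      have hnd : ¬ p ∣ Nat.card (Cfsg.Sz F m) := by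
        rw [card_Sz hm hF]
        intro h
        rcases (Nat.Prime.dvd_mul hpr).mp h with h | h
        · rcases (Nat.Prime.dvd_mul hpr).mp h with h | h
          · have h3 := hpr.dvd_of_dvd_pow (hpr.dvd_of_dvd_pow h)
            exact hp ((Nat.prime_dvd_prime_iff_eq hpr Nat.prime_two).mp h3)
          · exact h2 h
        · exact h1 h
      have hcard : Nat.card P = 1 := by
        rw [Sylow.card_eq_multiplicity, Nat.factorization_eq_zero_of_not_dvd hnd, pow_zero]
      haveI : Subsingleton P := (Nat.card_eq_one_iff_unique.mp hcard).1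
      exact isCyclic_of_subsingleton

end CN2

end Cfsg.Agent.Lib.Helper2.SzL
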