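import Mathlib
import Cfsg.Prelude.Def_LieExceptional
import Cfsg.Agent.Lib.Helper2.Sz15

set_option autoImplicit false

namespace Cfsg.Agent.Lib.Helper2.SzL

open Matrix
open scoped LinearAlgebra.Projectivization Pointwise commutatorElement IsMulCommutative

section CN3

variable {F : Type*} [Field F] [Fintype F] {m : ℕ}

theorem conj_commute {G : Type*} [Group G] (x c z : G) (h : c * z = z * c) :
    (x⁻¹ * c * x) * (x⁻¹ * z * x) = (x⁻¹ * z * x) * (x⁻¹ * c * x) := by
  have e1 : (x⁻¹ * c * x) * (x⁻¹ * z * x) = x⁻¹ * (c * z) * x := by group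
  have e2 : (x⁻¹ * z * x) * (x⁻¹ * c * x) = x⁻¹ * (z * c) * x := by group
  rw [e1, e2, h]

/-- centralisers of involutions are 2-groups -/
theorem centralizer_involution (hm : 1 ≤ m) (hF : Fintype.card F = 2 ^ (2 * m + 1))
    (z : Cfsg.Sz F m) (hz : orderOf z = 2) :
    ∃ P : Sylow 2 (Cfsg.Sz F m),
      Subgroup.centralizer ({z} : Set (Cfsg.Sz F m)) ≤ (P : Subgroup (Cfsg.Sz F m)) := by
  haveI : Fact (Nat.Prime 2) := ⟨Nat.prime_two⟩
  have hzp : IsPGroup 2 (Subgroup.zpowers z) := by
    apply IsPGroup.of_card (n := 1)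
    rw [Nat.card_zpowers, hz, pow_one]
  obtain ⟨P, hP⟩ := hzp.exists_le_sylow
  obtain ⟨x, hx⟩ := MulAction.exists_smul_eq (Cfsg.Sz F m) (QSyl hm hF) P
  have hmem : x⁻¹ * z * x ∈ QG (m := m) hF :=
    (conj_mem_of_smul (QSyl hm hF) P x hx z).mp (hP (Subgroup.mem_zpowers z))
  obtain ⟨a, b, hab⟩ := hmem
  have hz2 : z ^ 2 = 1 := by rw [← hz]; exact pow_orderOf_eq_one z
  have hz1 : z ≠ 1 := by
    rintro rfl
    rw [orderOf_one] at hz
    omega
  have hsq : (x⁻¹ * z * x) ^ 2 = 1 := by
    have : (x⁻¹ * z * x) ^ 2 = x⁻¹ * z ^ 2 * x := by rw [pow_two, pow_two]; group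
    rw [this, hz2]; group
  have hsq' : sS m a b * sS m a b = sS m 0 0 := by
    have := congrArg Subtype.val hsq
    rw [Subgroup.coe_pow, hab, pow_two, Subgroup.coe_one] at this
    rw [this, sS_zero]
  rw [sS_mul hF] at hsq'
  have ha : a = 0 := by
    have h1 := (sS_inj hsq').2
    have h2 : th m a * a = 0 := by
      have h3 := add_self hF b
      rw [h3, zero_add] at h1
      exact h1
    rcases mul_eq_zero.mp h2 with h | h
    · exact th_eq_zero.mp h
    · exact h
  subst ha
  have hb : b ≠ 0 := by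
    rintro rfl
    rw [sS_zero] at hab
    have h1 : x⁻¹ * z * x = 1 := Subtype.ext hab
    apply hz1
    have : z = x * (x⁻¹ * z * x) * x⁻¹ := by group
    rw [this, h1]; group
  refine ⟨P, ?_⟩
  intro c hc
  rw [Subgroup.mem_centralizer_singleton_iff] at hc
  have hc' : ((x⁻¹ * c * x : Cfsg.Sz F m) : SpecialLinearGroup (Fin 4) F) * sS m 0 b =
      sS m 0 b * ((x⁻¹ * c * x : Cfsg.Sz F m) : SpecialLinearGroup (Fin 4) F) := by
    rw [← hab]
    exact congrArg Subtype.val (conj_commute x c z hc)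
  obtain ⟨e, f, hef⟩ := centralizer_sS0 hm hF hb _ (x⁻¹ * c * x).2 hc'
  exact (conj_mem_of_smul (QSyl hm hF) P x hx c).mpr ⟨e, f, hef⟩

/-- centralisers of elements of prime order are nilpotent -/
theorem centralizer_prime_nilpotent (hm : 1 ≤ m) (hF : Fintype.card F = 2 ^ (2 * m + 1))
    (z : Cfsg.Sz F m) (p : ℕ) [Fact p.Prime] (hz : orderOf z = p) :
    Group.IsNilpotent (Subgroup.centralizer ({z} : Set (Cfsg.Sz F m))) := by
  have hpr : p.Prime := Fact.out
  have hq1 : 1 ≤ 2 ^ (2 * m + 1) := Nat.one_le_two_pow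
  have hq2 : 2 ∣ 2 ^ (2 * m + 1) := dvd_pow_self 2 (by omega)
  have hpG : p ∣ Nat.card (Cfsg.Sz F m) := by rw [← hz]; exact orderOf_dvd_natCard z
  rw [card_Sz hm hF] at hpG
  have hz1 : z ≠ 1 := by
    rintro rfl
    rw [orderOf_one] at hz
    exact hpr.one_lt.ne hz
  by_cases hp2 : p = 2
  · subst hp2
    obtain ⟨P, hP⟩ := centralizer_involution hm hF z hz
    have hPc : IsPGroup 2 (Subgroup.centralizer ({z} : Set (Cfsg.Sz F m))) :=
      P.isPGroup'.to_le hP
    exact hPc.isNilpotent
  · by_cases h1 : p ∣ 2 ^ (2 * m + 1) - 1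
    · obtain ⟨x, t, ht, hxt⟩ := exists_conj_torus hm hF p hp2 h1 z hz
      have key : ∀ c : Cfsg.Sz F m, c * z = z * c →
          ∃ t' : Fˣ, x⁻¹ * c * x = torusHom hF t' := by
        intro c hc
        have hc' : ((x⁻¹ * c * x : Cfsg.Sz F m) : SpecialLinearGroup (Fin 4) F) * sT m t =
            sT m t * ((x⁻¹ * c * x : Cfsg.Sz F m) : SpecialLinearGroup (Fin 4) F) := by
          have := conj_commute x c z hc
          rw [hxt] at this
          exact congrArg Subtype.val this
        obtain ⟨t', ht'⟩ := centralizer_sT hm hF ht _ (x⁻¹ * c * x).2 hc'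
        exact ⟨t', Subtype.ext ht'⟩
      haveI : IsMulCommutative (Subgroup.centralizer ({z} : Set (Cfsg.Sz F m))) := by
        apply IsMulCommutative.of_comm
        rintro ⟨c, hc⟩ ⟨d, hd⟩
        apply Subtype.ext
        show c * d = d * c
        rw [Subgroup.mem_centralizer_singleton_iff] at hc hd
        obtain ⟨t1, h1⟩ := key c hc
        obtain ⟨t2, h2⟩ := key d hd
        have h3 : (x⁻¹ * c * x) * (x⁻¹ * d * x) = (x⁻¹ * d * x) * (x⁻¹ * c * x) := by
          rw [h1, h2, ← map_mul, ← map_mul, mul_comm]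
        have e1 : c * d = x * ((x⁻¹ * c * x) * (x⁻¹ * d * x)) * x⁻¹ := by group
        have e2 : d * c = x * ((x⁻¹ * d * x) * (x⁻¹ * c * x)) * x⁻¹ := by group
        rw [e1, e2, h3]
      infer_instance
    · have h2 : p ∣ (2 ^ (2 * m + 1)) ^ 2 + 1 := by
        rcases (Nat.Prime.dvd_mul hpr).mp hpG with h | h
        · rcases (Nat.Prime.dvd_mul hpr).mp h with h | h
          · have h3 := hpr.dvd_of_dvd_pow (hpr.dvd_of_dvd_pow h)
            exact absurd ((Nat.prime_dvd_prime_iff_eq hpr Nat.prime_two).mp h3) hp2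
          · exact h
        · exact absurd h h1
      obtain ⟨_, hq0, hq1', hq2', hq3'⟩ := arith_q2 _ p hpr hq2 hq1 h2
      rw [← hF] at hq0 hq1' hq2' hq3'
      have hMp : matHom F m z ^ p = 1 := by
        have hzp : z ^ p = 1 := by
          have := pow_orderOf_eq_one z
          rwa [hz] at this
        rw [← map_pow, hzp, map_one]
      have hM1 : matHom F m z ≠ 1 := by
        intro h
        exact hz1 (matHom_injective (h.trans (map_one _).symm))
      haveI : IsMulCommutative (Subgroup.centralizer ({z} : Set (Cfsg.Sz F m))) := by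
        apply IsMulCommutative.of_comm
        rintro ⟨c, hc⟩ ⟨d, hd⟩
        apply Subtype.ext
        show c * d = d * c
        rw [Subgroup.mem_centralizer_singleton_iff] at hc hd
        apply matHom_injective (F := F) (m := m)
        rw [map_mul, map_mul]
        apply Irr4.commutant_comm (matHom F m z) p hMp hM1 hq0 hq1' hq2' hq3'
        · rw [← map_mul, ← map_mul, hc]
        · rw [← map_mul, ← map_mul, hd]
      infer_instance

/-- the Suzuki groups are CN-groups -/
theorem isCN (hm : 1 ≤ m) (hF : Fintype.card F = 2 ^ (2 * m + 1)) :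
    Cfsg.IsCNGroup (Cfsg.Sz F m) := by
  intro g hg
  have hn : orderOf g ≠ 1 := fun h => hg (orderOf_eq_one_iff.mp h)
  have hpr : (orderOf g).minFac.Prime := Nat.minFac_prime hn
  haveI : Fact (orderOf g).minFac.Prime := ⟨hpr⟩
  have hpd : (orderOf g).minFac ∣ orderOf g := Nat.minFac_dvd _
  have hzord : orderOf (g ^ (orderOf g / (orderOf g).minFac)) = (orderOf g).minFac :=
    orderOf_pow_orderOf_div (orderOf_pos g).ne' hpd
  have hle : Subgroup.centralizer ({g} : Set (Cfsg.Sz F m)) ≤
      Subgroup.centralizer {g ^ (orderOf g / (orderOf g).minFac)} := by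
    intro c hc
    rw [Subgroup.mem_centralizer_singleton_iff] at hc ⊢
    exact (Commute.pow_right (show Commute c g from hc) _)
  haveI := centralizer_prime_nilpotent hm hF _ _ hzord
  exact Group.nilpotent_of_mulEquiv (Subgroup.subgroupOfEquivOfLe hle)

end CN3

end Cfsg.Agent.Lib.Helper2.SzL
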