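import Mathlib
import Cfsg.Prelude.Def_LieExceptional
import Cfsg.Prelude.Def_Sz
import Cfsg.Agent.Lib.Helper2.Sz16

set_option autoImplicit false

namespace Cfsg.Agent.Lib.Helper2.SzL

open Matrix

section LieModel

variable {F : Type*} [Field F] [Fintype F] {m : ℕ}

/-- `2 × 2` minors: rows `k l`, columns `i j` -/
def mn (A : Matrix (Fin 4) (Fin 4) F) (k l i j : Fin 4) : F := A k i * A l j - A l i * A k j

theorem star4_apply (A : Matrix (Fin 4) (Fin 4) F) (p r : Fin 4) :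
    Cfsg.Lie.star4 A p r = mn A (Cfsg.Lie.pairOf p).1 (Cfsg.Lie.pairOf p).2
      (Cfsg.Lie.pairOf r).1 (Cfsg.Lie.pairOf r).2 := rfl

/-- Cauchy–Binet for `2 × 2` minors -/
theorem mn_mul (A B : Matrix (Fin 4) (Fin 4) F) (k l i j : Fin 4) :
    mn (A * B) k l i j = mn A k l 0 1 * mn B 0 1 i j + mn A k l 0 2 * mn B 0 2 i j
      + mn A k l 0 3 * mn B 0 3 i j + mn A k l 1 2 * mn B 1 2 i j
      + mn A k l 1 3 * mn B 1 3 i j + mn A k l 2 3 * mn B 2 3 i j := by
  unfold mn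
  simp only [Matrix.mul_apply, Fin.sum_univ_four]
  ring

/-- entries of `A J Aᵀ` -/
def rowRel (A : Matrix (Fin 4) (Fin 4) F) (k l : Fin 4) : F :=
  A k 0 * A l 3 + A k 1 * A l 2 + A k 2 * A l 1 + A k 3 * A l 0

/-- entries of `Aᵀ J A` -/
def colRel (A : Matrix (Fin 4) (Fin 4) F) (i j : Fin 4) : F :=
  A 0 i * A 3 j + A 1 i * A 2 j + A 2 i * A 1 j + A 3 i * A 0 j

theorem mn_mul_of (h2 : (2 : F) = 0) (A B : Matrix (Fin 4) (Fin 4) F) (k l i j : Fin 4)
    (hA : rowRel A k l = 0) (hB : colRel B i j = 0) :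
    mn (A * B) k l i j = mn A k l 0 1 * mn B 0 1 i j + mn A k l 0 2 * mn B 0 2 i j
      + mn A k l 1 3 * mn B 1 3 i j + mn A k l 2 3 * mn B 2 3 i j := by
  rw [mn_mul]
  unfold rowRel at hA
  unfold colRel at hB
  unfold mn
  linear_combination (A k 0 * A l 3 - A l 0 * A k 3) * hB + (B 1 i * B 2 j - B 2 i * B 1 j) * hA
    - ((A k 0 * A l 3 - A l 0 * A k 3) * (B 3 i * B 0 j + B 2 i * B 1 j)
      + (B 1 i * B 2 j - B 2 i * B 1 j) * (A l 0 * A k 3 + A l 1 * A k 2)
      + (A k 0 * A l 3 - A l 0 * A k 3) * (B 1 i * B 2 j - B 2 i * B 1 j)) * h2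

theorem colRel_eq (A : Matrix (Fin 4) (Fin 4) F) (i j : Fin 4) :
    (A.transpose * Cfsg.suzukiForm F * A) i j = colRel A i j := by
  unfold colRel
  simp [Cfsg.suzukiForm, Matrix.mul_apply, Fin.sum_univ_four]
  ring

theorem rowRel_eq (A : Matrix (Fin 4) (Fin 4) F) (k l : Fin 4) :
    (A * Cfsg.suzukiForm F * A.transpose) k l = rowRel A k l := by
  unfold rowRel
  simp [Cfsg.suzukiForm, Matrix.mul_apply, Fin.sum_univ_four]
  ring

theorem suzukiForm_mul_self : Cfsg.suzukiForm F * Cfsg.suzukiForm F = 1 := by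
  ext i j
  fin_cases i <;> fin_cases j <;> simp [Cfsg.suzukiForm, Matrix.mul_apply, Fin.sum_univ_four]

theorem form_transpose {A : Matrix (Fin 4) (Fin 4) F}
    (hA : A.transpose * Cfsg.suzukiForm F * A = Cfsg.suzukiForm F) :
    A * Cfsg.suzukiForm F * A.transpose = Cfsg.suzukiForm F := by
  have h1 : (Cfsg.suzukiForm F * A.transpose * Cfsg.suzukiForm F) * A = 1 := by
    rw [Matrix.mul_assoc, Matrix.mul_assoc, ← Matrix.mul_assoc A.transpose, hA,
      suzukiForm_mul_self]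
  have h2 : A * (Cfsg.suzukiForm F * A.transpose * Cfsg.suzukiForm F) = 1 :=
    _root_.mul_eq_one_comm.mp h1
  calc A * Cfsg.suzukiForm F * A.transpose
      = (A * (Cfsg.suzukiForm F * A.transpose * Cfsg.suzukiForm F)) * Cfsg.suzukiForm F := by
        simp only [Matrix.mul_assoc]
        rw [suzukiForm_mul_self, Matrix.mul_one]
    _ = Cfsg.suzukiForm F := by rw [h2, Matrix.one_mul]

/-- the Tits endomorphism as a ring homomorphism -/
def thHom (m : ℕ) (hF : Fintype.card F = 2 ^ (2 * m + 1)) : F →+* F where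
  toFun := th m
  map_one' := th_one
  map_mul' := th_mul
  map_zero' := th_zero
  map_add' := th_add hF

theorem thHom_apply (hF : Fintype.card F = 2 ^ (2 * m + 1)) (x : F) : thHom m hF x = th m x := rfl

/-- the defining conditions of the Lie-type model on a matrix -/
def IsSzMat (m : ℕ) (M : Matrix (Fin 4) (Fin 4) F) : Prop :=
  M.transpose * Cfsg.suzukiForm F * M = Cfsg.suzukiForm F ∧ Cfsg.Lie.star4 M = M.map (th m)

theorem suzukiForm_pair (p : Fin 4) :
    Cfsg.suzukiForm F (Cfsg.Lie.pairOf p).1 (Cfsg.Lie.pairOf p).2 = 0 := by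
  fin_cases p <;> simp [Cfsg.suzukiForm, Cfsg.Lie.pairOf]

theorem IsSzMat.mul (hF : Fintype.card F = 2 ^ (2 * m + 1)) {A B : Matrix (Fin 4) (Fin 4) F}
    (hA : IsSzMat m A) (hB : IsSzMat m B) : IsSzMat m (A * B) := by
  have h2 := two_eq_zero hF
  refine ⟨form_mul hA.1 hB.1, ?_⟩
  have hAr := form_transpose hA.1
  have e1 : (A * B).map (th m) = A.map (th m) * B.map (th m) := by
    have := Matrix.map_mul (L := A) (M := B) (f := thHom m hF)
    exact this
  rw [e1, ← hA.2, ← hB.2]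
  ext p r
  rw [star4_apply, Matrix.mul_apply, Fin.sum_univ_four]
  have hrow : rowRel A (Cfsg.Lie.pairOf p).1 (Cfsg.Lie.pairOf p).2 = 0 := by
    rw [← rowRel_eq, hAr, suzukiForm_pair]
  have hcol : colRel B (Cfsg.Lie.pairOf r).1 (Cfsg.Lie.pairOf r).2 = 0 := by
    rw [← colRel_eq, hB.1, suzukiForm_pair]
  rw [mn_mul_of h2 A B _ _ _ _ hrow hcol]
  rfl

end LieModel

end Cfsg.Agent.Lib.Helper2.SzL
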