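import Mathlib
import Cfsg.Prelude.Def_LieExceptional
import Cfsg.Prelude.Def_Sz
import Cfsg.Agent.Lib.Helper2.LSz1

set_option autoImplicit false

namespace Cfsg.Agent.Lib.Helper2.SzL

open Matrix

section LieModel2

variable {F : Type*} [Field F] [Fintype F] {m : ℕ}

theorem star4_mS (hF : Fintype.card F = 2 ^ (2 * m + 1)) (a b : F) :
    Cfsg.Lie.star4 (mS m a b) = (mS m a b).map (th m) := by
  have h2 := two_eq_zero hF
  ext p r
  fin_cases p <;> fin_cases r <;>
    simp [Cfsg.Lie.star4, Cfsg.Lie.pairOf, mS, th_zero, th_one, fS_eq, th_add hF, th_mul,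
      th_th hF, th_pow] <;>
    (rw [← sub_eq_zero]; ring_nf; try simp [h2])

theorem star4_mT (hF : Fintype.card F = 2 ^ (2 * m + 1)) {t : F} (ht : t ≠ 0) :
    Cfsg.Lie.star4 (mT m t) = (mT m t).map (th m) := by
  have hth : th m t ≠ 0 := fun h => ht (th_eq_zero.mp h)
  ext p r
  fin_cases p <;> fin_cases r <;>
    simp [Cfsg.Lie.star4, Cfsg.Lie.pairOf, mT, th_zero, th_one, th_mul, th_th hF, th_inv] <;>
    field_simp

theorem star4_mW (hF : Fintype.card F = 2 ^ (2 * m + 1)) :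
    Cfsg.Lie.star4 (mW F) = (mW F).map (th m) := by
  have h2 := two_eq_zero hF
  ext p r
  fin_cases p <;> fin_cases r <;>
    simp [Cfsg.Lie.star4, Cfsg.Lie.pairOf, mW, th_zero, th_one] <;>
    linear_combination -h2

theorem isSzMat_mS (hF : Fintype.card F = 2 ^ (2 * m + 1)) (a b : F) : IsSzMat m (mS m a b) :=
  ⟨form_mS hF a b, star4_mS hF a b⟩

theorem isSzMat_mT (hF : Fintype.card F = 2 ^ (2 * m + 1)) {t : F} (ht : t ≠ 0) :
    IsSzMat m (mT m t) :=
  ⟨form_mT ht, star4_mT hF ht⟩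

theorem isSzMat_mW (hF : Fintype.card F = 2 ^ (2 * m + 1)) : IsSzMat m (mW F) :=
  ⟨form_mW, star4_mW hF⟩

/-- every element of the ovoid stabiliser satisfies the Lie-model conditions -/
theorem isSzMat_of_mem (hm : 1 ≤ m) (hF : Fintype.card F = 2 ^ (2 * m + 1))
    (g : SpecialLinearGroup (Fin 4) F) (hg : g ∈ Cfsg.Sz F m) :
    IsSzMat m (g : Matrix (Fin 4) (Fin 4) F) := by
  rcases decomp hm hF g hg with ⟨a, b, t, rfl⟩ | ⟨a, b, a', b', t, rfl⟩
  · exact (isSzMat_mS hF a b).mul hF (isSzMat_mT hF t.ne_zero)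
  · exact (((isSzMat_mS hF a b).mul hF (isSzMat_mW hF))).mul hF
      ((isSzMat_mS hF a' b').mul hF (isSzMat_mT hF t.ne_zero))

end LieModel2

end Cfsg.Agent.Lib.Helper2.SzL
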