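import Mathlib
import Cfsg.Prelude.Def_LieExceptional
import Cfsg.Prelude.Def_Sz
import Cfsg.Agent.Lib.Helper2.LSz2

set_option autoImplicit false

namespace Cfsg.Agent.Lib.Helper2.SzL

open Matrix
open scoped LinearAlgebra.Projectivization

section LieModel3

variable {F : Type*} [Field F] [Fintype F] {m : ℕ}

/-- the first column of a matrix satisfying the Lie-model conditions spans an ovoid point -/
theorem col_ovoid (hF : Fintype.card F = 2 ^ (2 * m + 1)) (M : Matrix (Fin 4) (Fin 4) F)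
    (hM : IsSzMat m M) :
    (∃ c : F, M *ᵥ vInf F = c • vInf F) ∨ ∃ (x y c : F), M *ᵥ vInf F = c • vP m x y := by
  have h2 := two_eq_zero hF
  have hcol : M *ᵥ vInf F = fun i => M i 0 := by
    ext i
    simp [vInf, Matrix.mulVec, dotProduct, Fin.sum_univ_four]
  have hs0 : th m (M 0 0) = M 0 0 * M 1 1 - M 1 0 * M 0 1 := by
    have := congrFun (congrFun hM.2 0) 0
    simp [Cfsg.Lie.star4, Cfsg.Lie.pairOf] at this
    exact this.symm
  have hs1 : th m (M 1 0) = M 0 0 * M 2 1 - M 2 0 * M 0 1 := by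
    have := congrFun (congrFun hM.2 1) 0
    simp [Cfsg.Lie.star4, Cfsg.Lie.pairOf] at this
    exact this.symm
  have hs2 : th m (M 2 0) = M 1 0 * M 3 1 - M 3 0 * M 1 1 := by
    have := congrFun (congrFun hM.2 2) 0
    simp [Cfsg.Lie.star4, Cfsg.Lie.pairOf] at this
    exact this.symm
  have hs3 : th m (M 3 0) = M 2 0 * M 3 1 - M 3 0 * M 2 1 := by
    have := congrFun (congrFun hM.2 3) 0
    simp [Cfsg.Lie.star4, Cfsg.Lie.pairOf] at this
    exact this.symm
  have hform : M 0 0 * M 3 1 + M 1 0 * M 2 1 + M 2 0 * M 1 1 + M 3 0 * M 0 1 = 0 := by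
    have := congrFun (congrFun hM.1 0) 1
    rw [colRel_eq] at this
    unfold colRel at this
    simp [Cfsg.suzukiForm] at this
    exact this
  set s := M 1 0 * M 2 1 + M 2 0 * M 1 1 with hs
  -- incidence relations
  have E3 : M 1 0 * th m (M 3 0) + M 2 0 * th m (M 2 0) + M 3 0 * s = 0 := by
    rw [hs3, hs2, hs]
    linear_combination (M 1 0 * M 2 0 * M 3 1) * h2
  have E0 : M 0 0 * s + M 1 0 * th m (M 1 0) + M 2 0 * th m (M 0 0) = 0 := by
    rw [hs1, hs0, hs]
    linear_combination (M 0 0 * M 1 0 * M 2 1 + M 0 0 * M 2 0 * M 1 1 - M 1 0 * M 2 0 * M 0 1) * h2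
  have PL : th m (M 0 0) * th m (M 3 0) + th m (M 1 0) * th m (M 2 0) + s ^ 2 = 0 := by
    rw [hs0, hs1, hs2, hs3, hs]
    linear_combination (M 1 0 * M 2 1 + M 2 0 * M 1 1) * hform
      + (M 1 0 * M 0 1 * M 2 0 * M 3 1 - M 1 0 * M 0 1 * M 3 0 * M 2 1
        - M 0 0 * M 2 1 * M 1 0 * M 3 1 - M 2 0 * M 0 1 * M 3 0 * M 1 1
        - M 1 0 * M 2 1 * M 2 0 * M 1 1 - M 2 0 * M 1 1 * M 3 0 * M 0 1
        - M 1 0 * M 2 1 * M 3 0 * M 0 1 - M 2 0 * M 1 1 * M 2 0 * M 1 1
        - M 0 0 * M 1 1 * M 3 0 * M 2 1 + M 0 0 * M 1 0 * M 3 1 * M 2 1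
        + M 1 1 * M 1 0 * M 2 0 * M 2 1 + 2 * M 1 1 * M 0 1 * M 2 0 * M 3 0
        + M 1 1 ^ 2 * M 2 0 ^ 2 - 2 * M 1 0 * M 0 1 * M 2 0 * M 3 1
        + 2 * M 1 0 * M 0 1 * M 3 0 * M 2 1) * h2
  by_cases h3 : M 3 0 = 0
  · left
    rw [h3, th_zero] at E3
    have hv2 : M 2 0 = 0 := by
      have : M 2 0 * th m (M 2 0) = 0 := by linear_combination E3
      rcases mul_eq_zero.mp this with h | h
      · exact h
      · exact th_eq_zero.mp h
    rw [h3, hv2, th_zero] at PL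
    have hs0' : s = 0 := by
      have : s ^ 2 = 0 := by linear_combination PL
      exact pow_eq_zero_iff (by norm_num) |>.mp this
    rw [hs0', hv2] at E0
    have hv1 : M 1 0 = 0 := by
      have : M 1 0 * th m (M 1 0) = 0 := by linear_combination E0
      rcases mul_eq_zero.mp this with h | h
      · exact h
      · exact th_eq_zero.mp h
    refine ⟨M 0 0, ?_⟩
    rw [hcol]
    ext i
    fin_cases i <;> simp [vInf, h3, hv2, hv1]
  · right
    have hth3 : th m (M 3 0) ≠ 0 := fun h => h3 (th_eq_zero.mp h)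
    -- apply th to E3 and PL
    have E3' : th m (M 1 0) * (M 3 0) ^ 2 + th m (M 2 0) * (M 2 0) ^ 2 + th m (M 3 0) * th m s = 0 := by
      have := congrArg (th m) E3
      rw [th_add hF, th_add hF, th_mul, th_mul, th_mul, th_th hF, th_th hF, th_zero] at this
      exact this
    have PL' : (th m s) ^ 2 = (M 0 0 * M 3 0 + M 1 0 * M 2 0) ^ 2 := by
      have := congrArg (th m) PL
      rw [th_add hF, th_add hF, th_mul, th_mul, th_pow, th_th hF, th_th hF, th_th hF, th_th hF,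
        th_zero] at this
      linear_combination this - ((M 0 0) ^ 2 * (M 3 0) ^ 2 + (M 1 0) ^ 2 * (M 2 0) ^ 2
        + M 0 0 * M 3 0 * M 1 0 * M 2 0) * h2
    have hths : th m s = M 0 0 * M 3 0 + M 1 0 * M 2 0 := sq_inj hF PL'
    rw [hths] at E3'
    refine ⟨M 2 0 / M 3 0, M 1 0 / M 3 0, M 3 0, ?_⟩
    rw [hcol]
    ext i
    fin_cases i
    · simp only [vP, Pi.smul_apply, smul_eq_mul, Fin.zero_eta, Matrix.cons_val_zero]
      rw [fS_eq, th_div, th_div]
      field_simp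
      linear_combination E3' - (th m (M 3 0) * M 1 0 * M 2 0 + th m (M 2 0) * (M 2 0) ^ 2
        + th m (M 1 0) * (M 3 0) ^ 2) * h2
    · simp [vP]; field_simp
    · simp [vP]; field_simp
    · simp [vP]

end LieModel3

end Cfsg.Agent.Lib.Helper2.SzL
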