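import Mathlib
import Cfsg.Prelude.Def_LieExceptional
import Cfsg.Prelude.Def_Sz
import Cfsg.Agent.Lib.Helper2.LSz3

set_option autoImplicit false

namespace Cfsg.Agent.Lib.Helper2.SzL

open Matrix
open scoped LinearAlgebra.Projectivization

section LieModel4

variable {F : Type*} [Field F] [Fintype F] {m : ℕ}

/-- an `SL₄` element satisfying the Lie-model conditions stabilises the ovoid -/
theorem mem_Sz_of_isSzMat (hm : 1 ≤ m) (hF : Fintype.card F = 2 ^ (2 * m + 1))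
    (g : SpecialLinearGroup (Fin 4) F) (hg : IsSzMat m (g : Matrix (Fin 4) (Fin 4) F)) :
    g ∈ Cfsg.Sz F m := by
  apply mem_Sz_of
  intro p hp
  obtain ⟨h, hh, hhp⟩ := exists_to_inf hF p hp
  have e : g • p = (g * h⁻¹) • pInf F := by rw [mul_smul, ← hhp, inv_smul_smul]
  rw [e]
  have hM : IsSzMat m ((g * h⁻¹ : SpecialLinearGroup (Fin 4) F) : Matrix (Fin 4) (Fin 4) F) := by
    exact hg.mul hF (isSzMat_of_mem hm hF h⁻¹ (Subgroup.inv_mem _ hh))
  rcases col_ovoid hF _ hM with ⟨c, hc⟩ | ⟨x, y, c, hc⟩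
  · have : (g * h⁻¹) • pInf F = pInf F := smul_mk_eq _ _ _ vInf_ne vInf_ne c hc
    rw [this]; exact pInf_mem
  · have : (g * h⁻¹) • pInf F = pt m x y := smul_mk_eq _ _ _ vInf_ne (vP_ne x y) c hc
    rw [this]; exact pt_mem x y

theorem altForm4_mulVec (A : Matrix (Fin 4) (Fin 4) F) (u v : Fin 4 → F) :
    Cfsg.Lie.altForm4 (A *ᵥ u) (A *ᵥ v) =
      u ⬝ᵥ ((A.transpose * Cfsg.suzukiForm F * A) *ᵥ v) := by
  simp [Cfsg.Lie.altForm4, Matrix.mulVec, dotProduct, Fin.sum_univ_four, Matrix.mul_apply,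
    Cfsg.suzukiForm]
  ring

theorem altForm4_eq (u v : Fin 4 → F) :
    Cfsg.Lie.altForm4 u v = u ⬝ᵥ (Cfsg.suzukiForm F *ᵥ v) := by
  simp [Cfsg.Lie.altForm4, Matrix.mulVec, dotProduct, Fin.sum_univ_four, Cfsg.suzukiForm]

theorem sp4_iff (g : GL (Fin 4) F) :
    g ∈ Cfsg.Lie.Sp4 F ↔ (g : Matrix (Fin 4) (Fin 4) F).transpose * Cfsg.suzukiForm F *
      (g : Matrix (Fin 4) (Fin 4) F) = Cfsg.suzukiForm F := by
  constructor
  · intro h
    have h' : ∀ u v : Fin 4 → F, Cfsg.Lie.altForm4 ((g : Matrix (Fin 4) (Fin 4) F) *ᵥ u)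
        ((g : Matrix (Fin 4) (Fin 4) F) *ᵥ v) = Cfsg.Lie.altForm4 u v := h
    ext i j
    have := h' (Pi.single i 1) (Pi.single j 1)
    rw [altForm4_mulVec, altForm4_eq, Matrix.mulVec_single_one, Matrix.mulVec_single_one,
      single_one_dotProduct, single_one_dotProduct] at this
    exact this
  · intro h u v
    show Cfsg.Lie.altForm4 ((g : Matrix (Fin 4) (Fin 4) F) *ᵥ u)
        ((g : Matrix (Fin 4) (Fin 4) F) *ᵥ v) = Cfsg.Lie.altForm4 u v
    rw [altForm4_mulVec, h, altForm4_eq]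

theorem det_of_isSzMat (hF : Fintype.card F = 2 ^ (2 * m + 1)) {M : Matrix (Fin 4) (Fin 4) F}
    (hM : IsSzMat m M) : M.det = 1 := by
  have h1 := congrArg Matrix.det hM.1
  rw [Matrix.det_mul, Matrix.det_mul, Matrix.det_transpose] at h1
  have hJ : (Cfsg.suzukiForm F).det * (Cfsg.suzukiForm F).det = 1 := by
    rw [← Matrix.det_mul, suzukiForm_mul_self, Matrix.det_one]
  have hJ0 : (Cfsg.suzukiForm F).det ≠ 0 := by
    intro h
    rw [h, zero_mul] at hJ
    exact zero_ne_one hJ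
  apply sq_inj hF
  have : (M.det ^ 2 - 1 ^ 2) * (Cfsg.suzukiForm F).det = 0 := by linear_combination h1
  rcases mul_eq_zero.mp this with h | h
  · linear_combination h
  · exact absurd h hJ0

/-- the Lie-type model of the Suzuki group is the image of the ovoid stabiliser -/
theorem lieSz_eq (hm : 1 ≤ m) (hF : Fintype.card F = 2 ^ (2 * m + 1)) :
    Cfsg.Lie.Sz F (2 ^ (m + 1)) = (Cfsg.Sz F m).map SpecialLinearGroup.toGL := by
  apply le_antisymm
  · unfold Cfsg.Lie.Sz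
    rw [Subgroup.closure_le]
    rintro g ⟨hsp, hstar⟩
    have hM : IsSzMat m (g : Matrix (Fin 4) (Fin 4) F) := ⟨(sp4_iff g).mp hsp, hstar⟩
    have hdet := det_of_isSzMat hF hM
    refine ⟨⟨(g : Matrix (Fin 4) (Fin 4) F), hdet⟩, mem_Sz_of_isSzMat hm hF _ hM, ?_⟩
    apply Units.ext
    rfl
  · rintro _ ⟨h, hh, rfl⟩
    apply Subgroup.subset_closure
    have hM := isSzMat_of_mem hm hF h hh
    exact ⟨(sp4_iff _).mpr hM.1, hM.2⟩

/-- the isomorphism between the two models -/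
noncomputable def lieSzEquiv (hm : 1 ≤ m) (hF : Fintype.card F = 2 ^ (2 * m + 1)) :
    Cfsg.Lie.Sz F (2 ^ (m + 1)) ≃* Cfsg.Sz F m :=
  (MulEquiv.subgroupCongr (lieSz_eq hm hF)).trans
    ((Cfsg.Sz F m).equivMapOfInjective _ SpecialLinearGroup.toGL_injective).symm

theorem lieSzEquiv_symm_coe (hm : 1 ≤ m) (hF : Fintype.card F = 2 ^ (2 * m + 1))
    (g : Cfsg.Sz F m) :
    (((lieSzEquiv hm hF).symm g : Cfsg.Lie.Sz F (2 ^ (m + 1))) : GL (Fin 4) F) =
      SpecialLinearGroup.toGL (g : SpecialLinearGroup (Fin 4) F) := rfl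

theorem lieSzEquiv_coe (hm : 1 ≤ m) (hF : Fintype.card F = 2 ^ (2 * m + 1))
    (g : Cfsg.Lie.Sz F (2 ^ (m + 1))) :
    SpecialLinearGroup.toGL ((lieSzEquiv hm hF g : Cfsg.Sz F m) : SpecialLinearGroup (Fin 4) F) =
      (g : GL (Fin 4) F) := by
  have := lieSzEquiv_symm_coe hm hF (lieSzEquiv hm hF g)
  rw [MulEquiv.symm_apply_apply] at this
  exact this.symm

end LieModel4

end Cfsg.Agent.Lib.Helper2.SzL
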