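import Mathlib
import Cfsg.Prelude.Def_LieExceptional
import Cfsg.Prelude.Def_Sz
import Cfsg.Agent.Lib.Helper2.LSz4

set_option autoImplicit false

namespace Cfsg.Agent.Lib.Helper2.SzL

open Matrix
open scoped LinearAlgebra.Projectivization

/-- coset action of a point stabiliser, from the action on points -/
theorem abstract_coset_action {G : Type*} [Group G] {Ω : Type*} [MulAction G Ω]
    (ω : Ω) (N : Subgroup G) (hN : N = MulAction.stabilizer G ω)
    (h2t : ∀ a b c d : Ω, a ≠ b → c ≠ d → ∃ g : G, g • a = c ∧ g • b = d)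
    (Q : Subgroup G)
    (hreg : ∀ x y : Ω, x ≠ ω → y ≠ ω → ∃! s : Q, (s : G) • x = y) :
    MulAction.IsMultiplyPretransitive G (G ⧸ N) 2 ∧
    ∀ x y : G ⧸ N, x ≠ QuotientGroup.mk 1 → y ≠ QuotientGroup.mk 1 →
      ∃! s : Q, (s : G) • x = y := by
  subst hN
  have hf_inj := MulAction.injective_ofQuotientStabilizer G ω
  have hf_smul : ∀ (g : G) (x : G ⧸ MulAction.stabilizer G ω),
      MulAction.ofQuotientStabilizer G ω (g • x) = g • MulAction.ofQuotientStabilizer G ω x :=
    MulAction.ofQuotientStabilizer_smul G ω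
  have hf_one : MulAction.ofQuotientStabilizer G ω (QuotientGroup.mk 1) = ω := by
    rw [MulAction.ofQuotientStabilizer_mk, one_smul]
  constructor
  · rw [MulAction.is_two_pretransitive_iff]
    intro a b c d hab hcd
    obtain ⟨g, h1, h2⟩ := h2t _ _ _ _ (hf_inj.ne hab) (hf_inj.ne hcd)
    exact ⟨g, hf_inj (by rw [hf_smul, h1]), hf_inj (by rw [hf_smul, h2])⟩
  · intro x y hx hy
    have hx' : MulAction.ofQuotientStabilizer G ω x ≠ ω :=
      fun h => hx (hf_inj (h.trans hf_one.symm))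
    have hy' : MulAction.ofQuotientStabilizer G ω y ≠ ω :=
      fun h => hy (hf_inj (h.trans hf_one.symm))
    obtain ⟨s, hs, huniq⟩ := hreg _ _ hx' hy'
    refine ⟨s, hf_inj (by rw [hf_smul]; exact hs), ?_⟩
    intro s' hs'
    apply huniq
    show (s' : G) • MulAction.ofQuotientStabilizer G ω x = MulAction.ofQuotientStabilizer G ω y
    rw [← hf_smul, hs']

section LieModel5

variable {F : Type*} [Field F] [Fintype F] {m : ℕ}

/-- the point `∞` of the ovoid, as an element of the subtype -/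
def oInf (F : Type*) [Field F] [Fintype F] (m : ℕ) : Cfsg.suzukiOvoid F m := ⟨pInf F, pInf_mem⟩

theorem stabilizer_oInf : MulAction.stabilizer (Cfsg.Sz F m) (oInf F m) = BInf F m := by
  ext g
  rw [MulAction.mem_stabilizer_iff, mem_BInf]
  constructor
  · intro h; exact congrArg Subtype.val h
  · intro h; exact Subtype.ext h

theorem card_BInf (hm : 1 ≤ m) (hF : Fintype.card F = 2 ^ (2 * m + 1)) :
    Nat.card (BInf F m) = (2 ^ (2 * m + 1)) ^ 2 * (2 ^ (2 * m + 1) - 1) := by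
  have e : BInf F m = MulAction.stabilizer (Cfsg.Sz F m) (Cfsg.suzukiPointInfinity F) := by
    ext g
    rw [mem_BInf, MulAction.mem_stabilizer_iff, ← pInf_eq]
    rfl
  rw [e, stabInf_card hm hF]

theorem two_trans_ovoid (hm : 1 ≤ m) (hF : Fintype.card F = 2 ^ (2 * m + 1))
    (a b c d : Cfsg.suzukiOvoid F m) (hab : a ≠ b) (hcd : c ≠ d) :
    ∃ g : Cfsg.Sz F m, g • a = c ∧ g • b = d :=
  MulAction.is_two_pretransitive_iff.mp (zassenhaus hm hF).2.1 hab hcd

theorem regular_QG (hF : Fintype.card F = 2 ^ (2 * m + 1))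
    (x y : Cfsg.suzukiOvoid F m) (hx : x ≠ oInf F m) (hy : y ≠ oInf F m) :
    ∃! s : QG (m := m) hF, (s : Cfsg.Sz F m) • x = y := by
  obtain ⟨x, hxm⟩ := x
  obtain ⟨y, hym⟩ := y
  rcases (mem_ovoid_iff x).mp hxm with rfl | ⟨a, b, rfl⟩
  · exact absurd rfl hx
  rcases (mem_ovoid_iff y).mp hym with rfl | ⟨c, d, rfl⟩
  · exact absurd rfl hy
  obtain ⟨s, hs, hs2⟩ := exists_translate hF a b c d
  refine ⟨⟨s, hs⟩, Subtype.ext hs2, ?_⟩
  rintro ⟨s', a', b', hs'⟩ h'
  apply Subtype.ext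
  apply Subtype.ext
  obtain ⟨a0, b0, hs0⟩ := hs
  have h1 : (s' : SpecialLinearGroup (Fin 4) F) • pt m a b = pt m c d := congrArg Subtype.val h'
  rw [hs', sS_smul_pt hF] at h1
  rw [hs0, sS_smul_pt hF] at hs2
  obtain ⟨e1, e2⟩ := pt_inj (h1.trans hs2.symm)
  have ea : a' = a0 := add_left_cancel e1
  subst ea
  have eb : b' = b0 := add_left_cancel e2
  subst eb
  rw [hs', hs0]

end LieModel5

end Cfsg.Agent.Lib.Helper2.SzL
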