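import Mathlib
import Cfsg.Prelude.Def_LieExceptional
import Cfsg.Prelude.Def_Sz
import Cfsg.Agent.Lib.Helper2.LSz5

set_option autoImplicit false

namespace Cfsg.Agent.Lib.Helper2.SzL

open Matrix
open scoped LinearAlgebra.Projectivization

section LieModel6

variable {F : Type*} [Field F] [Fintype F] {m : ℕ}

theorem lieSz_structure (hm : 1 ≤ m) (hF : Fintype.card F = 2 ^ (2 * m + 1)) :
    Nat.card ↥(Cfsg.Lie.Sz F (2 ^ (m + 1))) = (2 ^ (2 * m + 1)) ^ 2 * (2 ^ (2 * m + 1) - 1) * ((2 ^ (2 * m + 1)) ^ 2 + 1) ∧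
    ∃ S : Sylow 2 ↥(Cfsg.Lie.Sz F (2 ^ (m + 1))),
      Nat.card (Subgroup.normalizer ((S : Subgroup ↥(Cfsg.Lie.Sz F (2 ^ (m + 1)))) : Set ↥(Cfsg.Lie.Sz F (2 ^ (m + 1))))) = (2 ^ (2 * m + 1)) ^ 2 * (2 ^ (2 * m + 1) - 1) ∧
      (Subgroup.normalizer ((S : Subgroup ↥(Cfsg.Lie.Sz F (2 ^ (m + 1)))) : Set ↥(Cfsg.Lie.Sz F (2 ^ (m + 1))))).index = (2 ^ (2 * m + 1)) ^ 2 + 1 ∧
      MulAction.IsMultiplyPretransitive ↥(Cfsg.Lie.Sz F (2 ^ (m + 1))) (↥(Cfsg.Lie.Sz F (2 ^ (m + 1))) ⧸ Subgroup.normalizer ((S : Subgroup ↥(Cfsg.Lie.Sz F (2 ^ (m + 1)))) : Set ↥(Cfsg.Lie.Sz F (2 ^ (m + 1))))) 2 ∧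
      ∀ x y : ↥(Cfsg.Lie.Sz F (2 ^ (m + 1))) ⧸ Subgroup.normalizer ((S : Subgroup ↥(Cfsg.Lie.Sz F (2 ^ (m + 1)))) : Set ↥(Cfsg.Lie.Sz F (2 ^ (m + 1)))),
        x ≠ (QuotientGroup.mk 1) → y ≠ (QuotientGroup.mk 1) → ∃! s : ↥(S : Subgroup ↥(Cfsg.Lie.Sz F (2 ^ (m + 1)))), (s : ↥(Cfsg.Lie.Sz F (2 ^ (m + 1)))) • x = y := by
  haveI : Fact (Nat.Prime 2) := ⟨Nat.prime_two⟩
  set e := lieSzEquiv hm hF with he
  have hcard : Nat.card ↥(Cfsg.Lie.Sz F (2 ^ (m + 1))) = Nat.card (Cfsg.Sz F m) :=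
    Nat.card_congr e.toEquiv
  refine ⟨by rw [hcard, card_Sz hm hF]; ring, ?_⟩
  letI act : MulAction ↥(Cfsg.Lie.Sz F (2 ^ (m + 1))) (Cfsg.suzukiOvoid F m) :=
    MulAction.compHom _ e.toMonoidHom
  have hsmul : ∀ (g : ↥(Cfsg.Lie.Sz F (2 ^ (m + 1)))) (x : Cfsg.suzukiOvoid F m),
      g • x = e g • x := fun _ _ => rfl
  have hQcard : Nat.card ((QG (m := m) hF).map e.symm.toMonoidHom) =
      2 ^ (Nat.card ↥(Cfsg.Lie.Sz F (2 ^ (m + 1)))).factorization 2 := by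
    rw [hcard, card_Sz_factorization hm hF, Subgroup.card_map_of_injective e.symm.injective,
      card_QG, ← pow_mul, mul_comm]
  have hstab : MulAction.stabilizer ↥(Cfsg.Lie.Sz F (2 ^ (m + 1))) (oInf F m) =
      (BInf F m).map e.symm.toMonoidHom := by
    ext g
    rw [MulAction.mem_stabilizer_iff, hsmul, Subgroup.mem_map_equiv, ← stabilizer_oInf,
      MulAction.mem_stabilizer_iff]
    rfl
  have hnorm : Subgroup.normalizer
      (((Sylow.ofCard ((QG (m := m) hF).map e.symm.toMonoidHom) hQcard :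
        Sylow 2 ↥(Cfsg.Lie.Sz F (2 ^ (m + 1)))) : Subgroup ↥(Cfsg.Lie.Sz F (2 ^ (m + 1)))) :
          Set ↥(Cfsg.Lie.Sz F (2 ^ (m + 1)))) =
      MulAction.stabilizer ↥(Cfsg.Lie.Sz F (2 ^ (m + 1))) (oInf F m) := by
    rw [hstab, Sylow.coe_ofCard, ← Subgroup.map_equiv_normalizer_eq, normalizer_QG hm hF]
  have h2t : ∀ a b c d : Cfsg.suzukiOvoid F m, a ≠ b → c ≠ d →
      ∃ g : ↥(Cfsg.Lie.Sz F (2 ^ (m + 1))), g • a = c ∧ g • b = d := by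
    intro a b c d hab hcd
    obtain ⟨h, h1, h2⟩ := two_trans_ovoid hm hF a b c d hab hcd
    refine ⟨e.symm h, ?_, ?_⟩
    · rw [hsmul, MulEquiv.apply_symm_apply]; exact h1
    · rw [hsmul, MulEquiv.apply_symm_apply]; exact h2
  have hreg : ∀ x y : Cfsg.suzukiOvoid F m, x ≠ oInf F m → y ≠ oInf F m →
      ∃! s : ((QG (m := m) hF).map e.symm.toMonoidHom : Subgroup ↥(Cfsg.Lie.Sz F (2 ^ (m + 1)))),
        (s : ↥(Cfsg.Lie.Sz F (2 ^ (m + 1)))) • x = y := by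
    intro x y hx hy
    obtain ⟨s, hs, huniq⟩ := regular_QG hF x y hx hy
    refine ⟨⟨e.symm s, Subgroup.mem_map_of_mem _ s.2⟩, ?_, ?_⟩
    · show (e.symm (s : Cfsg.Sz F m)) • x = y
      rw [hsmul, MulEquiv.apply_symm_apply]; exact hs
    · rintro ⟨s', hs'⟩ h'
      apply Subtype.ext
      show s' = e.symm (s : Cfsg.Sz F m)
      obtain ⟨t, ht, rfl⟩ := Subgroup.mem_map.mp hs'
      have h'' : (e (e.symm t)) • x = y := h'
      rw [MulEquiv.apply_symm_apply] at h''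
      have := huniq ⟨t, ht⟩ h''
      rw [← this]
      rfl
  refine ⟨Sylow.ofCard _ hQcard, ?_, ?_, ?_⟩
  · rw [hnorm, hstab, Subgroup.card_map_of_injective e.symm.injective, card_BInf hm hF]
  · have h1 := Subgroup.card_mul_index (MulAction.stabilizer ↥(Cfsg.Lie.Sz F (2 ^ (m + 1))) (oInf F m))
    rw [hnorm]
    rw [hstab, Subgroup.card_map_of_injective e.symm.injective, card_BInf hm hF, hcard,
      card_Sz hm hF, ← hstab] at h1
    have hq : 1 < 2 ^ (2 * m + 1) := Nat.one_lt_two_pow (by omega)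
    have hpos : 0 < (2 ^ (2 * m + 1)) ^ 2 * (2 ^ (2 * m + 1) - 1) :=
      Nat.mul_pos (by positivity) (by omega)
    apply Nat.eq_of_mul_eq_mul_left hpos
    rw [h1]; ring
  · exact abstract_coset_action (oInf F m) _ hnorm h2t _ hreg

end LieModel6

end Cfsg.Agent.Lib.Helper2.SzL
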