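import Mathlib
import Cfsg.Prelude.Def_LieExceptional
import Cfsg.Agent.Lib.Helper2.Sz16

set_option autoImplicit false

namespace Cfsg.Agent.Lib.Helper2.Irr4

open Matrix

variable {F : Type*} [Field F] [Fintype F]

/-- an element of prime order acting irreducibly has no nonzero fixed vector -/
theorem no_fixed (M : Matrix (Fin 4) (Fin 4) F) (p : ℕ) [hp : Fact p.Prime]
    (hM : M ^ p = 1) (hM1 : M ≠ 1) (hq : ¬ p ∣ Fintype.card F) (h1 : ¬ p ∣ Fintype.card F - 1)
    (h2 : ¬ p ∣ Fintype.card F ^ 2 - 1) (h3 : ¬ p ∣ Fintype.card F ^ 3 - 1)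
    (v : Fin 4 → F) (hv : M *ᵥ v = v) : v = 0 := by
  have hinv : ∀ w ∈ LinearMap.ker (Matrix.mulVecLin (M - 1)),
      M *ᵥ w ∈ LinearMap.ker (Matrix.mulVecLin (M - 1)) := by
    intro w hw
    rw [LinearMap.mem_ker, Matrix.mulVecLin_apply, sub_one_mulVec_eq_zero] at hw ⊢
    rw [hw, hw]
  have hvm : v ∈ LinearMap.ker (Matrix.mulVecLin (M - 1)) := by
    rw [LinearMap.mem_ker, Matrix.mulVecLin_apply, sub_one_mulVec_eq_zero]
    exact hv
  rcases irreducible M p hM hM1 hq h1 h2 h3 _ hinv with h | h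
  · rw [h] at hvm
    exact (Submodule.mem_bot F).mp hvm
  · exfalso
    apply hM1
    apply Matrix.mulVec_injective
    funext w
    have hw : w ∈ LinearMap.ker (Matrix.mulVecLin (M - 1)) := by rw [h]; trivial
    rw [LinearMap.mem_ker, Matrix.mulVecLin_apply, sub_one_mulVec_eq_zero] at hw
    rw [hw, Matrix.one_mulVec]

end Cfsg.Agent.Lib.Helper2.Irr4

namespace Cfsg.Agent.Lib.Helper2.SzL

open Matrix
open scoped LinearAlgebra.Projectivization Pointwise

section NoFix

variable {F : Type*} [Field F] [Fintype F] {m : ℕ}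

theorem mT_no_fixed (hF : Fintype.card F = 2 ^ (2 * m + 1)) {t : Fˣ} (ht : t ≠ 1)
    (u : Fin 4 → F) (hu : mT m (t : F) *ᵥ u = u) : u = 0 := by
  have ht1 : (t : F) ≠ 1 := fun h => ht (Units.ext h)
  have ht0 : (t : F) ≠ 0 := t.ne_zero
  have hth0 : th m (t : F) ≠ 0 := fun h => ht0 (th_eq_zero.mp h)
  have hu1 : th m (t : F) * (t : F) ≠ 1 := by
    intro h
    apply ht1
    apply thmul_inj hF
    rw [h, th_one, one_mul]
  have e0 := congrFun hu 0
  have e1 := congrFun hu 1
  have e2 := congrFun hu 2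
  have e3 := congrFun hu 3
  simp [mT, Matrix.mulVec, dotProduct, Fin.sum_univ_four] at e0 e1 e2 e3
  have key : ∀ (a x : F), a ≠ 1 → a * x = x → x = 0 := by
    intro a x ha h
    have : (a - 1) * x = 0 := by linear_combination h
    rcases mul_eq_zero.mp this with h' | h'
    · exact absurd (sub_eq_zero.mp h') ha
    · exact h'
  have hu1' : ((t : F))⁻¹ * (th m (t : F))⁻¹ ≠ 1 := by
    intro h
    apply hu1
    field_simp at h
    linear_combination -h
  have ht1' : ((t : F))⁻¹ ≠ 1 := by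
    intro h
    apply ht1
    field_simp at h
    exact h.symm
  funext i
  fin_cases i
  · exact key _ _ hu1 e0
  · exact key _ _ ht1 e1
  · exact key _ _ ht1' e2
  · exact key _ _ hu1' e3

/-- elements of odd prime order have no nonzero fixed vectors on the natural module -/
theorem odd_prime_no_fixed (hm : 1 ≤ m) (hF : Fintype.card F = 2 ^ (2 * m + 1))
    (g : Cfsg.Sz F m) (r : ℕ) [Fact r.Prime] (hr2 : r ≠ 2) (hg : orderOf g = r)
    (v : Fin 4 → F) (hv : matHom F m g *ᵥ v = v) : v = 0 := by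
  have hpr : r.Prime := Fact.out
  have hq1 : 1 ≤ 2 ^ (2 * m + 1) := Nat.one_le_two_pow
  have hq2 : 2 ∣ 2 ^ (2 * m + 1) := dvd_pow_self 2 (by omega)
  have hpG : r ∣ Nat.card (Cfsg.Sz F m) := by rw [← hg]; exact orderOf_dvd_natCard g
  rw [card_Sz hm hF] at hpG
  have hg1 : g ≠ 1 := by
    rintro rfl
    rw [orderOf_one] at hg
    exact hpr.one_lt.ne hg
  by_cases h1 : r ∣ 2 ^ (2 * m + 1) - 1
  · obtain ⟨x, t, ht, hxt⟩ := exists_conj_torus hm hF r hr2 h1 g hg
    have hmat : matHom F m x⁻¹ * matHom F m g * matHom F m x = mT m (t : F) := by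
      rw [← map_mul, ← map_mul, hxt]
      rfl
    have hinv : matHom F m x * matHom F m x⁻¹ = 1 := by
      rw [← map_mul, mul_inv_cancel, map_one]
    have hu : mT m (t : F) *ᵥ (matHom F m x⁻¹ *ᵥ v) = matHom F m x⁻¹ *ᵥ v := by
      rw [← hmat, Matrix.mulVec_mulVec, Matrix.mul_assoc, Matrix.mul_assoc, hinv, Matrix.mul_one,
        ← Matrix.mulVec_mulVec, hv]
    have h0 := mT_no_fixed hF ht _ hu
    have : v = matHom F m x *ᵥ (matHom F m x⁻¹ *ᵥ v) := by
      rw [Matrix.mulVec_mulVec, hinv, Matrix.one_mulVec]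
    rw [this, h0, Matrix.mulVec_zero]
  · have h2 : r ∣ (2 ^ (2 * m + 1)) ^ 2 + 1 := by
      rcases (Nat.Prime.dvd_mul hpr).mp hpG with h | h
      · rcases (Nat.Prime.dvd_mul hpr).mp h with h | h
        · have h3 := hpr.dvd_of_dvd_pow (hpr.dvd_of_dvd_pow h)
          exact absurd ((Nat.prime_dvd_prime_iff_eq hpr Nat.prime_two).mp h3) hr2
        · exact h
      · exact absurd h h1
    obtain ⟨_, hq0, hq1', hq2', hq3'⟩ := arith_q2 _ r hpr hq2 hq1 h2
    rw [← hF] at hq0 hq1' hq2' hq3'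
    have hMp : matHom F m g ^ r = 1 := by
      have hzp : g ^ r = 1 := by
        have := pow_orderOf_eq_one g
        rwa [hg] at this
      rw [← map_pow, hzp, map_one]
    have hM1 : matHom F m g ≠ 1 := by
      intro h
      exact hg1 (matHom_injective (h.trans (map_one _).symm))
    exact Irr4.no_fixed (matHom F m g) r hMp hM1 hq0 hq1' hq2' hq3' v hv

end NoFix

end Cfsg.Agent.Lib.Helper2.SzL
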