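import Mathlib
import Cfsg.Prelude.Def_LieExceptional
import Cfsg.Prelude.Def_Sz
import Cfsg.Agent.Lib.Helper2.LSz6
import Cfsg.Agent.Lib.Helper2.Sz17
import Cfsg.Agent.Lib.Helper2.PGraph

set_option autoImplicit false

namespace Cfsg.Agent.Lib.Helper2.SzL

open Matrix
open scoped LinearAlgebra.Projectivization

section LieModel7

variable {F : Type*} [Field F] [Fintype F] {m : ℕ}

/-- the module `V ^ k` -/
abbrev VPow (F : Type*) [Field F] (k : ℕ) : Type _ := Fin k → Fin 4 → F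

/-- the natural action of the Lie-type Suzuki group on `V ^ k` -/
noncomputable def lieAct (F : Type*) [Field F] [Fintype F] (m k : ℕ) :
    DistribMulAction ↥(Cfsg.Lie.Sz F (2 ^ (m + 1))) (VPow F k) where
  smul g w := fun i => ((g : GL (Fin 4) F) : Matrix (Fin 4) (Fin 4) F) *ᵥ w i
  one_smul w := by
    funext i
    show ((1 : GL (Fin 4) F) : Matrix (Fin 4) (Fin 4) F) *ᵥ w i = w i
    rw [Units.val_one, Matrix.one_mulVec]
  mul_smul g h w := by
    funext i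
    show (((g : GL (Fin 4) F) * (h : GL (Fin 4) F) : GL (Fin 4) F) : Matrix (Fin 4) (Fin 4) F) *ᵥ w i
      = ((g : GL (Fin 4) F) : Matrix (Fin 4) (Fin 4) F) *ᵥ
        (((h : GL (Fin 4) F) : Matrix (Fin 4) (Fin 4) F) *ᵥ w i)
    rw [Units.val_mul, Matrix.mulVec_mulVec]
  smul_zero g := by
    funext i
    show ((g : GL (Fin 4) F) : Matrix (Fin 4) (Fin 4) F) *ᵥ (0 : Fin 4 → F) = 0
    rw [Matrix.mulVec_zero]
  smul_add g w w' := by
    funext i
    show ((g : GL (Fin 4) F) : Matrix (Fin 4) (Fin 4) F) *ᵥ (w i + w' i) = _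
    rw [Matrix.mulVec_add]
    rfl

theorem lieSz_matrix (hm : 1 ≤ m) (hF : Fintype.card F = 2 ^ (2 * m + 1))
    (g : ↥(Cfsg.Lie.Sz F (2 ^ (m + 1)))) :
    matHom F m (lieSzEquiv hm hF g) = ((g : GL (Fin 4) F) : Matrix (Fin 4) (Fin 4) F) := by
  have := lieSzEquiv_coe hm hF g
  exact congrArg (fun x : GL (Fin 4) F => (x : Matrix (Fin 4) (Fin 4) F)) this

theorem lieSz_prime_graph (hm : 1 ≤ m) (hF : Fintype.card F = 2 ^ (2 * m + 1)) (N : ℕ) :
    ∃ (H : Type) (_ : Group H) (_ : Fintype H), N < Fintype.card H ∧ ((∀ r : ℕ, r.Prime → (r ∣ Nat.card ↥(Cfsg.Lie.Sz F (2 ^ (m + 1))) ↔ r ∣ Nat.card H)) ∧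
      (∀ r s : ℕ, r.Prime → s.Prime → r ≠ s → ((∃ x : ↥(Cfsg.Lie.Sz F (2 ^ (m + 1))), orderOf x = r * s) ↔ (∃ y : H, orderOf y = r * s)))) := by
  letI act : DistribMulAction ↥(Cfsg.Lie.Sz F (2 ^ (m + 1))) (VPow F (N + 1)) := lieAct F m (N + 1)
  have hsmul : ∀ (g : ↥(Cfsg.Lie.Sz F (2 ^ (m + 1)))) (w : VPow F (N + 1)) (i : Fin (N + 1)),
      (g • w) i = ((g : GL (Fin 4) F) : Matrix (Fin 4) (Fin 4) F) *ᵥ w i := fun _ _ _ => rfl
  set e := lieSzEquiv hm hF with he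
  have hW2 : ∀ w : VPow F (N + 1), w + w = 0 := by
    intro w
    funext i j
    exact add_self hF (w i j)
  have hfix : ∀ (g : ↥(Cfsg.Lie.Sz F (2 ^ (m + 1)))) (r : ℕ), r.Prime → r ≠ 2 → orderOf g = r →
      ∀ w : VPow F (N + 1), g • w = w → w = 0 := by
    intro g r hr hr2 hg w hw
    haveI : Fact r.Prime := ⟨hr⟩
    funext i
    have hwi : ((g : GL (Fin 4) F) : Matrix (Fin 4) (Fin 4) F) *ᵥ w i = w i := by
      rw [← hsmul, hw]
    rw [← lieSz_matrix hm hF g] at hwi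
    exact odd_prime_no_fixed hm hF (e g) r hr2 (by rw [MulEquiv.orderOf_eq, hg]) (w i) hwi
  have hcardL := (lieSz_structure (F := F) hm hF).1
  have h2 : 2 ∣ Nat.card ↥(Cfsg.Lie.Sz F (2 ^ (m + 1))) := by
    rw [hcardL]
    apply Dvd.dvd.mul_right
    apply Dvd.dvd.mul_right
    exact dvd_pow (dvd_pow_self 2 (by omega)) (by norm_num)
  have hcardW : Nat.card (VPow F (N + 1)) = 2 ^ ((2 * m + 1) * 4 * (N + 1)) := by
    show Nat.card (Fin (N + 1) → Fin 4 → F) = _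
    rw [Nat.card_fun, Nat.card_fun, Nat.card_eq_fintype_card, hF, Nat.card_fin, Nat.card_fin,
      ← pow_mul, ← pow_mul, mul_assoc]
  obtain ⟨hprimes, horders⟩ := PGraph.prime_graph_extension (L := ↥(Cfsg.Lie.Sz F (2 ^ (m + 1))))
    (W := VPow F (N + 1)) hW2 hfix h2 ⟨_, hcardW⟩
  set H0 := Multiplicative (VPow F (N + 1)) ⋊[PGraph.actHom ↥(Cfsg.Lie.Sz F (2 ^ (m + 1)))
    (VPow F (N + 1))] ↥(Cfsg.Lie.Sz F (2 ^ (m + 1))) with hH0
  haveI : Finite H0 := Finite.of_equiv _ SemidirectProduct.equivProd.symm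
  let f : Shrink.{0} H0 ≃* H0 := Shrink.mulEquiv
  haveI : Finite (Shrink.{0} H0) := Finite.of_equiv _ f.symm.toEquiv
  have hcardH : Nat.card (Shrink.{0} H0) = Nat.card H0 := Nat.card_congr f.toEquiv
  refine ⟨Shrink.{0} H0, inferInstance, Fintype.ofFinite _, ?_, ?_, ?_⟩
  · rw [Fintype.card_eq_nat_card, hcardH, hH0, SemidirectProduct.card]
    have h3 : Nat.card (Multiplicative (VPow F (N + 1))) = Nat.card (VPow F (N + 1)) := rfl
    rw [h3, hcardW]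
    have hLpos : 0 < Nat.card ↥(Cfsg.Lie.Sz F (2 ^ (m + 1))) := Nat.card_pos
    have h4 : N < 2 ^ N := Nat.lt_two_pow_self
    have h5 : 2 ^ N ≤ 2 ^ ((2 * m + 1) * 4 * (N + 1)) :=
      Nat.pow_le_pow_right (by norm_num) (by nlinarith)
    calc N < 2 ^ ((2 * m + 1) * 4 * (N + 1)) := lt_of_lt_of_le h4 h5
      _ ≤ 2 ^ ((2 * m + 1) * 4 * (N + 1)) * Nat.card ↥(Cfsg.Lie.Sz F (2 ^ (m + 1))) :=
        Nat.le_mul_of_pos_right _ hLpos
  · intro r hr
    rw [hcardH]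
    exact hprimes r hr
  · intro r s hr hs hrs
    rw [horders r s hr hs hrs]
    constructor
    · rintro ⟨y, hy⟩
      exact ⟨f.symm y, by rw [MulEquiv.orderOf_eq, hy]⟩
    · rintro ⟨y, hy⟩
      exact ⟨f y, by rw [MulEquiv.orderOf_eq, hy]⟩

end LieModel7

end Cfsg.Agent.Lib.Helper2.SzL
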