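import Mathlib

set_option autoImplicit false

namespace Cfsg.Agent.Lib.Helper2.Mats

/-- alternating list `x, y, x, ...` of length `k` -/
def alt {α : Type*} (x y : α) : ℕ → List α
  | 0 => []
  | k + 1 => x :: alt y x k

theorem alt_zero {α : Type*} (x y : α) : alt x y 0 = [] := rfl

theorem alt_succ {α : Type*} (x y : α) (k : ℕ) : alt x y (k + 1) = x :: alt y x k := rfl

theorem alt_length {α : Type*} (x y : α) (k : ℕ) : (alt x y k).length = k := by
  induction k generalizing x y with
  | zero => rfl
  | succ k ih => rw [alt_succ, List.length_cons, ih]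

theorem alt_map {α β : Type*} (h : α → β) (x y : α) (k : ℕ) :
    (alt x y k).map h = alt (h x) (h y) k := by
  induction k generalizing x y with
  | zero => rfl
  | succ k ih => rw [alt_succ, alt_succ, List.map_cons, ih]

theorem alt_dropLast {α : Type*} (x y : α) (k : ℕ) :
    (alt x y (k + 1)).dropLast = alt x y k := by
  induction k generalizing x y with
  | zero => rfl
  | succ k ih =>
    rw [alt_succ, alt_succ y x k, List.dropLast_cons₂, ← alt_succ y x k, ih, ← alt_succ]

theorem alt_prod_two {X : Type*} [Group X] (a b : X) (k : ℕ) :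
    (alt a b (k + 2)).prod = a * b * (alt a b k).prod := by
  rw [alt_succ, alt_succ, List.prod_cons, List.prod_cons, mul_assoc]

theorem alt_prod_even {X : Type*} [Group X] (a b : X) (j : ℕ) :
    (alt a b (2 * j)).prod = (a * b) ^ j := by
  induction j with
  | zero => simp [alt_zero]
  | succ j ih =>
    have : 2 * (j + 1) = 2 * j + 2 := by ring
    rw [this, alt_prod_two, ih, pow_succ']

theorem alt_prod_odd {X : Type*} [Group X] (a b : X) (j : ℕ) :
    (alt a b (2 * j + 1)).prod = (a * b) ^ j * a := by
  induction j with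
  | zero => simp [alt_succ, alt_zero]
  | succ j ih =>
    have : 2 * (j + 1) + 1 = (2 * j + 1) + 2 := by ring
    rw [this, alt_prod_two, ih, pow_succ']
    simp only [mul_assoc]

theorem alt_prod_eq_iff {X : Type*} [Group X] (a b : X) (ha : a * a = 1) (hb : b * b = 1)
    (q : ℕ) : (alt a b q).prod = (alt b a q).prod ↔ (a * b) ^ q = 1 := by
  have hainv : a⁻¹ = a := inv_eq_of_mul_eq_one_left ha
  have hbinv : b⁻¹ = b := inv_eq_of_mul_eq_one_left hb
  have hinv : b * a = (a * b)⁻¹ := by rw [mul_inv_rev, hainv, hbinv]
  rcases Nat.even_or_odd' q with ⟨j, rfl | rfl⟩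
  · rw [alt_prod_even, alt_prod_even, hinv, inv_pow, eq_inv_iff_mul_eq_one, pow_mul', pow_two]
  · rw [alt_prod_odd, alt_prod_odd, hinv, inv_pow, pow_succ, pow_mul', pow_two]
    constructor
    · intro h
      have h2 : (a * b) ^ j * ((a * b) ^ j * a) = b := by rw [h]; group
      calc (a * b) ^ j * (a * b) ^ j * (a * b) = ((a * b) ^ j * ((a * b) ^ j * a)) * b := by
            group
        _ = 1 := by rw [h2, hb]
    · intro h
      have h2 : (a * b) ^ j * ((a * b) ^ j * a) = b := by
        calc (a * b) ^ j * ((a * b) ^ j * a) = ((a * b) ^ j * (a * b) ^ j * (a * b)) * b⁻¹ := by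
              group
          _ = b := by rw [h, one_mul, hbinv]
      exact (inv_mul_eq_iff_eq_mul.mpr h2.symm).symm

section

variable {B W X : Type*} [Group W] [Group X]

/-- A generated group with involutive generators satisfying the exchange condition. -/
structure ExSys (ι : B → W) (ℓ : W → ℕ) : Prop where
  inv : ∀ s, ι s * ι s = 1
  le : ∀ L : List B, ℓ (L.map ι).prod ≤ L.length
  ex : ∀ w, ∃ L : List B, (L.map ι).prod = w ∧ L.length = ℓ w
  exch : ∀ L : List B, L.length = ℓ (L.map ι).prod → ∀ s,
    ℓ (ι s * (L.map ι).prod) ≤ ℓ (L.map ι).prod →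
    ∃ L1 s' L2, L = L1 ++ s' :: L2 ∧ ι s * (L.map ι).prod = ((L1 ++ L2).map ι).prod

variable {ι : B → W} {ℓ : W → ℕ}

theorem ExSys.len_mul_le (E : ExSys ι ℓ) (a b : W) : ℓ (a * b) ≤ ℓ a + ℓ b := by
  obtain ⟨La, hLa, hla⟩ := E.ex a
  obtain ⟨Lb, hLb, hlb⟩ := E.ex b
  have h := E.le (La ++ Lb)
  rw [List.map_append, List.prod_append, hLa, hLb, List.length_append, hla, hlb] at h
  exact h

theorem ExSys.red_append (E : ExSys ι ℓ) {L1 L2 : List B}
    (h : (L1 ++ L2).length = ℓ ((L1 ++ L2).map ι).prod) :
    L1.length = ℓ (L1.map ι).prod ∧ L2.length = ℓ (L2.map ι).prod := by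
  have h1 := E.le L1
  have h2 := E.le L2
  have h3 := E.len_mul_le (L1.map ι).prod (L2.map ι).prod
  rw [List.map_append, List.prod_append, List.length_append] at h
  constructor <;> omega

theorem ExSys.len_gen_le (E : ExSys ι ℓ) (s : B) : ℓ (ι s) ≤ 1 := by
  have := E.le [s]
  simpa using this

theorem ExSys.len_le_s (E : ExSys ι ℓ) (s : B) (w : W) : ℓ w ≤ ℓ (ι s * w) + 1 := by
  have h := E.len_mul_le (ι s) (ι s * w)
  rw [← mul_assoc, E.inv, one_mul] at h
  have := E.len_gen_le s
  omega

theorem ExSys.red_nil (E : ExSys ι ℓ) {L : List B} (h : L.length = ℓ (L.map ι).prod)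
    (h1 : (L.map ι).prod = 1) : L = [] := by
  have := E.le []
  simp only [List.map_nil, List.prod_nil, List.length_nil] at this
  rw [h1] at h
  exact List.length_eq_zero_iff.mp (by omega)

/-- Tits' lemma: the value along reduced words is well defined. -/
theorem ExSys.tits (E : ExSys ι ℓ) (f : B → X) (hf : ∀ s, f s * f s = 1)
    (hff : ∀ s t, (f s * f t) ^ orderOf (ι s * ι t) = 1) :
    ∀ q : ℕ, ∀ L L' : List B, L.length = q → L.length = ℓ (L.map ι).prod →
      L'.length = ℓ (L'.map ι).prod → (L.map ι).prod = (L'.map ι).prod →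
      (L.map f).prod = (L'.map f).prod := by
  intro q
  induction q using Nat.strong_induction_on with
  | _ q IH =>
  -- common first letter
  have hb : ∀ (x : B) (L0 L0' : List B), (x :: L0).length = q →
      (x :: L0).length = ℓ ((x :: L0).map ι).prod →
      (x :: L0').length = ℓ ((x :: L0').map ι).prod →
      ((x :: L0).map ι).prod = ((x :: L0').map ι).prod →
      ((x :: L0).map f).prod = ((x :: L0').map f).prod := by
    intro x L0 L0' hq hr hr' hp
    have r0 := (E.red_append (L1 := [x]) (L2 := L0) hr).2
    have r0' := (E.red_append (L1 := [x]) (L2 := L0') hr').2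
    simp only [List.map_cons, List.prod_cons] at hp ⊢
    have hp' := mul_left_cancel hp
    rw [IH L0.length (by simp at hq; omega) L0 L0' rfl r0 r0' hp']
  -- common last letter
  have hb' : ∀ (x : B) (L0 L0' : List B), (L0 ++ [x]).length = q →
      (L0 ++ [x]).length = ℓ ((L0 ++ [x]).map ι).prod →
      (L0' ++ [x]).length = ℓ ((L0' ++ [x]).map ι).prod →
      ((L0 ++ [x]).map ι).prod = ((L0' ++ [x]).map ι).prod →
      ((L0 ++ [x]).map f).prod = ((L0' ++ [x]).map f).prod := by
    intro x L0 L0' hq hr hr' hp
    have r0 := (E.red_append hr).1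
    have r0' := (E.red_append hr').1
    simp only [List.map_append, List.prod_append] at hp ⊢
    have hp' := mul_right_cancel hp
    rw [IH L0.length (by simp at hq; omega) L0 L0' rfl r0 r0' hp']
  -- a general step: from an exchange, either common last letter or pass to dropLast
  have hstep : ∀ (x : B) (A : List B), A.length = q → A.length = ℓ (A.map ι).prod →
      ℓ (ι x * (A.map ι).prod) ≤ ℓ (A.map ι).prod →
      ((x :: A.dropLast).length = ℓ ((x :: A.dropLast).map ι).prod →
        ((x :: A.dropLast).map ι).prod = (A.map ι).prod →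
        (A.map f).prod = ((x :: A.dropLast).map f).prod) →
      ∃ A'' : List B, (x :: A'').length = q ∧
        (x :: A'').length = ℓ ((x :: A'').map ι).prod ∧
        ((x :: A'').map ι).prod = (A.map ι).prod ∧
        (A.map f).prod = ((x :: A'').map f).prod := by
    intro x A hAq hAr hle hdrop
    obtain ⟨L1, s', L2, hA, hex⟩ := E.exch A hAr x hle
    have hprod : ((x :: (L1 ++ L2)).map ι).prod = (A.map ι).prod := by
      rw [List.map_cons, List.prod_cons, ← hex, ← mul_assoc, E.inv, one_mul]
    have hlen : (x :: (L1 ++ L2)).length = q := by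
      rw [← hAq, hA]; simp; omega
    have hred : (x :: (L1 ++ L2)).length = ℓ ((x :: (L1 ++ L2)).map ι).prod := by
      rw [hprod, ← hAr, hlen, hAq]
    refine ⟨L1 ++ L2, hlen, hred, hprod, ?_⟩
    rcases List.eq_nil_or_concat L2 with h2 | ⟨L2', z, h2⟩
    · subst h2
      have hd : A.dropLast = L1 := by rw [hA]; simp
      rw [List.append_nil] at hlen hred hprod ⊢
      rw [← hd] at hred hprod ⊢
      exact hdrop hred hprod
    · rw [List.concat_eq_append] at h2
      subst h2
      have e1 : A = (L1 ++ s' :: L2') ++ [z] := by rw [hA]; simp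
      have e2 : x :: (L1 ++ (L2' ++ [z])) = (x :: (L1 ++ L2')) ++ [z] := by simp
      rw [e2] at hlen hred hprod ⊢
      rw [e1] at hAq hAr hprod ⊢
      exact hb' z _ _ hAq hAr hred hprod.symm
  -- the alternating-prefix claim
  have hZ : ∀ (j k : ℕ), k + j = q → 1 ≤ k → ∀ (x y : B) (R : List B),
      (alt x y k ++ R).length = q →
      (alt x y k ++ R).length = ℓ ((alt x y k ++ R).map ι).prod →
      (y :: (alt x y k ++ R).dropLast).length = ℓ ((y :: (alt x y k ++ R).dropLast).map ι).prod →
      ((y :: (alt x y k ++ R).dropLast).map ι).prod = ((alt x y k ++ R).map ι).prod →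
      ((alt x y k ++ R).map f).prod = ((y :: (alt x y k ++ R).dropLast).map f).prod := by
    intro j
    induction j with
    | zero =>
      intro k hk hk1 x y R hlen hred hred' hprod
      have hR : R = [] := by
        rw [List.length_append, alt_length] at hlen
        exact List.length_eq_zero_iff.mp (by omega)
      subst hR
      obtain ⟨k', rfl⟩ : ∃ k', k = k' + 1 := ⟨k - 1, by omega⟩
      rw [List.append_nil] at hprod ⊢
      rw [alt_dropLast, ← alt_succ] at hprod ⊢
      rw [alt_map, alt_map] at hprod ⊢
      have h1 : (ι x * ι y) ^ (k' + 1) = 1 :=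
        (alt_prod_eq_iff (ι x) (ι y) (E.inv x) (E.inv y) (k' + 1)).mp hprod.symm
      have h2 : orderOf (ι x * ι y) ∣ k' + 1 := orderOf_dvd_of_pow_eq_one h1
      obtain ⟨c, hc⟩ := h2
      have h3 : (f x * f y) ^ (k' + 1) = 1 := by
        rw [hc, pow_mul, hff x y, one_pow]
      exact (alt_prod_eq_iff (f x) (f y) (hf x) (hf y) (k' + 1)).mpr h3
    | succ j ihj =>
      intro k hk hk1 x y R hlen hred hred' hprod
      have hRne : R ≠ [] := by
        intro hR
        rw [hR, List.append_nil, alt_length] at hlen
        omega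
      obtain ⟨k', rfl⟩ : ∃ k', k = k' + 1 := ⟨k - 1, by omega⟩
      have hdl : (alt x y (k' + 1) ++ R).dropLast = alt x y (k' + 1) ++ R.dropLast :=
        List.dropLast_append_of_ne_nil hRne
      have hA' : y :: (alt x y (k' + 1) ++ R).dropLast = alt y x (k' + 1 + 1) ++ R.dropLast := by
        rw [hdl, alt_succ y x (k' + 1), List.cons_append]
      set A := alt x y (k' + 1) ++ R with hAdef
      set A' := y :: A.dropLast with hA'def
      have hA'len : A'.length = q := by
        rw [hred', hprod, ← hred, hlen]
      -- A starts with x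
      have hAx : A = x :: (alt y x k' ++ R) := by
        rw [hAdef, alt_succ, List.cons_append]
      have hle : ℓ (ι x * (A'.map ι).prod) ≤ ℓ (A'.map ι).prod := by
        rw [hprod, ← hred, hlen]
        have e : ι x * (A.map ι).prod = ((alt y x k' ++ R).map ι).prod := by
          rw [hAx, List.map_cons, List.prod_cons, ← mul_assoc, E.inv, one_mul]
        rw [e]
        have h1 := E.le (alt y x k' ++ R)
        have h2 : (alt y x k' ++ R).length + 1 = q := by
          rw [← hlen, hAx]; simp
        omega
      obtain ⟨A'', hlen'', hred'', hprod'', hF⟩ := hstep x A' hA'len hred' hle (by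
        intro hr hp
        have := ihj (k' + 1 + 1) (by omega) (by omega) y x R.dropLast
        rw [← hA'] at this
        exact this hA'len hred' hr hp)
      -- F A = F (x :: A'')
      have hFA : (A.map f).prod = ((x :: A'').map f).prod := by
        rw [hAx]
        rw [hAx] at hlen hred hprod
        exact hb x _ _ hlen hred hred'' (by rw [hprod'', hprod])
      rw [hFA, ← hF]
  -- main claim
  intro L L' hLq hLr hL'r hp
  rcases L with _ | ⟨a, L0⟩
  · have : L' = [] := E.red_nil hL'r (by rw [← hp]; simp)
    rw [this]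
  · rcases L' with _ | ⟨b, L0'⟩
    · have := E.red_nil hLr (by rw [hp]; simp)
      simp at this
    · by_cases hab : a = b
      · subst hab
        exact hb a L0 L0' hLq hLr hL'r hp
      · have hle : ℓ (ι b * ((a :: L0).map ι).prod) ≤ ℓ ((a :: L0).map ι).prod := by
          rw [← hLr, hLq, hp]
          have e : ι b * ((b :: L0').map ι).prod = (L0'.map ι).prod := by
            rw [List.map_cons, List.prod_cons, ← mul_assoc, E.inv, one_mul]
          rw [e]
          have h1 := E.le L0'
          have h2 : (b :: L0').length = q := by rw [hL'r, ← hp, ← hLr, hLq]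
          simp at h2
          omega
        obtain ⟨A'', hlen'', hred'', hprod'', hF⟩ := hstep b (a :: L0) hLq hLr hle (by
          intro hr hp2
          have := hZ (q - 1) 1 (by simp at hLq; omega) le_rfl a b L0
          have e : alt a b 1 ++ L0 = a :: L0 := rfl
          rw [e] at this
          exact this hLq hLr hr hp2)
        rw [hF]
        exact hb b A'' L0' hlen'' hred'' hL'r (by rw [hprod'', hp])

/-- Values of words only depend on the group element. -/
theorem ExSys.word_indep (E : ExSys ι ℓ) (f : B → X) (hf : ∀ s, f s * f s = 1)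
    (hff : ∀ s t, (f s * f t) ^ orderOf (ι s * ι t) = 1) :
    ∀ L L' : List B, (L.map ι).prod = (L'.map ι).prod → (L.map f).prod = (L'.map f).prod := by
  have T := E.tits f hf hff
  have hU : ∀ L : List B, ∀ R : List B, R.length = ℓ (R.map ι).prod →
      (R.map ι).prod = (L.map ι).prod → (L.map f).prod = (R.map f).prod := by
    intro L
    induction L with
    | nil =>
      intro R hR hp
      have := E.red_nil hR (by rw [hp]; simp)
      rw [this]
    | cons s L0 ih =>
      intro R hR hp
      obtain ⟨R0, hR0p, hR0l⟩ := E.ex (L0.map ι).prod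
      have hR0 : R0.length = ℓ (R0.map ι).prod := by rw [hR0p, hR0l]
      have hF0 := ih R0 hR0 hR0p
      have hpR : (R.map ι).prod = ι s * (R0.map ι).prod := by
        rw [hp, List.map_cons, List.prod_cons, hR0p]
      rw [List.map_cons, List.prod_cons, hF0]
      by_cases hcase : ℓ (ι s * (R0.map ι).prod) ≤ ℓ (R0.map ι).prod
      · obtain ⟨L1, s', L2, hdec, hex⟩ := E.exch R0 hR0 s hcase
        have hprod : ((s :: (L1 ++ L2)).map ι).prod = (R0.map ι).prod := by
          rw [List.map_cons, List.prod_cons, ← hex, ← mul_assoc, E.inv, one_mul]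
        have hlen : (s :: (L1 ++ L2)).length = R0.length := by
          rw [hdec]; simp; omega
        have hred : (s :: (L1 ++ L2)).length = ℓ ((s :: (L1 ++ L2)).map ι).prod := by
          rw [hprod, ← hR0, hlen]
        have e1 := T _ _ _ rfl hred hR0 hprod
        have hred2 : (L1 ++ L2).length = ℓ ((L1 ++ L2).map ι).prod :=
          (E.red_append (L1 := [s]) (L2 := L1 ++ L2) hred).2
        have e2 := T _ R (L1 ++ L2) rfl hR hred2 (by rw [hpR, hex])
        rw [e2, ← e1, List.map_cons, List.prod_cons, ← mul_assoc, hf, one_mul]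
      · have hle := E.le (s :: R0)
        have hred : (s :: R0).length = ℓ ((s :: R0).map ι).prod := by
          rw [List.map_cons, List.prod_cons] at hle ⊢
          rw [List.length_cons] at hle ⊢
          omega
        have e := T _ R (s :: R0) rfl hR hred (by rw [hpR]; simp)
        rw [e, List.map_cons, List.prod_cons]
  intro L L' hp
  obtain ⟨R, hRp, hRl⟩ := E.ex (L.map ι).prod
  have hR : R.length = ℓ (R.map ι).prod := by rw [hRp, hRl]
  rw [hU L R hR hRp, hU L' R hR (by rw [hRp, hp])]

end

end Cfsg.Agent.Lib.Helper2.Mats
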