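import Cfsg.Agent.Lib.Helper2.Mats

set_option autoImplicit false

namespace Cfsg.Agent.Lib.Helper2.Mats

/-- An exchange system whose orders are compatible with a Coxeter matrix is a Coxeter system. -/
theorem ExSys.coxeter {B W : Type*} [Group W] {ι : B → W} {ℓ : W → ℕ} (E : ExSys ι ℓ)
    (M : CoxeterMatrix B) (h1 : ∀ s t, (ι s * ι t) ^ M s t = 1)
    (h2 : ∀ s t, M s t ∣ orderOf (ι s * ι t)) :
    ∃ cs : CoxeterSystem M W, ∀ s, cs.simple s = ι s := by
  have hlift : CoxeterMatrix.IsLiftable M ι := h1
  let φ : M.Group →* W := M.toCoxeterSystem.lift ⟨ι, hlift⟩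
  have hφ : ∀ s, φ (M.simple s) = ι s := by
    intro s
    have := M.toCoxeterSystem.lift_apply_simple hlift s
    simpa using this
  have hφw : ∀ L : List B, φ ((L.map M.simple).prod) = (L.map ι).prod := by
    intro L
    rw [map_list_prod, List.map_map]
    congr 1
    apply List.map_congr_left
    intro s _
    exact hφ s
  have hf : ∀ s, M.simple s * M.simple s = 1 := by
    intro s
    have := M.toCoxeterSystem.simple_mul_simple_self s
    simpa using this
  have hff : ∀ s t, (M.simple s * M.simple t) ^ orderOf (ι s * ι t) = 1 := by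
    intro s t
    have h := M.toCoxeterSystem.simple_mul_simple_pow s t
    rw [CoxeterMatrix.toCoxeterSystem_simple] at h
    obtain ⟨c, hc⟩ := h2 s t
    rw [hc, pow_mul, h, one_pow]
  have hsurj : Function.Surjective φ := by
    intro w
    obtain ⟨L, hL, _⟩ := E.ex w
    exact ⟨(L.map M.simple).prod, by rw [hφw, hL]⟩
  have hinj : Function.Injective φ := by
    rw [injective_iff_map_eq_one]
    intro x hx
    obtain ⟨L, rfl⟩ := M.toCoxeterSystem.wordProd_surjective x
    have hw : M.toCoxeterSystem.wordProd L = (L.map M.simple).prod := by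
      rw [CoxeterSystem.wordProd, CoxeterMatrix.toCoxeterSystem_simple]
    rw [hw] at hx ⊢
    have := E.word_indep M.simple hf hff L [] (by rw [← hφw, hx]; simp)
    simpa using this
  refine ⟨⟨(MulEquiv.ofBijective φ ⟨hinj, hsurj⟩).symm⟩, fun s => ?_⟩
  exact hφ s

end Cfsg.Agent.Lib.Helper2.Mats
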