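import Mathlib
import Cfsg.Prelude.Def_Characters
import Cfsg.Agent.Lib.Lead.CharClifford2
import Cfsg.Agent.Lib.Lead.CharRing

set_option autoImplicit false

namespace Cfsg.Agent.Lib.Helper2.OddReal

open Cfsg Cfsg.Agent.Lib.Lead
open scoped ComplexConjugate

/-- Burnside's lemma for an action given by a plain function. -/
theorem burnside {G : Type*} [Group G] [Fintype G] {Y : Type*} [Finite Y] (act : G → Y → Y)
    (h1 : ∀ y, act 1 y = y) (hmul : ∀ g h y, act (g * h) y = act g (act h y)) :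
    Nat.card (Quot (fun y y' : Y => ∃ g, act g y = y')) * Nat.card G
      = ∑ g : G, Nat.card {y : Y // act g y = y} := by
  classical
  letI : MulAction G Y := { smul := act, one_smul := h1, mul_smul := hmul }
  letI := Fintype.ofFinite Y
  have hb := MulAction.sum_card_fixedBy_eq_card_orbits_mul_card_group G Y
  have e1 : (∑ g : G, Nat.card {y : Y // act g y = y})
      = ∑ g : G, Fintype.card (MulAction.fixedBy Y g) := by
    apply Finset.sum_congr rfl
    intro g _
    rw [← Nat.card_eq_fintype_card]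
    rfl
  rw [e1, hb, ← Nat.card_eq_fintype_card, ← Nat.card_eq_fintype_card]
  congr 1
  apply Nat.card_congr
  refine Quot.congrRight (fun a b => ⟨?_, ?_⟩)
  · rintro ⟨g, hg⟩
    refine ⟨g⁻¹, ?_⟩
    show act g⁻¹ b = a
    rw [← hg, ← hmul, inv_mul_cancel, h1]
  · rintro ⟨g, hg⟩
    refine ⟨g⁻¹, ?_⟩
    have hg' : act g b = a := hg
    rw [← hg', ← hmul, inv_mul_cancel, h1]

/-- If `g` sends `y` to `s y` where `s` is an involution commuting with the action and an odd
power of `g` fixes `y`, then `y` is fixed by `s` and `g`. -/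
theorem odd_fix {G : Type*} [Group G] {Y : Type*} (act : G → Y → Y)
    (h1 : ∀ y, act 1 y = y) (hmul : ∀ g h y, act (g * h) y = act g (act h y))
    (s : Y → Y) (hs : ∀ g y, s (act g y) = act g (s y)) (hss : ∀ y, s (s y) = y)
    (n : ℕ) (hn : Odd n) (g : G) (y : Y) (hK : act (g ^ n) y = y) (h : act g y = s y) :
    s y = y ∧ act g y = y := by
  have h2 : act (g * g) y = y := by rw [hmul, h, ← hs, h, hss]
  have hpow : ∀ m : ℕ, act ((g * g) ^ m) y = y := by
    intro m
    induction m with
    | zero => rw [pow_zero, h1]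
    | succ m ih => rw [pow_succ, hmul, h2, ih]
  obtain ⟨m, rfl⟩ := hn
  have h3 : act (g ^ (2 * m + 2)) y = y := by
    have := hpow (m + 1)
    rwa [← pow_two, ← pow_mul, mul_add, mul_one] at this
  have h4 : act g y = y := by
    have e : g ^ (2 * m + 2) = g * g ^ (2 * m + 1) := by rw [← pow_succ']
    rw [e, hmul, hK] at h3
    exact h3
  exact ⟨h ▸ h4, h4⟩


section

variable {G : Type*} [Group G] (K : Subgroup G) [hN : K.Normal]

/-- The inverse class. -/
def invC : ConjClasses K → ConjClasses K :=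
  Quotient.lift (fun k : K => ConjClasses.mk k⁻¹) (by
    intro a b hab
    apply ConjClasses.mk_eq_mk_iff_isConj.mpr
    obtain ⟨c, hc⟩ := isConj_iff.mp hab
    exact isConj_iff.mpr ⟨c, by rw [← hc]; group⟩)

theorem invC_mk (k : K) : invC K (ConjClasses.mk k) = ConjClasses.mk k⁻¹ := rfl

/-- The conjugation action of `G` on the classes of `K`. -/
def actC (g : G) : ConjClasses K → ConjClasses K :=
  ConjClasses.map (MulAut.conjNormal g : K ≃* K).toMonoidHom

theorem actC_mk (g : G) (k : K) :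
    actC K g (ConjClasses.mk k) = ConjClasses.mk ((MulAut.conjNormal g : K ≃* K) k) := rfl

theorem actC_one (C : ConjClasses K) : actC K 1 C = C := by
  obtain ⟨k, rfl⟩ := ConjClasses.mk_surjective C
  rw [actC_mk, map_one]
  rfl

theorem actC_mul (g h : G) (C : ConjClasses K) : actC K (g * h) C = actC K g (actC K h C) := by
  obtain ⟨k, rfl⟩ := ConjClasses.mk_surjective C
  rw [actC_mk, actC_mk, actC_mk, map_mul]
  rfl

theorem invC_actC (g : G) (C : ConjClasses K) : invC K (actC K g C) = actC K g (invC K C) := by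
  obtain ⟨k, rfl⟩ := ConjClasses.mk_surjective C
  rw [actC_mk, invC_mk, invC_mk, actC_mk, map_inv]

theorem invC_invC (C : ConjClasses K) : invC K (invC K C) = C := by
  obtain ⟨k, rfl⟩ := ConjClasses.mk_surjective C
  rw [invC_mk, invC_mk, inv_inv]

theorem actC_mem {h : G} (hh : h ∈ K) (C : ConjClasses K) : actC K h C = C := by
  obtain ⟨k, rfl⟩ := ConjClasses.mk_surjective C
  rw [actC_mk]
  apply ConjClasses.mk_eq_mk_iff_isConj.mpr
  apply isConj_iff.mpr
  refine ⟨⟨h, hh⟩⁻¹, ?_⟩
  apply Subtype.ext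
  simp only [Subgroup.coe_mul, Subgroup.coe_inv, MulAut.conjNormal_apply, inv_inv]
  group

/-- The conjugation action of `G` on functions on `K`. -/
def actF (g : G) (θ : K → ℂ) : K → ℂ := twist K g⁻¹ θ

theorem actF_one (θ : K → ℂ) : actF K 1 θ = θ := by
  unfold actF
  rw [inv_one, twist_one]

theorem actF_mul (g h : G) (θ : K → ℂ) : actF K (g * h) θ = actF K g (actF K h θ) := by
  unfold actF
  rw [twist_twist, mul_inv_rev]

theorem actF_mem {h : G} (hh : h ∈ K) {θ : K → ℂ} (hθ : IsClassFunction K θ) :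
    actF K h θ = θ :=
  twist_eq_of_mem K hθ (K.inv_mem hh)

/-- The twisted inversion map. -/
def aMap (g : G) : K → K := fun k => ((MulAut.conjNormal g⁻¹ : K ≃* K) k)⁻¹

theorem comp_aMap [Finite G] (g : G) {χ : K → ℂ} (hχ : IsCharacter K χ) :
    χ ∘ aMap K g = fun k => conj (actF K g χ k) := by
  letI := Fintype.ofFinite K
  funext k
  show χ (((MulAut.conjNormal g⁻¹ : K ≃* K) k)⁻¹) = conj (twist K g⁻¹ χ k)
  rw [isCharacter_inv_eq_conj hχ, twist_eq_comp]
  rfl

theorem aMap_irr [Finite G] (g : G) (χ : K → ℂ) (hχ : IsIrrCharacter K χ) :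
    IsIrrCharacter K (χ ∘ aMap K g) := by
  letI := Fintype.ofFinite K
  rw [comp_aMap K g (isCharacter_of_isIrrCharacter hχ)]
  exact isIrrCharacter_conj (isIrrCharacter_twist K g⁻¹ hχ)

theorem aMap_conj (g : G) (x y : K) (h : IsConj x y) : IsConj (aMap K g x) (aMap K g y) := by
  obtain ⟨c, hc⟩ := isConj_iff.mp h
  unfold aMap
  generalize (MulAut.conjNormal g⁻¹ : K ≃* K) = φ
  refine isConj_iff.mpr ⟨φ c, ?_⟩
  show φ c * (φ x)⁻¹ * (φ c)⁻¹ = (φ y)⁻¹
  rw [← hc, map_mul, map_mul, map_inv]
  group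

theorem mk_aMap (g : G) (k : K) :
    ConjClasses.mk (aMap K g k) = invC K (actC K g⁻¹ (ConjClasses.mk k)) := rfl

end

end Cfsg.Agent.Lib.Helper2.OddReal
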