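import Mathlib
import Cfsg.Agent.Lib.Helper2.Hall

set_option autoImplicit false

namespace Cfsg.Agent.Lib.Helper2

open Subgroup

universe u

theorem exists_prime_pow_factor (n : ℕ) (hn : 2 ≤ n) :
    ∃ r k n' : ℕ, r.Prime ∧ r ∣ n ∧ r ^ k * n' = n ∧ (r ^ k).Coprime n' ∧ n' < n := by
  have hn0 : n ≠ 0 := by omega
  have hrp : n.minFac.Prime := Nat.minFac_prime (by omega)
  refine ⟨n.minFac, n.factorization n.minFac, n / n.minFac ^ n.factorization n.minFac, hrp,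
    Nat.minFac_dvd n, Nat.ordProj_mul_ordCompl_eq_self n _,
    (Nat.coprime_ordCompl hrp hn0).pow_left _, ?_⟩
  apply Nat.div_lt_self (by omega)
  have := Nat.dvd_ordProj_of_dvd hn0 hrp (Nat.minFac_dvd n)
  exact lt_of_lt_of_le hrp.one_lt (Nat.le_of_dvd (pow_pos hrp.pos _) this)

theorem isPGroup_zpowers_of_pow_eq_one {G : Type*} [Group G] {r k : ℕ} {x : G}
    (h : x ^ r ^ k = 1) : IsPGroup r (zpowers x) := by
  rintro ⟨y, hy⟩
  obtain ⟨i, rfl⟩ := mem_zpowers_iff.mp hy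
  refine ⟨k, Subtype.ext ?_⟩
  show (x ^ i) ^ r ^ k = 1
  rw [← zpow_natCast, ← zpow_mul, mul_comm, zpow_mul, zpow_natCast, h, one_zpow]

theorem card_subgroupOf_dvd' {G : Type*} [Group G] (K H : Subgroup G) :
    Nat.card (K.subgroupOf H) ∣ Nat.card K := by
  apply Subgroup.card_dvd_of_injective (H.subtype.subgroupComap K)
  intro x y hxy
  have h1 : ((H.subtype.subgroupComap K x : K) : G) = (H.subtype.subgroupComap K y : K) :=
    congrArg Subtype.val hxy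
  exact Subtype.ext (Subtype.ext h1)

/-- Conjugacy of cyclic complements (Schur–Zassenhaus, cyclic case), inductive core. -/
theorem sz_cyclic_core (n : ℕ) : ∀ (G : Type u) [Group G] [Finite G] (H : Subgroup G) [H.Normal]
    (_ : ∀ a b : G, a * b * a⁻¹ * b⁻¹ ∈ H) (g u : G), g ^ n = 1 → u ^ n = 1 →
    n.Coprime (Nat.card H) → u⁻¹ * g ∈ H → ∃ x : G, x * u * x⁻¹ = g := by
  induction n using Nat.strong_induction_on with
  | _ n ih =>
    intro G _ _ H _ hab g u hg hu hcop hug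
    rcases Nat.lt_or_ge n 2 with hn | hn
    · interval_cases n
      · have hH : Nat.card H = 1 := by simpa using hcop
        have hbot : H = ⊥ := Subgroup.card_eq_one.mp hH
        rw [hbot, Subgroup.mem_bot] at hug
        refine ⟨1, ?_⟩
        rw [one_mul, inv_one, mul_one]
        exact inv_mul_eq_one.mp hug
      · rw [pow_one] at hg hu
        exact ⟨1, by rw [hg, hu]; simp⟩
    · obtain ⟨r, k, n', hrp, hrn, hRn, hcopR, hn'lt⟩ := exists_prime_pow_factor n hn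
      have : Fact r.Prime := ⟨hrp⟩
      obtain ⟨e, he1, he2⟩ := Nat.chineseRemainder hcopR 1 0
      obtain ⟨f, hf1, hf2⟩ := Nat.chineseRemainder hcopR 0 1
      have hef : e + f ≡ 1 [MOD n] := by
        rw [← hRn]
        apply (Nat.modEq_and_modEq_iff_modEq_mul hcopR).mp
        exact ⟨by simpa using he1.add hf1, by simpa using he2.add hf2⟩
      have hRe : n ∣ e * r ^ k := by
        rw [← hRn, mul_comm]
        exact Nat.mul_dvd_mul_right ((Nat.modEq_zero_iff_dvd).mp he2) _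
      have hn'f : n ∣ f * n' := by
        rw [← hRn]
        exact Nat.mul_dvd_mul_right ((Nat.modEq_zero_iff_dvd).mp hf1) _
      have hsplit : ∀ w : G, w ^ n = 1 → w ^ e * w ^ f = w := by
        intro w hw
        rw [← pow_add]
        have h1 : w ^ (e + f) = w ^ 1 :=
          pow_eq_pow_iff_modEq.mpr (Nat.ModEq.of_dvd (orderOf_dvd_of_pow_eq_one hw) hef)
        rw [h1, pow_one]
      have hpowR : ∀ w : G, w ^ n = 1 → (w ^ e) ^ (r ^ k) = 1 := by
        intro w hw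
        rw [← pow_mul]
        obtain ⟨c, hc⟩ := hRe
        rw [hc, pow_mul, hw, one_pow]
      have hpown' : ∀ w : G, w ^ n = 1 → (w ^ f) ^ n' = 1 := by
        intro w hw
        rw [← pow_mul]
        obtain ⟨c, hc⟩ := hn'f
        rw [hc, pow_mul, hw, one_pow]
      have hq : (QuotientGroup.mk u : G ⧸ H) = QuotientGroup.mk g := QuotientGroup.eq.mpr hug
      have hqcomm : ∀ a b : G, (QuotientGroup.mk a : G ⧸ H) * QuotientGroup.mk b =
          QuotientGroup.mk b * QuotientGroup.mk a := by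
        intro a b
        have h1 : (QuotientGroup.mk (a * b * a⁻¹ * b⁻¹) : G ⧸ H) = 1 :=
          (QuotientGroup.eq_one_iff _).mpr (hab a b)
        rw [QuotientGroup.mk_mul, QuotientGroup.mk_mul, QuotientGroup.mk_mul, QuotientGroup.mk_inv,
          QuotientGroup.mk_inv] at h1
        have h2 := mul_inv_eq_one.mp h1
        exact mul_inv_eq_iff_eq_mul.mp h2
      have hqconj : ∀ z w : G, (QuotientGroup.mk (z * w * z⁻¹) : G ⧸ H) = QuotientGroup.mk w := by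
        intro z w
        rw [QuotientGroup.mk_mul, QuotientGroup.mk_mul, QuotientGroup.mk_inv, hqcomm z w,
          mul_inv_cancel_right]
      obtain ⟨S, hS⟩ := (isPGroup_zpowers_of_pow_eq_one (hpowR g hg)).exists_le_sylow
      obtain ⟨Q, hQ⟩ := (isPGroup_zpowers_of_pow_eq_one (hpowR u hu)).exists_le_sylow
      obtain ⟨z, rfl⟩ := MulAction.exists_smul_eq G Q S
      have h1 : z * u ^ e * z⁻¹ ∈ ((z • Q : Sylow r G) : Subgroup G) :=
        ⟨u ^ e, hQ (Subgroup.mem_zpowers _), rfl⟩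
      have h2 : g ^ e ∈ ((z • Q : Sylow r G) : Subgroup G) := hS (Subgroup.mem_zpowers _)
      have hd : z * u ^ e * z⁻¹ * (g ^ e)⁻¹ = 1 := by
        have hdS : z * u ^ e * z⁻¹ * (g ^ e)⁻¹ ∈ ((z • Q : Sylow r G) : Subgroup G) :=
          Subgroup.mul_mem _ h1 (Subgroup.inv_mem _ h2)
        have hdH : z * u ^ e * z⁻¹ * (g ^ e)⁻¹ ∈ H := by
          rw [← QuotientGroup.eq_one_iff, QuotientGroup.mk_mul, hqconj, QuotientGroup.mk_inv,
            QuotientGroup.mk_pow, QuotientGroup.mk_pow, hq, mul_inv_cancel]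
        obtain ⟨j, hj⟩ := (z • Q).2 ⟨_, hdS⟩
        have hj' : (z * u ^ e * z⁻¹ * (g ^ e)⁻¹) ^ r ^ j = 1 := congrArg Subtype.val hj
        have ho1 : orderOf (z * u ^ e * z⁻¹ * (g ^ e)⁻¹) ∣ r ^ j := orderOf_dvd_of_pow_eq_one hj'
        have ho2 : orderOf (z * u ^ e * z⁻¹ * (g ^ e)⁻¹) ∣ Nat.card H :=
          orderOf_dvd_card_of_mem H _ hdH
        have hrH : (r ^ j).Coprime (Nat.card H) :=
          Nat.Coprime.pow_left j (Nat.Coprime.coprime_dvd_left hrn hcop)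
        exact orderOf_eq_one_iff.mp (Nat.eq_one_of_dvd_coprimes hrH ho1 ho2)
      have hzu : z * u ^ e * z⁻¹ = g ^ e := mul_inv_eq_one.mp hd
      have hu₁n : (z * u * z⁻¹) ^ n = 1 := by rw [conj_pow, hu]; simp
      have hu₁e : (z * u * z⁻¹) ^ e = g ^ e := by rw [conj_pow]; exact hzu
      have hu₁q : (QuotientGroup.mk (z * u * z⁻¹) : G ⧸ H) = QuotientGroup.mk g := by
        rw [hqconj, hq]
      obtain ⟨u₁, hu₁⟩ : ∃ u₁, z * u * z⁻¹ = u₁ := ⟨_, rfl⟩
      rw [hu₁] at hu₁n hu₁e hu₁q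
      have hgf : g ^ f ∈ Subgroup.centralizer ({g ^ e} : Set G) := by
        rw [mem_centralizer_singleton_iff', ← pow_add, ← pow_add, add_comm]
      have hu₁f : u₁ ^ f ∈ Subgroup.centralizer ({g ^ e} : Set G) := by
        rw [mem_centralizer_singleton_iff', ← hu₁e, ← pow_add, ← pow_add, add_comm]
      obtain ⟨x₂, hx₂⟩ := ih n' hn'lt (Subgroup.centralizer ({g ^ e} : Set G)) (H.subgroupOf _)
        (fun a b => Subgroup.mem_subgroupOf.mpr (hab a b)) ⟨g ^ f, hgf⟩ ⟨u₁ ^ f, hu₁f⟩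
        (Subtype.ext (hpown' g hg)) (Subtype.ext (hpown' u₁ hu₁n))
        (Nat.Coprime.coprime_dvd_left ⟨r ^ k, by rw [← hRn, mul_comm]⟩
          (Nat.Coprime.coprime_dvd_right (card_subgroupOf_dvd' H _) hcop))
        (by
          rw [Subgroup.mem_subgroupOf]
          show (u₁ ^ f)⁻¹ * g ^ f ∈ H
          rw [← QuotientGroup.eq, QuotientGroup.mk_pow, QuotientGroup.mk_pow, hu₁q])
      have hx₂' : (x₂ : G) * u₁ ^ f * (x₂ : G)⁻¹ = g ^ f := congrArg Subtype.val hx₂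
      have hx₂c : g ^ e * (x₂ : G) = (x₂ : G) * g ^ e :=
        (mem_centralizer_singleton_iff' _ _).mp x₂.2
      refine ⟨(x₂ : G) * z, ?_⟩
      have e1 : (x₂ : G) * z * u * ((x₂ : G) * z)⁻¹ = (x₂ : G) * (z * u * z⁻¹) * (x₂ : G)⁻¹ := by
        group
      rw [e1, hu₁]
      conv_lhs => rw [← hsplit u₁ hu₁n, hu₁e]
      have e2 : (x₂ : G) * (g ^ e * u₁ ^ f) * (x₂ : G)⁻¹ =
          ((x₂ : G) * g ^ e) * u₁ ^ f * (x₂ : G)⁻¹ := by
        simp only [mul_assoc]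
      rw [e2, ← hx₂c]
      have e3 : g ^ e * (x₂ : G) * u₁ ^ f * (x₂ : G)⁻¹ =
          g ^ e * ((x₂ : G) * u₁ ^ f * (x₂ : G)⁻¹) := by
        simp only [mul_assoc]
      rw [e3, hx₂', hsplit g hg]

theorem sz_cyclic_normal {G : Type u} [Group G] [Finite G] (H : Subgroup G) [H.Normal] (g u : G)
    (hcop : (orderOf g).Coprime (Nat.card H)) (hug : u⁻¹ * g ∈ H) (hu : u ^ orderOf g = 1) :
    ∃ x ∈ H, x * u * x⁻¹ = g := by
  have hgK : g ∈ zpowers g ⊔ H := mem_sup_left (mem_zpowers g)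
  have huK : u ∈ zpowers g ⊔ H := by
    have h1 : u = g * (u⁻¹ * g)⁻¹ := by group
    rw [h1]
    exact mul_mem hgK (mem_sup_right (inv_mem hug))
  have hdecomp : ∀ a ∈ zpowers g ⊔ H, ∃ i : ℤ, ∃ h ∈ H, g ^ i * h = a := by
    intro a ha
    obtain ⟨y, hy, z, hz, rfl⟩ := mem_sup_of_normal_right.mp ha
    obtain ⟨i, rfl⟩ := mem_zpowers_iff.mp hy
    exact ⟨i, z, hz, rfl⟩
  have hab : ∀ a b : ↥(zpowers g ⊔ H), a * b * a⁻¹ * b⁻¹ ∈ H.subgroupOf (zpowers g ⊔ H) := by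
    intro a b
    rw [mem_subgroupOf]
    obtain ⟨i, h₁, hh₁, ha⟩ := hdecomp a a.2
    obtain ⟨j, h₂, hh₂, hb⟩ := hdecomp b b.2
    show (a : G) * (b : G) * (a : G)⁻¹ * (b : G)⁻¹ ∈ H
    rw [← QuotientGroup.eq_one_iff, ← ha, ← hb]
    have e1 : (QuotientGroup.mk h₁ : G ⧸ H) = 1 := (QuotientGroup.eq_one_iff _).mpr hh₁
    have e2 : (QuotientGroup.mk h₂ : G ⧸ H) = 1 := (QuotientGroup.eq_one_iff _).mpr hh₂
    simp only [QuotientGroup.mk_mul, QuotientGroup.mk_inv, QuotientGroup.mk_zpow, e1, e2, mul_one]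
    group
  obtain ⟨x, hx⟩ := sz_cyclic_core (orderOf g) ↥(zpowers g ⊔ H) (H.subgroupOf _) hab ⟨g, hgK⟩
    ⟨u, huK⟩ (Subtype.ext (pow_orderOf_eq_one g)) (Subtype.ext hu)
    (Nat.Coprime.coprime_dvd_right (card_subgroupOf_dvd' H _) hcop)
    (mem_subgroupOf.mpr hug)
  have hx' : (x : G) * u * (x : G)⁻¹ = g := congrArg Subtype.val hx
  obtain ⟨i, h', hh', hxe⟩ := hdecomp x x.2
  refine ⟨h', hh', ?_⟩
  rw [← hxe] at hx'
  have h2 : h' * u * h'⁻¹ = (g ^ i)⁻¹ * (g ^ i * h' * u * (g ^ i * h')⁻¹) * g ^ i := by group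
  rw [h2, hx']
  group

/-- For `H` normal and `g` of order coprime to `|H|`, every element of the coset `H g` is
`H`-conjugate to `c g` with `c ∈ C_H(g)`. -/
theorem coset_conj {G : Type u} [Group G] [Finite G] (H : Subgroup G) [hHn : H.Normal] (g h : G)
    (hcop : (orderOf g).Coprime (Nat.card H)) (hh : h ∈ H) :
    ∃ x ∈ H, ∃ c ∈ H, c * g = g * c ∧ x * (h * g) * x⁻¹ = c * g := by
  have hqh : (QuotientGroup.mk (h * g) : G ⧸ H) = QuotientGroup.mk g := by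
    rw [QuotientGroup.mk_mul, (QuotientGroup.eq_one_iff h).mpr hh, one_mul]
  have hyn : (h * g) ^ orderOf g ∈ H := by
    rw [← QuotientGroup.eq_one_iff, QuotientGroup.mk_pow, hqh, ← QuotientGroup.mk_pow,
      pow_orderOf_eq_one]
    rfl
  have hynm : (h * g) ^ (orderOf g * Nat.card H) = 1 := by
    rw [pow_mul]
    have h1 := pow_card_eq_one' (G := H) (x := ⟨_, hyn⟩)
    exact congrArg Subtype.val h1
  obtain ⟨a, ha1, ha2⟩ := Nat.chineseRemainder hcop 1 0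
  obtain ⟨b, hb1, hb2⟩ := Nat.chineseRemainder hcop 0 1
  have hab : a + b ≡ 1 [MOD orderOf g * Nat.card H] := by
    apply (Nat.modEq_and_modEq_iff_modEq_mul hcop).mp
    exact ⟨by simpa using ha1.add hb1, by simpa using ha2.add hb2⟩
  have hsplit : (h * g) ^ a * (h * g) ^ b = h * g := by
    rw [← pow_add]
    have h1 : (h * g) ^ (a + b) = (h * g) ^ 1 :=
      pow_eq_pow_iff_modEq.mpr (Nat.ModEq.of_dvd (orderOf_dvd_of_pow_eq_one hynm) hab)
    rw [h1, pow_one]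
  have hga : g ^ a = g := by
    have h1 : g ^ a = g ^ 1 := pow_eq_pow_iff_modEq.mpr ha1
    rw [h1, pow_one]
  have hgb : g ^ b = 1 := by
    have h1 : g ^ b = g ^ 0 := pow_eq_pow_iff_modEq.mpr hb1
    rw [h1, pow_zero]
  have hu1 : ((h * g) ^ a)⁻¹ * g ∈ H := by
    rw [← QuotientGroup.eq, QuotientGroup.mk_pow, hqh, ← QuotientGroup.mk_pow, hga]
  have hu2 : ((h * g) ^ a) ^ orderOf g = 1 := by
    rw [← pow_mul]
    obtain ⟨c, hc⟩ := (Nat.modEq_zero_iff_dvd).mp ha2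
    rw [hc, mul_comm, ← mul_assoc, pow_mul, hynm, one_pow]
  have hv : (h * g) ^ b ∈ H := by
    rw [← QuotientGroup.eq_one_iff, QuotientGroup.mk_pow, hqh, ← QuotientGroup.mk_pow, hgb]
    rfl
  obtain ⟨x, hx, hxu⟩ := sz_cyclic_normal H g ((h * g) ^ a) hcop hu1 hu2
  have hc : (h * g) ^ b * (h * g) ^ a = (h * g) ^ a * (h * g) ^ b := by
    rw [← pow_add, ← pow_add, add_comm]
  have hcg' : x * (h * g) ^ b * x⁻¹ * (x * (h * g) ^ a * x⁻¹) =
      x * (h * g) ^ a * x⁻¹ * (x * (h * g) ^ b * x⁻¹) := by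
    calc x * (h * g) ^ b * x⁻¹ * (x * (h * g) ^ a * x⁻¹)
        = x * ((h * g) ^ b * (h * g) ^ a) * x⁻¹ := by group
      _ = x * ((h * g) ^ a * (h * g) ^ b) * x⁻¹ := by rw [hc]
      _ = x * (h * g) ^ a * x⁻¹ * (x * (h * g) ^ b * x⁻¹) := by group
  have hcg : x * (h * g) ^ b * x⁻¹ * g = g * (x * (h * g) ^ b * x⁻¹) := by
    rw [hxu] at hcg'
    exact hcg'
  refine ⟨x, hx, x * (h * g) ^ b * x⁻¹, hHn.conj_mem _ hv x, hcg, ?_⟩
  have h3 : x * (h * g) * x⁻¹ = x * (h * g) ^ a * x⁻¹ * (x * (h * g) ^ b * x⁻¹) := by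
    conv_lhs => rw [← hsplit]
    group
  rw [h3, hxu, hcg]

end Cfsg.Agent.Lib.Helper2
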