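import Cfsg.Agent.Lib.Helper2.ClassTwo
import Cfsg.Prelude.Def_Transfer

set_option autoImplicit false

namespace Cfsg.Agent.Lib.Helper2

open scoped commutatorElement

section

variable {P : Type*} [Group P]

/-- In a group of class at most two, `⁅y, x⁆ ^ n = 1` as soon as `y ^ n` is central. -/
theorem commutator_pow_eq_one_of_class_two_of_central
    (h2 : ⁅commutator P, (⊤ : Subgroup P)⁆ = ⊥) (x y : P) (n : ℕ)
    (hy : y ^ n ∈ Subgroup.center P) : ⁅y, x⁆ ^ n = 1 := by
  have hyx : y * x = ⁅y, x⁆ * x * y := by rw [commutatorElement_def]; group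
  have h1 := pow_mul_of_central x y ⁅y, x⁆ (commutator_central_of_class_two h2 y x) hyx n
  have h3 : y ^ n * x = x * y ^ n := ((Subgroup.mem_center_iff.mp hy) x).symm
  rw [h3, mul_assoc] at h1
  exact (mul_eq_right.mp h1.symm)

theorem class_two_of_special {p : ℕ} (h : Cfsg.IsSpecial p P) :
    ⁅commutator P, (⊤ : Subgroup P)⁆ = ⊥ := by
  rw [Subgroup.commutator_eq_bot_iff_le_centralizer, h.2.2]
  exact Subgroup.center_le_centralizer _

theorem pow_mem_center_of_special [Finite P] {p : ℕ} [Fact p.Prime] (h : Cfsg.IsSpecial p P)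
    (x : P) : x ^ p ∈ Subgroup.center P := by
  rw [← h.2.1]
  exact pow_mem_frattini_of_pGroup h.1 x

theorem commutator_pow_eq_one_of_special [Finite P] {p : ℕ} [Fact p.Prime]
    (h : Cfsg.IsSpecial p P) (x y : P) : ⁅y, x⁆ ^ p = 1 :=
  commutator_pow_eq_one_of_class_two_of_central (class_two_of_special h) x y p
    (pow_mem_center_of_special h y)

theorem center_pow_eq_one_of_special [Finite P] {p : ℕ} [Fact p.Prime]
    (h : Cfsg.IsSpecial p P) (z : P) (hz : z ∈ Subgroup.center P) : z ^ p = 1 := by
  rw [← h.2.2, commutator_eq_closure] at hz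
  have hcomm : ∀ a ∈ Subgroup.closure (commutatorSet P), ∀ b : P, Commute a b := by
    intro a ha b
    rw [← commutator_eq_closure, h.2.2] at ha
    exact ((Subgroup.mem_center_iff.mp ha) b).symm
  induction hz using Subgroup.closure_induction with
  | mem x hx =>
    obtain ⟨a, b, rfl⟩ := hx
    exact commutator_pow_eq_one_of_special h b a
  | one => exact one_pow p
  | mul a b ha _ iha ihb => rw [(hcomm a ha b).mul_pow, iha, ihb, one_mul]
  | inv a _ iha => rw [inv_pow, iha, inv_one]

end

end Cfsg.Agent.Lib.Helper2
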