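import Cfsg.Agent.Lib.Helper2.Mats2

set_option autoImplicit false

namespace Cfsg.Agent.Lib.Helper2.SymCox

open Cfsg.Agent.Lib.Helper2.Mats

variable {n : ℕ}

/-- adjacent transposition -/
def adj (j : Fin n) : Equiv.Perm (Fin (n + 1)) := Equiv.swap j.castSucc j.succ

/-- inversion number (of the inverse) -/
def invNum (w : Equiv.Perm (Fin (n + 1))) : ℕ :=
  ∑ p : Fin (n + 1) × Fin (n + 1), if p.1 < p.2 ∧ w⁻¹ p.2 < w⁻¹ p.1 then 1 else 0

theorem adj_castSucc (j : Fin n) : adj j j.castSucc = j.succ := Equiv.swap_apply_left _ _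

theorem adj_succ (j : Fin n) : adj j j.succ = j.castSucc := Equiv.swap_apply_right _ _

theorem adj_mul_self (j : Fin n) : adj j * adj j = 1 := Equiv.swap_mul_self _ _

theorem adj_inv (j : Fin n) : (adj j)⁻¹ = adj j := Equiv.swap_inv _ _

theorem adj_adj (j : Fin n) (x : Fin (n + 1)) : adj j (adj j x) = x := Equiv.swap_apply_self _ _ _

theorem cs_lt (j : Fin n) : j.castSucc < j.succ := by
  rw [Fin.lt_def]; simp

theorem adj_lt_iff (j : Fin n) (c d : Fin (n + 1)) (h1 : ¬ (c = j.castSucc ∧ d = j.succ))
    (h2 : ¬ (c = j.succ ∧ d = j.castSucc)) : adj j c < adj j d ↔ c < d := by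
  unfold adj
  rw [Equiv.swap_apply_def, Equiv.swap_apply_def]
  have e1 : ∀ x : Fin (n + 1), x = j.castSucc ↔ x.val = j.val := fun x => by
    rw [Fin.ext_iff]; simp
  have e2 : ∀ x : Fin (n + 1), x = j.succ ↔ x.val = j.val + 1 := fun x => by
    rw [Fin.ext_iff]; simp
  rw [e1, e2] at h1 h2
  simp only [e1, e2]
  split_ifs with a1 a2 a3 a4 a5 a6 <;> simp only [Fin.lt_def, Fin.val_castSucc, Fin.val_succ] <;>
    omega

theorem invNum_one : invNum (1 : Equiv.Perm (Fin (n + 1))) = 0 := by
  unfold invNum
  apply Finset.sum_eq_zero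
  intro p _
  rw [if_neg]
  rintro ⟨h1, h2⟩
  simp only [inv_one, Equiv.Perm.one_apply] at h2
  exact lt_asymm h1 h2

theorem inv_adj_mul_apply (j : Fin n) (w : Equiv.Perm (Fin (n + 1))) (x : Fin (n + 1)) :
    (adj j * w)⁻¹ x = w⁻¹ (adj j x) := by
  rw [mul_inv_rev, adj_inv]; rfl

theorem invNum_adj_mul_of_lt (j : Fin n) (w : Equiv.Perm (Fin (n + 1)))
    (h : w⁻¹ j.castSucc < w⁻¹ j.succ) : invNum (adj j * w) = invNum w + 1 := by
  unfold invNum
  simp only [inv_adj_mul_apply]
  rw [← Equiv.sum_comp (Equiv.prodCongr (adj j) (adj j))]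
  simp only [Equiv.prodCongr_apply, Prod.map_fst, Prod.map_snd, adj_adj]
  have key : ∀ p : Fin (n + 1) × Fin (n + 1),
      (if adj j p.1 < adj j p.2 ∧ w⁻¹ p.2 < w⁻¹ p.1 then 1 else 0) =
      (if p.1 < p.2 ∧ w⁻¹ p.2 < w⁻¹ p.1 then 1 else 0) +
        (if p = (j.succ, j.castSucc) then 1 else 0) := by
    rintro ⟨c, d⟩
    by_cases h1 : c = j.castSucc ∧ d = j.succ
    · obtain ⟨rfl, rfl⟩ := h1
      have hne : ¬ ((j.castSucc, j.succ) = (j.succ, j.castSucc)) := by
        intro hh
        exact (cs_lt j).ne (congrArg Prod.fst hh)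
      rw [if_neg, if_neg, if_neg hne]
      · rintro ⟨_, h3⟩; exact lt_asymm h h3
      · rintro ⟨h3, _⟩
        rw [adj_castSucc, adj_succ] at h3
        exact lt_asymm (cs_lt j) h3
    · by_cases h2 : c = j.succ ∧ d = j.castSucc
      · obtain ⟨rfl, rfl⟩ := h2
        rw [if_pos, if_neg, if_pos rfl]
        · rintro ⟨h3, _⟩; exact lt_asymm (cs_lt j) h3
        · rw [adj_castSucc, adj_succ]; exact ⟨cs_lt j, h⟩
      · have hne : ¬ ((c, d) = (j.succ, j.castSucc)) := by
          intro hh
          exact h2 ⟨congrArg Prod.fst hh, congrArg Prod.snd hh⟩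
        rw [if_neg hne, add_zero]
        simp only [adj_lt_iff j c d h1 h2]
  rw [Finset.sum_congr rfl (fun p _ => key p), Finset.sum_add_distrib, Finset.sum_ite_eq']
  simp

theorem invNum_adj_mul_of_gt (j : Fin n) (w : Equiv.Perm (Fin (n + 1)))
    (h : w⁻¹ j.succ < w⁻¹ j.castSucc) : invNum (adj j * w) + 1 = invNum w := by
  have h' := invNum_adj_mul_of_lt j (adj j * w) (by
    rw [inv_adj_mul_apply, inv_adj_mul_apply, adj_castSucc, adj_succ]; exact h)
  rw [← mul_assoc, adj_mul_self, one_mul] at h'
  omega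

theorem inv_cs_ne (j : Fin n) (w : Equiv.Perm (Fin (n + 1))) : w⁻¹ j.castSucc ≠ w⁻¹ j.succ :=
  fun h => (cs_lt j).ne ((w⁻¹).injective h)

theorem invNum_adj_mul_le (j : Fin n) (w : Equiv.Perm (Fin (n + 1))) :
    invNum (adj j * w) ≤ invNum w + 1 := by
  rcases lt_trichotomy (w⁻¹ j.castSucc) (w⁻¹ j.succ) with h | h | h
  · exact (invNum_adj_mul_of_lt j w h).le
  · exact absurd h (inv_cs_ne j w)
  · have := invNum_adj_mul_of_gt j w h
    omega

theorem strong_exchange (j : Fin n) : ∀ L : List (Fin n),
    ((L.map adj).prod)⁻¹ j.succ < ((L.map adj).prod)⁻¹ j.castSucc →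
    ∃ L1 s' L2, L = L1 ++ s' :: L2 ∧ adj j * (L.map adj).prod = ((L1 ++ L2).map adj).prod := by
  intro L
  induction L using List.reverseRecOn with
  | nil =>
    intro h
    simp only [List.map_nil, List.prod_nil, inv_one, Equiv.Perm.one_apply] at h
    exact absurd h (lt_asymm (cs_lt j))
  | append_singleton L' i ih =>
    intro h
    have hp : ((L' ++ [i]).map adj).prod = (L'.map adj).prod * adj i := by
      rw [List.map_append, List.prod_append]; simp
    rw [hp] at h ⊢
    rw [mul_inv_rev, adj_inv] at h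
    set v := (L'.map adj).prod with hv
    have h' : adj i (v⁻¹ j.succ) < adj i (v⁻¹ j.castSucc) := h
    by_cases hcase : v⁻¹ j.succ < v⁻¹ j.castSucc
    · obtain ⟨L1, s', L2, hdec, hex⟩ := ih hcase
      refine ⟨L1, s', L2 ++ [i], by rw [hdec]; simp, ?_⟩
      rw [← mul_assoc, hex]
      rw [← List.append_assoc, List.map_append, List.prod_append]; simp [mul_assoc]
    · have hcd : (v⁻¹ j.succ = i.castSucc ∧ v⁻¹ j.castSucc = i.succ) ∨
          (v⁻¹ j.succ = i.succ ∧ v⁻¹ j.castSucc = i.castSucc) := by
        by_contra hcon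
        push Not at hcon
        have := (adj_lt_iff i (v⁻¹ j.succ) (v⁻¹ j.castSucc)
          (fun hh => hcon.1 hh.1 hh.2) (fun hh => hcon.2 hh.1 hh.2)).mp h'
        exact hcase this
      have hgt : v⁻¹ j.castSucc < v⁻¹ j.succ := by
        rcases lt_trichotomy (v⁻¹ j.castSucc) (v⁻¹ j.succ) with h1 | h1 | h1
        · exact h1
        · exact absurd h1 (inv_cs_ne j v)
        · exact absurd h1 hcase
      have hcd' : v⁻¹ j.succ = i.succ ∧ v⁻¹ j.castSucc = i.castSucc := by
        rcases hcd with ⟨h1, h2⟩ | h12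
        · rw [h1, h2] at hgt
          exact absurd hgt (lt_asymm (cs_lt i))
        · exact h12
      have e1 : v i.succ = j.succ := by rw [← hcd'.1]; simp
      have e2 : v i.castSucc = j.castSucc := by rw [← hcd'.2]; simp
      have hcomm : v * adj i = adj j * v := by
        unfold adj
        rw [Equiv.mul_swap_eq_swap_mul, e1, e2]
      refine ⟨L', i, [], rfl, ?_⟩
      rw [List.append_nil, ← mul_assoc, ← hcomm, mul_assoc, adj_mul_self, mul_one]

theorem sym_exsys : ExSys (adj (n := n)) invNum where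
  inv := adj_mul_self
  le := by
    intro L
    induction L with
    | nil => simp [invNum_one]
    | cons i L ih =>
      rw [List.map_cons, List.prod_cons, List.length_cons]
      have := invNum_adj_mul_le i (L.map adj).prod
      omega
  ex := by
    intro w
    induction hk : invNum w using Nat.strong_induction_on generalizing w with
    | _ k IH =>
    by_cases hall : ∀ j : Fin n, w⁻¹ j.castSucc < w⁻¹ j.succ
    · have hmono : StrictMono (fun x : Fin (n + 1) => w⁻¹ x) :=
        Fin.strictMono_iff_lt_succ.mpr hall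
      have hid : ∀ x, w⁻¹ x = x := fun x => le_antisymm hmono.apply_le hmono.le_apply
      have hw : w = 1 := by
        have : w⁻¹ = 1 := Equiv.ext hid
        simpa using this
      subst hw
      refine ⟨[], by simp, ?_⟩
      rw [← hk, invNum_one]; rfl
    · push Not at hall
      obtain ⟨j, hj⟩ := hall
      have hgt : w⁻¹ j.succ < w⁻¹ j.castSucc := lt_of_le_of_ne hj (inv_cs_ne j w).symm
      have hlen := invNum_adj_mul_of_gt j w hgt
      obtain ⟨L', hL', hlen'⟩ := IH (invNum (adj j * w)) (by omega) (adj j * w) rfl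
      refine ⟨j :: L', ?_, ?_⟩
      · rw [List.map_cons, List.prod_cons, hL', ← mul_assoc, adj_mul_self, one_mul]
      · rw [List.length_cons, hlen']; omega
  exch := by
    intro L _ j hle
    apply strong_exchange j L
    rcases lt_trichotomy (((L.map adj).prod)⁻¹ j.castSucc) (((L.map adj).prod)⁻¹ j.succ)
      with h | h | h
    · have := invNum_adj_mul_of_lt j _ h
      omega
    · exact absurd h (inv_cs_ne j _)
    · exact h

theorem fin_ne_of_val_ne {m : ℕ} {a b : Fin m} (h : a.val ≠ b.val) : a ≠ b :=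
  fun hh => h (congrArg Fin.val hh)

theorem adj_orders (s t : Fin n) :
    (adj s * adj t) ^ (CoxeterMatrix.A n) s t = 1 ∧
      (CoxeterMatrix.A n) s t ∣ orderOf (adj s * adj t) := by
  have hM : (CoxeterMatrix.A n) s t =
      if s = t then 1 else (if (t : ℕ) + 1 = s ∨ (s : ℕ) + 1 = t then 3 else 2) := rfl
  rw [hM]
  by_cases hst : s = t
  · subst hst
    rw [if_pos rfl, pow_one, adj_mul_self]
    exact ⟨rfl, one_dvd _⟩
  · rw [if_neg hst]
    have hst' : s.val ≠ t.val := fun h => hst (Fin.ext h)
    by_cases hadj : (t : ℕ) + 1 = s ∨ (s : ℕ) + 1 = t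
    · rw [if_pos hadj]
      have h3 : orderOf (adj s * adj t) = 3 := by
        apply Equiv.Perm.IsThreeCycle.orderOf
        rcases hadj with h | h
        · have e : s.castSucc = t.succ := Fin.ext (by simp; omega)
          unfold adj
          rw [e, Equiv.swap_comm t.castSucc t.succ]
          apply Equiv.Perm.isThreeCycle_swap_mul_swap_same
          · apply fin_ne_of_val_ne; simp; omega
          · apply fin_ne_of_val_ne; simp
          · apply fin_ne_of_val_ne; simp; omega
        · have e : t.castSucc = s.succ := Fin.ext (by simp; omega)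
          unfold adj
          rw [e, Equiv.swap_comm s.castSucc s.succ]
          apply Equiv.Perm.isThreeCycle_swap_mul_swap_same
          · apply fin_ne_of_val_ne; simp
          · apply fin_ne_of_val_ne; simp; omega
          · apply fin_ne_of_val_ne; simp; omega
      refine ⟨?_, by rw [h3]⟩
      rw [← h3]; exact pow_orderOf_eq_one _
    · rw [if_neg hadj]
      push Not at hadj
      have hdisj : Equiv.Perm.Disjoint (adj s) (adj t) := by
        unfold adj
        apply Equiv.Perm.disjoint_swap_swap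
        simp only [List.nodup_cons, List.mem_cons, List.not_mem_nil, or_false, not_or,
          List.nodup_nil, and_true, not_false_eq_true]
        refine ⟨⟨?_, ?_, ?_⟩, ⟨?_, ?_⟩, ?_⟩ <;> apply fin_ne_of_val_ne <;> simp <;> omega
      have hcomm : adj s * adj t = adj t * adj s := hdisj.commute.eq
      have h2 : (adj s * adj t) ^ 2 = 1 := by
        rw [pow_two]
        calc adj s * adj t * (adj s * adj t) = adj s * adj t * (adj t * adj s) := by rw [hcomm]
          _ = adj s * (adj t * adj t) * adj s := by group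
          _ = 1 := by rw [adj_mul_self, mul_one, adj_mul_self]
      refine ⟨h2, ?_⟩
      have hne : adj s * adj t ≠ 1 := by
        intro h1
        have h4 : (adj s * adj t) s.castSucc = s.castSucc := by rw [h1]; rfl
        rw [Equiv.Perm.mul_apply] at h4
        have h5 : adj t s.castSucc = s.castSucc := by
          unfold adj
          apply Equiv.swap_apply_of_ne_of_ne <;> apply fin_ne_of_val_ne <;> simp <;> omega
        rw [h5, adj_castSucc] at h4
        exact (cs_lt s).ne h4.symm
      have hd : orderOf (adj s * adj t) ∣ 2 := orderOf_dvd_of_pow_eq_one h2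
      rcases (Nat.dvd_prime Nat.prime_two).mp hd with h1 | h1
      · exact absurd (orderOf_eq_one_iff.mp h1) hne
      · rw [h1]

/-- The symmetric group is the Coxeter group of type `A`. -/
theorem sym_coxeter (n : ℕ) :
    ∃ cs : CoxeterSystem (CoxeterMatrix.A n) (Equiv.Perm (Fin (n + 1))),
      ∀ i : Fin n, cs.simple i = Equiv.swap i.castSucc i.succ :=
  (sym_exsys (n := n)).coxeter (CoxeterMatrix.A n) (fun s t => (adj_orders s t).1)
    (fun s t => (adj_orders s t).2)

end Cfsg.Agent.Lib.Helper2.SymCox
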