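import Mathlib
import Cfsg.Prelude.Def_LieExceptional
import Cfsg.Prelude.Def_Transfer
import Cfsg.Agent.Lib.Helper2.Sz16

set_option autoImplicit false

namespace Cfsg.Agent.Lib.Helper2.SzL

open Matrix
open scoped LinearAlgebra.Projectivization Pointwise commutatorElement IsMulCommutative

section TI

variable {F : Type*} [Field F] [Fintype F] {m : ℕ}

theorem sS0_mul (hF : Fintype.card F = 2 ^ (2 * m + 1)) (b d : F) :
    sS m 0 b * sS m 0 d = sS m 0 (b + d) := by
  rw [sS_mul hF]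
  congr 1
  · rw [add_zero]
  · rw [mul_zero, add_zero]

theorem sT_sS0_conj (hF : Fintype.card F = 2 ^ (2 * m + 1)) (t : Fˣ) (b : F) :
    sT m t * sS m 0 b * (sT m t)⁻¹ = sS m 0 (th m (t : F) * (t : F) ^ 2 * b) := by
  rw [sT_sS_conj hF, mul_zero]

theorem conj_sS0 (hF : Fintype.card F = 2 ^ (2 * m + 1)) (e f : F) (t : Fˣ) (b : F) :
    (sS m e f * sT m t) * sS m 0 b * (sS m e f * sT m t)⁻¹ =
      sS m 0 (th m (t : F) * (t : F) ^ 2 * b) := by
  rw [conj_formula hF]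
  congr 1
  · rw [mul_zero]
  · rw [mul_zero, th_zero, mul_zero, zero_mul, add_zero, add_zero]

theorem lam_surj (hF : Fintype.card F = 2 ^ (2 * m + 1)) (μ : Fˣ) :
    ∃ t : Fˣ, th m (t : F) * (t : F) ^ 2 = (μ : F) := by
  obtain ⟨c, hc⟩ := th_surj (m := m) hF (μ : F)
  obtain ⟨k, hk⟩ := thmul_surj (m := m) hF c
  have hk0 : k ≠ 0 := by
    rintro rfl
    rw [th_zero, zero_mul] at hk
    rw [← hk, th_zero] at hc
    exact μ.ne_zero hc.symm
  refine ⟨Units.mk0 k hk0, ?_⟩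
  rw [Units.val_mk0, ← hc, ← hk, th_mul, th_th hF]
  ring

theorem pow_dvd_arith (n k : ℕ) (h : 2 ^ n - 1 ∣ 2 ^ k - 1) : n ∣ k := by
  have h1 : Nat.gcd (2 ^ n - 1) (2 ^ k - 1) = 2 ^ n - 1 := Nat.gcd_eq_left h
  rw [Nat.pow_sub_one_gcd_pow_sub_one] at h1
  have h2 : 2 ^ Nat.gcd n k = 2 ^ n := by
    have a1 : 1 ≤ 2 ^ Nat.gcd n k := Nat.one_le_two_pow
    have a2 : 1 ≤ 2 ^ n := Nat.one_le_two_pow
    omega
  have h3 : Nat.gcd n k = n := Nat.pow_right_injective (le_refl 2) h2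
  rw [← h3]
  exact Nat.gcd_dvd_right n k

theorem ti_forward (hm : 1 ≤ m) (hF : Fintype.card F = 2 ^ (2 * m + 1)) (n : ℕ) (hn : 2 ≤ n)
    (E : Subgroup ↥(Cfsg.Sz F m)) (hE : Cfsg.IsElementaryAbelian 2 E)
    (hcard : Nat.card ↥E = 2 ^ n)
    (hTI : ∀ x : ↥(Cfsg.Sz F m), E ⊓ E.map (MulAut.conj x).toMonoidHom ≠ ⊥ →
      x ∈ Subgroup.normalizer (E : Set ↥(Cfsg.Sz F m))) :
    n ∣ 2 * m + 1 := by
  haveI : Fact (Nat.Prime 2) := ⟨Nat.prime_two⟩
  have h2 := two_eq_zero hF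
  have hp : IsPGroup 2 E := IsPGroup.of_card hcard
  obtain ⟨P, hP⟩ := hp.exists_le_sylow
  obtain ⟨g, hg⟩ := MulAction.exists_smul_eq (Cfsg.Sz F m) (QSyl hm hF) P
  set β : F → Cfsg.Sz F m := fun b => g * (qS hF 0 b).1 * g⁻¹ with hβ
  have hq0 : ∀ b d : F, qS (m := m) hF 0 (b + d) = qS hF 0 b * qS hF 0 d := by
    intro b d
    rw [qS_mul]
    congr 1
    · rw [add_zero]
    · rw [mul_zero, add_zero]
  have hβmul : ∀ b d, β (b + d) = β b * β d := by
    intro b d
    simp only [hβ]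
    rw [hq0, Subgroup.coe_mul]
    group
  have hβinj : ∀ b d, β b = β d → b = d := by
    intro b d h
    simp only [hβ] at h
    have h1 : (qS (m := m) hF 0 b).1 = (qS hF 0 d).1 := by
      have := congrArg (fun z => g⁻¹ * z * g) h
      simpa [mul_assoc] using this
    exact (qS_inj hF (Subtype.ext h1)).2
  have hβ0 : β 0 = 1 := by
    simp only [hβ]
    rw [qS_zero]
    simp
  have hEβ : ∀ y ∈ E, ∃ b, y = β b := by
    intro y hy
    have h1 : g⁻¹ * y * g ∈ (QSyl hm hF : Subgroup (Cfsg.Sz F m)) :=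
      (conj_mem_of_smul (QSyl hm hF) P g hg y).mp (hP hy)
    rw [QSyl_coe] at h1
    obtain ⟨a, b, hab⟩ := h1
    have hy2 : y ^ 2 = 1 := hE.2 y hy
    have h3 : (g⁻¹ * y * g) * (g⁻¹ * y * g) = 1 := by
      have : (g⁻¹ * y * g) * (g⁻¹ * y * g) = g⁻¹ * y ^ 2 * g := by rw [pow_two]; group
      rw [this, hy2]; group
    have h4 : sS m a b * sS m a b = 1 := by
      rw [← hab, ← Subgroup.coe_mul, h3]; rfl
    rw [sS_mul hF, ← sS_zero (m := m)] at h4
    obtain ⟨-, h5⟩ := sS_inj h4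
    have h6 : th m a * a = 0 := by
      have := add_self hF b
      linear_combination h5 - this
    have ha : a = 0 := by
      rcases mul_eq_zero.mp h6 with h | h
      · exact th_eq_zero.mp h
      · exact h
    subst ha
    refine ⟨b, ?_⟩
    simp only [hβ]
    have h7 : g⁻¹ * y * g = (qS (m := m) hF 0 b).1 := Subtype.ext hab
    rw [← h7]; group
  -- key consequence of the TI property
  have key : ∀ t : Fˣ, ∀ a, β a ∈ E → a ≠ 0 → β (th m (t : F) * (t : F) ^ 2 * a) ∈ E →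
      ∀ b, β b ∈ E ↔ β (th m (t : F) * (t : F) ^ 2 * b) ∈ E := by
    intro t a ha ha0 hla
    set x : Cfsg.Sz F m := g * torusHom hF t * g⁻¹ with hx
    have hconj : ∀ b, x * β b * x⁻¹ = β (th m (t : F) * (t : F) ^ 2 * b) := by
      intro b
      have h1 : torusHom hF t * (qS (m := m) hF 0 b).1 * (torusHom hF t)⁻¹ =
          (qS hF 0 (th m (t : F) * (t : F) ^ 2 * b)).1 := by
        apply Subtype.ext
        show sT m t * sS m 0 b * (sT m t)⁻¹ = sS m 0 _
        exact sT_sS0_conj hF t b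
      simp only [hβ, hx]
      rw [← h1]; group
    have hx' : x ∈ Subgroup.normalizer (E : Set (Cfsg.Sz F m)) := by
      apply hTI
      intro hbot
      have hmem : β (th m (t : F) * (t : F) ^ 2 * a) ∈ E ⊓ E.map (MulAut.conj x).toMonoidHom := by
        refine Subgroup.mem_inf.mpr ⟨hla, Subgroup.mem_map.mpr ⟨β a, ha, ?_⟩⟩
        rw [← hconj a]
        rfl
      rw [hbot, Subgroup.mem_bot, ← hβ0] at hmem
      have h0 := hβinj _ _ hmem
      have ht0 : (t : F) ≠ 0 := t.ne_zero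
      have hth0 : th m (t : F) ≠ 0 := fun h => ht0 (th_eq_zero.mp h)
      have : th m (t : F) * (t : F) ^ 2 ≠ 0 := mul_ne_zero hth0 (pow_ne_zero 2 ht0)
      rcases mul_eq_zero.mp h0 with h | h
      · exact this h
      · exact ha0 h
    intro b
    rw [← hconj b]
    exact (Subgroup.mem_normalizer_iff.mp hx') (β b)
  -- the multiplier subgroup
  let S : Subgroup Fˣ :=
    { carrier := {u | ∀ b, β b ∈ E ↔ β ((u : F) * b) ∈ E}
      one_mem' := by intro b; simp
      mul_mem' := by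
        intro u v hu hv b
        rw [hv b, hu ((v : F) * b), Units.val_mul, mul_assoc]
      inv_mem' := by
        intro u hu b
        rw [hu (((u⁻¹ : Fˣ) : F) * b), ← mul_assoc, ← Units.val_mul, mul_inv_cancel,
          Units.val_one, one_mul] }
  -- the set A
  set A : Set F := {b | β b ∈ E} with hA
  have hAcard : A.ncard = 2 ^ n := by
    have himg : β '' A = (E : Set (Cfsg.Sz F m)) := by
      ext y
      constructor
      · rintro ⟨b, hb, rfl⟩
        exact hb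
      · intro hy
        obtain ⟨b, rfl⟩ := hEβ y hy
        exact ⟨b, hy, rfl⟩
    have hinj : Function.Injective β := fun b d h => hβinj b d h
    rw [← Set.ncard_image_of_injective A hinj, himg, ← hcard]
    exact (Nat.card_coe_set_eq (E : Set (Cfsg.Sz F m))).symm
  have h0A : (0 : F) ∈ A := by
    show β 0 ∈ E
    rw [hβ0]; exact E.one_mem
  -- a nonzero element
  have hex : ∃ a₀ ∈ A, a₀ ≠ 0 := by
    by_contra hcon
    push Not at hcon
    have hsub : A ⊆ {0} := fun a ha => hcon a ha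
    have hle := Set.ncard_le_ncard hsub (Set.finite_singleton 0)
    rw [hAcard, Set.ncard_singleton] at hle
    have : 2 ^ 2 ≤ 2 ^ n := Nat.pow_le_pow_right (by norm_num) hn
    omega
  obtain ⟨a₀, ha₀, ha₀0⟩ := hex
  have hScard : Nat.card S = 2 ^ n - 1 := by
    let f : S → F := fun u => ((u : Fˣ) : F) * a₀
    have hfinj : Function.Injective f := by
      intro u v huv
      have : ((u : Fˣ) : F) = ((v : Fˣ) : F) := mul_right_cancel₀ ha₀0 huv
      exact Subtype.ext (Units.ext this)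
    have hrange : Set.range f = A \ {0} := by
      ext a
      constructor
      · rintro ⟨u, rfl⟩
        refine ⟨(u.2 a₀).mp ha₀, ?_⟩
        simp only [Set.mem_singleton_iff]
        exact mul_ne_zero (Units.ne_zero _) ha₀0
      · rintro ⟨haA, ha0⟩
        simp only [Set.mem_singleton_iff] at ha0
        have hμ0 : a / a₀ ≠ 0 := div_ne_zero ha0 ha₀0
        obtain ⟨t, ht⟩ := lam_surj (m := m) hF (Units.mk0 (a / a₀) hμ0)
        rw [Units.val_mk0] at ht
        have hla : β (th m (t : F) * (t : F) ^ 2 * a₀) ∈ E := by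
          rw [ht, div_mul_cancel₀ a ha₀0]; exact haA
        have hk := key t a₀ ha₀ ha₀0 hla
        rw [ht] at hk
        refine ⟨⟨Units.mk0 (a / a₀) hμ0, ?_⟩, ?_⟩
        · intro b
          rw [Units.val_mk0]
          exact hk b
        · show ((Units.mk0 (a / a₀) hμ0 : Fˣ) : F) * a₀ = a
          rw [Units.val_mk0, div_mul_cancel₀ a ha₀0]
    rw [← Nat.card_range_of_injective hfinj, Nat.card_coe_set_eq, hrange,
      Set.ncard_diff_singleton_of_mem h0A, hAcard]
  have hdvd : Nat.card S ∣ Nat.card Fˣ := Subgroup.card_subgroup_dvd_card S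
  rw [hScard, Nat.card_units, Nat.card_eq_fintype_card, hF] at hdvd
  exact pow_dvd_arith n (2 * m + 1) hdvd

theorem ti_backward (hm : 1 ≤ m) (hF : Fintype.card F = 2 ^ (2 * m + 1)) (n : ℕ) (hn : 2 ≤ n)
    (hdvd : n ∣ 2 * m + 1) :
    ∃ E : Subgroup ↥(Cfsg.Sz F m), Cfsg.IsElementaryAbelian 2 E ∧ Nat.card ↥E = 2 ^ n ∧
      ∀ x : ↥(Cfsg.Sz F m), E ⊓ E.map (MulAut.conj x).toMonoidHom ≠ ⊥ →
        x ∈ Subgroup.normalizer (E : Set ↥(Cfsg.Sz F m)) := by
  haveI : Fact (Nat.Prime 2) := ⟨Nat.prime_two⟩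
  haveI : CharP F 2 := CharTwo.of_one_ne_zero_of_two_eq_zero one_ne_zero (two_eq_zero hF)
  letI : Algebra (ZMod 2) F := ZMod.algebra F 2
  have hn0 : n ≠ 0 := by omega
  have hfr : Module.finrank (ZMod 2) F = 2 * m + 1 := by
    have := FiniteField.pow_finrank_eq_card 2 F
    rw [hF] at this
    exact Nat.pow_right_injective (le_refl 2) this
  have hfr2 : Module.finrank (ZMod 2) (GaloisField 2 n) = n := GaloisField.finrank 2 hn0
  obtain ⟨φ⟩ := FiniteField.nonempty_algHom_of_finrank_dvd (F := ZMod 2) (K := GaloisField 2 n)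
    (L := F) (by rw [hfr, hfr2]; exact hdvd)
  have hφinj : Function.Injective φ := φ.injective
  let E : Subgroup (Cfsg.Sz F m) :=
    { carrier := {y | ∃ k : GaloisField 2 n, (y : SpecialLinearGroup (Fin 4) F) = sS m 0 (φ k)}
      one_mem' := ⟨0, by rw [map_zero, sS_zero]; rfl⟩
      mul_mem' := by
        rintro y z ⟨k, hk⟩ ⟨l, hl⟩
        exact ⟨k + l, by rw [Subgroup.coe_mul, hk, hl, sS0_mul hF, map_add]⟩
      inv_mem' := by
        rintro y ⟨k, hk⟩
        refine ⟨k, ?_⟩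
        rw [Subgroup.coe_inv, hk, sS_inv hF]
        congr 1
        rw [th_zero, zero_mul, add_zero] }
  have hEmem : ∀ y : Cfsg.Sz F m, y ∈ E ↔
      ∃ k : GaloisField 2 n, (y : SpecialLinearGroup (Fin 4) F) = sS m 0 (φ k) := fun y => Iff.rfl
  refine ⟨E, ⟨⟨⟨?_⟩⟩, ?_⟩, ?_, ?_⟩
  · rintro ⟨y, k, hk⟩ ⟨z, l, hl⟩
    apply Subtype.ext
    apply Subtype.ext
    show (y : SpecialLinearGroup (Fin 4) F) * z = z * y
    rw [hk, hl, sS0_mul hF, sS0_mul hF, add_comm]
  · rintro y ⟨k, hk⟩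
    apply Subtype.ext
    show (y : SpecialLinearGroup (Fin 4) F) ^ 2 = 1
    rw [pow_two, hk, sS0_mul hF, add_self hF, sS_zero]
  · have hbij : Function.Bijective (fun k : GaloisField 2 n =>
        (⟨⟨sS m 0 (φ k), sS_mem hF _ _⟩, k, rfl⟩ : E)) := by
      constructor
      · intro k l h
        have h1 : sS m 0 (φ k) = sS m 0 (φ l) :=
          congrArg (fun y : E => ((y : Cfsg.Sz F m) : SpecialLinearGroup (Fin 4) F)) h
        exact hφinj (sS_inj h1).2
      · rintro ⟨y, k, hk⟩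
        exact ⟨k, Subtype.ext (Subtype.ext hk.symm)⟩
    rw [← Nat.card_eq_of_bijective _ hbij, GaloisField.card 2 n hn0]
  · intro x hx
    obtain ⟨⟨y, hy⟩, hy1⟩ := (Subgroup.ne_bot_iff_exists_ne_one).mp hx
    have hy1' : y ≠ 1 := fun h => hy1 (Subtype.ext h)
    obtain ⟨⟨k, hk⟩, hy2⟩ := Subgroup.mem_inf.mp hy
    obtain ⟨z, ⟨l, hl⟩, hz⟩ := Subgroup.mem_map.mp hy2
    have hzy : (x : SpecialLinearGroup (Fin 4) F) * sS m 0 (φ l) *
        (x : SpecialLinearGroup (Fin 4) F)⁻¹ = sS m 0 (φ k) := by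
      rw [← hl, ← hk, ← hz]; rfl
    have hl0 : φ l ≠ 0 := by
      intro h0
      rw [h0, sS_zero, mul_one, mul_inv_cancel] at hzy
      apply hy1'
      apply Subtype.ext
      rw [hk, ← hzy]; rfl
    have hfix := conj_sS_fix_inf hF (fun hh => hl0 hh.2) x.1 x.2 hzy
    obtain ⟨e, f, t, hxe⟩ := fix_inf hm hF x.1 x.2 hfix
    have hconj : ∀ b : F, (x : SpecialLinearGroup (Fin 4) F) * sS m 0 b *
        (x : SpecialLinearGroup (Fin 4) F)⁻¹ = sS m 0 (th m (t : F) * (t : F) ^ 2 * b) := by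
      intro b
      rw [hxe]; exact conj_sS0 hF e f t b
    rw [hconj] at hzy
    have hlam := (sS_inj hzy).2
    have hlam' : th m (t : F) * (t : F) ^ 2 = φ (k * l⁻¹) := by
      rw [map_mul, map_inv₀, ← hlam, mul_assoc, mul_inv_cancel₀ hl0, mul_one]
    have ht0 : (t : F) ≠ 0 := t.ne_zero
    have hth0 : th m (t : F) ≠ 0 := fun h => ht0 (th_eq_zero.mp h)
    have hκ0 : k * l⁻¹ ≠ 0 := by
      intro h0
      rw [h0, map_zero] at hlam'
      exact mul_ne_zero hth0 (pow_ne_zero 2 ht0) hlam'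
    rw [Subgroup.mem_normalizer_iff]
    intro h
    constructor
    · rintro ⟨j, hj⟩
      refine ⟨k * l⁻¹ * j, ?_⟩
      rw [Subgroup.coe_mul, Subgroup.coe_mul, Subgroup.coe_inv, hj, hconj, hlam', ← map_mul]
    · rintro ⟨j, hj⟩
      refine ⟨(k * l⁻¹)⁻¹ * j, ?_⟩
      rw [Subgroup.coe_mul, Subgroup.coe_mul, Subgroup.coe_inv] at hj
      have h1 := hconj (φ ((k * l⁻¹)⁻¹ * j))
      rw [hlam', ← map_mul, ← mul_assoc, mul_inv_cancel₀ hκ0, one_mul, ← hj] at h1
      have h2 : (x : SpecialLinearGroup (Fin 4) F) * sS m 0 (φ ((k * l⁻¹)⁻¹ * j)) =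
          (x : SpecialLinearGroup (Fin 4) F) * (h : SpecialLinearGroup (Fin 4) F) :=
        mul_right_cancel h1
      exact (mul_left_cancel h2).symm

end TI

end Cfsg.Agent.Lib.Helper2.SzL
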