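import Mathlib
import Cfsg.Prelude.Def_LieExceptional
import Cfsg.Agent.Lib.Helper2.Sz18

set_option autoImplicit false

namespace Cfsg.Agent.Lib.Helper2.SzL

open Matrix
open scoped LinearAlgebra.Projectivization Pointwise commutatorElement IsMulCommutative

section FieldAut

variable {F : Type*} [Field F] [Fintype F] {m : ℕ}

theorem map_th (σ : F ≃+* F) (x : F) : σ (th m x) = th m (σ x) := by
  unfold th; rw [map_pow]

theorem map_fS (σ : F ≃+* F) (x y : F) : σ (fS m x y) = fS m (σ x) (σ y) := by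
  unfold fS; simp only [map_add, map_mul, map_pow]

theorem map_sS (σ : F ≃+* F) (a b : F) :
    Matrix.SpecialLinearGroup.map (σ : F →+* F) (sS m a b) = sS m (σ a) (σ b) := by
  apply Subtype.ext
  show (σ : F →+* F).mapMatrix (mS m a b) = mS m (σ a) (σ b)
  ext i j
  rw [RingHom.mapMatrix_apply, Matrix.map_apply]
  fin_cases i <;> fin_cases j <;>
    simp [mS, map_th, map_fS]

theorem map_sT (σ : F ≃+* F) (t : Fˣ) :
    Matrix.SpecialLinearGroup.map (σ : F →+* F) (sT m t) =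
      sT m (Units.map (σ : F →* F) t) := by
  apply Subtype.ext
  show (σ : F →+* F).mapMatrix (mT m (t : F)) = mT m ((Units.map (σ : F →* F) t : Fˣ) : F)
  ext i j
  rw [RingHom.mapMatrix_apply, Matrix.map_apply]
  fin_cases i <;> fin_cases j <;>
    simp [mT, map_th]

theorem map_sW (hF : Fintype.card F = 2 ^ (2 * m + 1)) (σ : F ≃+* F) :
    Matrix.SpecialLinearGroup.map (σ : F →+* F) (sW hF) = sW hF := by
  apply Subtype.ext
  show (σ : F →+* F).mapMatrix (mW F) = mW F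
  ext i j
  rw [RingHom.mapMatrix_apply, Matrix.map_apply]
  fin_cases i <;> fin_cases j <;>
    simp [mW]

theorem map_mem (hm : 1 ≤ m) (hF : Fintype.card F = 2 ^ (2 * m + 1)) (σ : F ≃+* F)
    (g : SpecialLinearGroup (Fin 4) F) (hg : g ∈ Cfsg.Sz F m) :
    Matrix.SpecialLinearGroup.map (σ : F →+* F) g ∈ Cfsg.Sz F m := by
  rcases decomp hm hF g hg with ⟨a, b, t, rfl⟩ | ⟨a, b, a', b', t, rfl⟩
  · rw [map_mul, map_sS, map_sT]
    exact Subgroup.mul_mem _ (sS_mem hF _ _) (sT_mem hF _)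
  · rw [map_mul, map_mul, map_mul, map_sS, map_sS, map_sT, map_sW]
    exact Subgroup.mul_mem _ (Subgroup.mul_mem _ (sS_mem hF _ _) (sW_mem hF))
      (Subgroup.mul_mem _ (sS_mem hF _ _) (sT_mem hF _))

theorem map_map_symm (σ : F ≃+* F) (g : SpecialLinearGroup (Fin 4) F) :
    Matrix.SpecialLinearGroup.map (σ.symm : F →+* F)
      (Matrix.SpecialLinearGroup.map (σ : F →+* F) g) = g := by
  apply Subtype.ext
  ext i j
  simp

theorem map_symm_map (σ : F ≃+* F) (g : SpecialLinearGroup (Fin 4) F) :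
    Matrix.SpecialLinearGroup.map (σ : F →+* F)
      (Matrix.SpecialLinearGroup.map (σ.symm : F →+* F) g) = g := by
  apply Subtype.ext
  ext i j
  simp

/-- the field automorphism of the Suzuki group induced by `σ` -/
def fieldAut (hm : 1 ≤ m) (hF : Fintype.card F = 2 ^ (2 * m + 1)) (σ : F ≃+* F) :
    MulAut (Cfsg.Sz F m) where
  toFun g := ⟨Matrix.SpecialLinearGroup.map (σ : F →+* F) g.1, map_mem hm hF σ g.1 g.2⟩
  invFun g := ⟨Matrix.SpecialLinearGroup.map (σ.symm : F →+* F) g.1, map_mem hm hF σ.symm g.1 g.2⟩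
  left_inv g := Subtype.ext (map_map_symm σ g.1)
  right_inv g := Subtype.ext (map_symm_map σ g.1)
  map_mul' g h := Subtype.ext (map_mul _ g.1 h.1)

theorem fieldAut_coe (hm : 1 ≤ m) (hF : Fintype.card F = 2 ^ (2 * m + 1)) (σ : F ≃+* F)
    (g : Cfsg.Sz F m) :
    ((fieldAut hm hF σ g : Cfsg.Sz F m) : SpecialLinearGroup (Fin 4) F) =
      Matrix.SpecialLinearGroup.map (σ : F →+* F) g.1 := rfl

theorem fieldAut_symm_mul (hm : 1 ≤ m) (hF : Fintype.card F = 2 ^ (2 * m + 1)) (σ : F ≃+* F) :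
    fieldAut hm hF σ.symm * fieldAut hm hF σ = 1 := by
  apply MulEquiv.ext
  intro g
  apply Subtype.ext
  rw [MulAut.mul_apply, MulAut.one_apply, fieldAut_coe, fieldAut_coe]
  exact map_map_symm σ g.1

end FieldAut

section GLevel

variable {F : Type*} [Field F] [Fintype F] {m : ℕ}

/-- translations as elements of the Suzuki group -/
def gS (hF : Fintype.card F = 2 ^ (2 * m + 1)) (a b : F) : Cfsg.Sz F m :=
  ⟨sS m a b, sS_mem hF a b⟩

/-- torus elements of the Suzuki group -/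
noncomputable def gT (hF : Fintype.card F = 2 ^ (2 * m + 1)) (t : Fˣ) : Cfsg.Sz F m :=
  ⟨sT m t, sT_mem hF t⟩

/-- the Weyl element of the Suzuki group -/
def gW (hF : Fintype.card F = 2 ^ (2 * m + 1)) : Cfsg.Sz F m := ⟨sW hF, sW_mem hF⟩

theorem gS_coe (hF : Fintype.card F = 2 ^ (2 * m + 1)) (a b : F) :
    ((gS hF a b : Cfsg.Sz F m) : SpecialLinearGroup (Fin 4) F) = sS m a b := rfl

theorem gT_coe (hF : Fintype.card F = 2 ^ (2 * m + 1)) (t : Fˣ) :
    ((gT hF t : Cfsg.Sz F m) : SpecialLinearGroup (Fin 4) F) = sT m t := rfl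

theorem gW_coe (hF : Fintype.card F = 2 ^ (2 * m + 1)) :
    ((gW hF : Cfsg.Sz F m) : SpecialLinearGroup (Fin 4) F) = sW hF := rfl

theorem gS_mul (hF : Fintype.card F = 2 ^ (2 * m + 1)) (a b c d : F) :
    gS hF a b * gS hF c d = gS hF (a + c) (b + d + th m a * c) :=
  Subtype.ext (sS_mul hF a b c d)

theorem gS_zero (hF : Fintype.card F = 2 ^ (2 * m + 1)) : gS (m := m) hF 0 0 = 1 :=
  Subtype.ext sS_zero

theorem gS_inj (hF : Fintype.card F = 2 ^ (2 * m + 1)) {a b c d : F}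
    (h : gS (m := m) hF a b = gS hF c d) : a = c ∧ b = d :=
  sS_inj (congrArg Subtype.val h)

theorem gT_mul (hF : Fintype.card F = 2 ^ (2 * m + 1)) (s t : Fˣ) :
    gT (m := m) hF (s * t) = gT hF s * gT hF t := Subtype.ext (sT_mul s t)

theorem gT_one (hF : Fintype.card F = 2 ^ (2 * m + 1)) : gT (m := m) hF 1 = 1 :=
  Subtype.ext sT_one

theorem gT_inv (hF : Fintype.card F = 2 ^ (2 * m + 1)) (t : Fˣ) :
    (gT (m := m) hF t)⁻¹ = gT hF t⁻¹ := Subtype.ext (sT_inv t)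

theorem gT_inj (hF : Fintype.card F = 2 ^ (2 * m + 1)) {s t : Fˣ}
    (h : gT (m := m) hF s = gT hF t) : s = t := sT_inj (congrArg Subtype.val h)

theorem gT_gS_conj (hF : Fintype.card F = 2 ^ (2 * m + 1)) (t : Fˣ) (a b : F) :
    gT hF t * gS hF a b * (gT hF t)⁻¹ =
      gS hF (th m (t : F) * a) (th m (t : F) * (t : F) ^ 2 * b) :=
  Subtype.ext (sT_sS_conj hF t a b)

theorem gW_mul_gW (hF : Fintype.card F = 2 ^ (2 * m + 1)) : gW (m := m) hF * gW hF = 1 :=
  Subtype.ext (sW_mul_sW hF)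

theorem gW_inv (hF : Fintype.card F = 2 ^ (2 * m + 1)) : (gW (m := m) hF)⁻¹ = gW hF :=
  inv_eq_of_mul_eq_one_left (gW_mul_gW hF)

theorem gW_gT_gW (hF : Fintype.card F = 2 ^ (2 * m + 1)) (t : Fˣ) :
    gW hF * gT hF t * gW hF = gT (m := m) hF t⁻¹ := Subtype.ext (sW_sT_sW hF t)

theorem decompG (hm : 1 ≤ m) (hF : Fintype.card F = 2 ^ (2 * m + 1)) (g : Cfsg.Sz F m) :
    (∃ (a b : F) (t : Fˣ), g = gS hF a b * gT hF t) ∨
    (∃ (a b a' b' : F) (t : Fˣ), g = gS hF a b * gW hF * (gS hF a' b' * gT hF t)) := by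
  rcases decomp hm hF g.1 g.2 with ⟨a, b, t, h⟩ | ⟨a, b, a', b', t, h⟩
  · exact Or.inl ⟨a, b, t, Subtype.ext h⟩
  · exact Or.inr ⟨a, b, a', b', t, Subtype.ext h⟩

theorem gS_sq (hF : Fintype.card F = 2 ^ (2 * m + 1)) (a b : F) :
    gS hF a b * gS hF a b = gS hF 0 (th m a * a) := by
  rw [gS_mul]
  congr 1
  · exact add_self hF a
  · rw [add_self hF b, zero_add]

theorem gS_split (hF : Fintype.card F = 2 ^ (2 * m + 1)) (a b : F) :
    gS hF a b = gS hF a 0 * gS hF 0 b := by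
  rw [gS_mul]
  congr 1
  · rw [add_zero]
  · rw [mul_zero, add_zero, zero_add]

/-- action of the Suzuki group on projective points (through `SL₄`) -/
theorem gS_smul_zero (hF : Fintype.card F = 2 ^ (2 * m + 1)) (a b : F) :
    (gS hF a b : Cfsg.Sz F m).1 • pt m (0 : F) 0 = pt m a b := sS_smul_zero hF a b

end GLevel

end Cfsg.Agent.Lib.Helper2.SzL
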