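import Mathlib
import Cfsg.Prelude.Def_LieExceptional
import Cfsg.Agent.Lib.Helper2.Sz19

set_option autoImplicit false

namespace Cfsg.Agent.Lib.Helper2.SzL

open Matrix
open scoped LinearAlgebra.Projectivization Pointwise commutatorElement IsMulCommutative

section Rigid

variable {F : Type*} [Field F] [Fintype F] {m : ℕ}

/-- step 1: an automorphism preserving `Q` and fixing `Z(Q)` pointwise preserves first coordinates -/
theorem rigid_first (hF : Fintype.card F = 2 ^ (2 * m + 1)) (α : MulAut (Cfsg.Sz F m))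
    (hQ : ∀ a b : F, ∃ a' b' : F, α (gS hF a b) = gS hF a' b')
    (hZ : ∀ b : F, α (gS hF 0 b) = gS hF 0 b) (a b : F) :
    ∃ b' : F, α (gS hF a b) = gS hF a b' := by
  obtain ⟨a', b', h⟩ := hQ a b
  have h1 : α (gS hF a b * gS hF a b) = gS hF 0 (th m a * a) := by rw [gS_sq, hZ]
  rw [map_mul, h, gS_sq] at h1
  have h2 := (gS_inj hF h1).2
  have h3 : a' = a := thmul_inj hF h2
  exact ⟨b', by rw [h, h3]⟩

/-- step 2: such an automorphism, if it also fixes the torus pointwise, fixes `Q` pointwise -/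
theorem rigid_Q (hm : 1 ≤ m) (hF : Fintype.card F = 2 ^ (2 * m + 1)) (α : MulAut (Cfsg.Sz F m))
    (hQ : ∀ a b : F, ∃ a' b' : F, α (gS hF a b) = gS hF a' b')
    (hZ : ∀ b : F, α (gS hF 0 b) = gS hF 0 b)
    (hT : ∀ t : Fˣ, α (gT hF t) = gT hF t) (a b : F) : α (gS hF a b) = gS hF a b := by
  have h2 := two_eq_zero hF
  choose e he using fun a => rigid_first hF α hQ hZ a 0
  have h3 : ∀ a b : F, α (gS hF a b) = gS hF a (e a + b) := by
    intro a b
    rw [gS_split hF a b, map_mul, he, hZ, gS_mul]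
    congr 1
    · rw [add_zero]
    · rw [mul_zero, add_zero]
  have hadd : ∀ a c : F, e (a + c) = e a + e c := by
    intro a c
    have h4 : α (gS hF a 0 * gS hF c 0) = gS hF a (e a) * gS hF c (e c) := by
      rw [map_mul, he, he]
    rw [gS_mul, gS_mul, h3] at h4
    have h5 := (gS_inj hF h4).2
    linear_combination h5
  have he0 : e 0 = 0 := by
    have := hadd 0 0
    rw [add_zero] at this
    linear_combination -this
  have hequiv : ∀ (t : Fˣ) (a : F), e (th m (t : F) * a) = th m (t : F) * (t : F) ^ 2 * e a := by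
    intro t a
    have h4 : α (gT hF t * gS hF a 0 * (gT hF t)⁻¹) =
        gT hF t * gS hF a (e a) * (gT hF t)⁻¹ := by
      rw [map_mul, map_mul, map_inv, hT, he]
    rw [gT_gS_conj, gT_gS_conj, h3] at h4
    have h5 := (gS_inj hF h4).2
    rw [mul_zero, add_zero] at h5
    exact h5
  have hform : ∀ s : F, e s = s * th m s * e 1 := by
    intro s
    by_cases hs : s = 0
    · rw [hs, he0, zero_mul, zero_mul]
    · obtain ⟨k, hk⟩ := th_surj (m := m) hF s
      have hk0 : k ≠ 0 := by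
        rintro rfl
        rw [th_zero] at hk
        exact hs hk.symm
      have := hequiv (Units.mk0 k hk0) 1
      rw [Units.val_mk0, mul_one, hk] at this
      rw [this, ← hk, th_th hF]
  obtain ⟨u, hu⟩ := th_ne_self (m := m) hm hF
  have h1 := hadd u 1
  rw [hform (u + 1), hform u, hform 1, th_add hF, th_one] at h1
  have h6 : (u + th m u) * e 1 = 0 := by linear_combination h1
  have he1 : e 1 = 0 := by
    rcases mul_eq_zero.mp h6 with h | h
    · exact absurd h hu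
    · exact h
  rw [h3, hform a, he1, mul_zero, zero_add]

theorem gT_gW (hF : Fintype.card F = 2 ^ (2 * m + 1)) (t : Fˣ) :
    gT hF t * gW hF = gW (m := m) hF * gT hF t⁻¹ := by
  rw [← gW_gT_gW hF t, ← mul_assoc, ← mul_assoc, gW_mul_gW, one_mul]

theorem smul_inf_of (hm : 1 ≤ m) (hF : Fintype.card F = 2 ^ (2 * m + 1))
    (α : MulAut (Cfsg.Sz F m))
    (hS : ∀ a b : F, α (gS hF a b) = gS hF a b)
    (hT : ∀ t : Fˣ, α (gT hF t) = gT hF t) (t₁ : Fˣ) (hW : α (gW hF) = gW hF * gT hF t₁)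
    (g : Cfsg.Sz F m) :
    ((α g : Cfsg.Sz F m) : SpecialLinearGroup (Fin 4) F) • pInf F =
      (g : SpecialLinearGroup (Fin 4) F) • pInf F := by
  rcases decompG hm hF g with ⟨a, b, t, rfl⟩ | ⟨a, b, a', b', t, rfl⟩
  · rw [map_mul, hS, hT]
  · rw [map_mul, map_mul, map_mul, hS, hS, hT, hW]
    simp only [Subgroup.coe_mul, gS_coe, gT_coe, gW_coe, mul_smul, sT_smul_inf, sS_smul_inf]

theorem rigid_W (hm : 1 ≤ m) (hF : Fintype.card F = 2 ^ (2 * m + 1)) (α : MulAut (Cfsg.Sz F m))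
    (hS : ∀ a b : F, α (gS hF a b) = gS hF a b)
    (hT : ∀ t : Fˣ, α (gT hF t) = gT hF t) : α (gW hF) = gW hF := by
  have hw2 : α (gW hF) * α (gW hF) = 1 := by rw [← map_mul, gW_mul_gW, map_one]
  have hrel : ∀ t : Fˣ, α (gW hF) * gT hF t * α (gW hF) = gT hF t⁻¹ := by
    intro t
    rw [← hT t⁻¹, ← gW_gT_gW hF t, map_mul, map_mul, hT]
  obtain ⟨t₀, ht₀⟩ := exists_torus_ne_one (F := F) hm hF
  have hcomm : (gW hF * α (gW hF)) * gT hF t₀ = gT hF t₀ * (gW hF * α (gW hF)) := by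
    have e1 : α (gW hF) * gT hF t₀ = gT hF t₀⁻¹ * α (gW hF) := by
      rw [← hrel t₀, mul_assoc, mul_assoc, hw2, mul_one]
    rw [mul_assoc, e1, ← mul_assoc, ← mul_assoc, gT_gW hF t₀]
  obtain ⟨t₁, ht₁⟩ := centralizer_sT hm hF ht₀ (gW hF * α (gW hF)).1 (gW hF * α (gW hF)).2
    (congrArg Subtype.val hcomm)
  have hc : gW hF * α (gW hF) = gT hF t₁ := Subtype.ext ht₁
  have hW : α (gW hF) = gW hF * gT hF t₁ := by
    rw [← hc, ← mul_assoc, gW_mul_gW, one_mul]
  -- now show t₁ = 1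
  have key := smul_inf_of hm hF α hS hT t₁ hW (gW hF * gS hF 1 0 * gW hF)
  have e2 : gT hF t₁ * gW hF * gT hF t₁ = gW (m := m) hF := by
    rw [gT_gW, mul_assoc, ← gT_mul, inv_mul_cancel, gT_one, mul_one]
  have e3 : α (gW hF * gS hF 1 0 * gW hF) =
      gW hF * gS hF (th m (t₁ : F) * 1) (th m (t₁ : F) * (t₁ : F) ^ 2 * 0) * gW hF := by
    rw [map_mul, map_mul, hS, hW, ← gT_gS_conj hF t₁ 1 0]
    have : gW hF * gT hF t₁ * gS hF 1 0 * (gW hF * gT hF t₁) =
        gW hF * (gT hF t₁ * gS hF 1 0 * (gT hF t₁)⁻¹) * (gT hF t₁ * gW hF * gT hF t₁) := by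
      group
    rw [this, e2]
  rw [e3] at key
  simp only [Subgroup.coe_mul, gS_coe, gW_coe, mul_smul, sW_smul_inf, sS_smul_zero hF] at key
  have h5 := smul_left_cancel _ key
  have h6 := (pt_inj h5).1
  rw [mul_one] at h6
  have h7 : (t₁ : F) = 1 := th_inj hF (by rw [h6, th_one])
  have h8 : t₁ = 1 := Units.ext h7
  rw [hW, h8, gT_one, mul_one]

/-- rigidity: an automorphism preserving `Q`, fixing `Z(Q)` and the torus pointwise, is trivial -/
theorem rigid (hm : 1 ≤ m) (hF : Fintype.card F = 2 ^ (2 * m + 1)) (α : MulAut (Cfsg.Sz F m))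
    (hQ : ∀ a b : F, ∃ a' b' : F, α (gS hF a b) = gS hF a' b')
    (hZ : ∀ b : F, α (gS hF 0 b) = gS hF 0 b)
    (hT : ∀ t : Fˣ, α (gT hF t) = gT hF t) : α = 1 := by
  have hS := rigid_Q hm hF α hQ hZ hT
  have hW := rigid_W hm hF α hS hT
  apply MulEquiv.ext
  intro g
  rw [MulAut.one_apply]
  rcases decompG hm hF g with ⟨a, b, t, rfl⟩ | ⟨a, b, a', b', t, rfl⟩
  · rw [map_mul, hS, hT]
  · rw [map_mul, map_mul, map_mul, hS, hS, hT, hW]

end Rigid

end Cfsg.Agent.Lib.Helper2.SzL
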