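import Mathlib
import Cfsg.Prelude.Def_LieExceptional
import Cfsg.Agent.Lib.Helper2.Sz21

set_option autoImplicit false

namespace Cfsg.Agent.Lib.Helper2.SzL

open Matrix
open scoped LinearAlgebra.Projectivization Pointwise commutatorElement IsMulCommutative

section Sigma

variable {F : Type*} [Field F] [Fintype F] {m : ℕ}

theorem gS0_mul (hF : Fintype.card F = 2 ^ (2 * m + 1)) (b d : F) :
    gS hF 0 b * gS hF 0 d = gS (m := m) hF 0 (b + d) := Subtype.ext (sS0_mul hF b d)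

theorem fieldAut_gS (hm : 1 ≤ m) (hF : Fintype.card F = 2 ^ (2 * m + 1)) (σ : F ≃+* F)
    (a b : F) : fieldAut hm hF σ (gS hF a b) = gS hF (σ a) (σ b) :=
  Subtype.ext (map_sS σ a b)

theorem fieldAut_gT (hm : 1 ≤ m) (hF : Fintype.card F = 2 ^ (2 * m + 1)) (σ : F ≃+* F)
    (t : Fˣ) : fieldAut hm hF σ (gT hF t) = gT hF (Units.map (σ : F →* F) t) :=
  Subtype.ext (map_sT σ t)

theorem fieldAut_gW (hm : 1 ≤ m) (hF : Fintype.card F = 2 ^ (2 * m + 1)) (σ : F ≃+* F) :
    fieldAut hm hF σ (gW hF) = gW hF :=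
  Subtype.ext (map_sW hF σ)

theorem exists_sigma (hm : 1 ≤ m) (hF : Fintype.card F = 2 ^ (2 * m + 1))
    (α : MulAut (Cfsg.Sz F m))
    (hQ : ∀ a b : F, ∃ a' b' : F, α (gS hF a b) = gS hF a' b')
    (hT : ∀ t : Fˣ, ∃ t' : Fˣ, α (gT hF t) = gT hF t') :
    ∃ (σ : F ≃+* F) (c : F), c ≠ 0 ∧ (∀ b : F, α (gS hF 0 b) = gS hF 0 (c * σ b)) ∧
      (∀ t : Fˣ, α (gT hF t) = gT hF (Units.map (σ : F →* F) t)) := by
  have hZ0 : ∀ b : F, ∃ b' : F, α (gS hF 0 b) = gS hF 0 b' := by
    intro b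
    obtain ⟨a', b', h⟩ := hQ 0 b
    have h1 : α (gS hF 0 b * gS hF 0 b) = 1 := by
      rw [gS_sq, th_zero, zero_mul, gS_zero, map_one]
    rw [map_mul, h, gS_sq, ← gS_zero hF] at h1
    have h3 := (gS_inj hF h1).2
    have h4 : a' = 0 := thmul_inj hF (by rw [h3, th_zero, zero_mul])
    exact ⟨b', by rw [h, h4]⟩
  choose lam hlam using hZ0
  choose tau htau using hT
  have hadd : ∀ b d : F, lam (b + d) = lam b + lam d := by
    intro b d
    have h1 : α (gS hF 0 b * gS hF 0 d) = gS hF 0 (lam b) * gS hF 0 (lam d) := by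
      rw [map_mul, hlam, hlam]
    rw [gS0_mul, gS0_mul, hlam] at h1
    exact (gS_inj hF h1).2
  have hinj : ∀ b d : F, lam b = lam d → b = d := by
    intro b d h
    have h1 : α (gS hF 0 b) = α (gS hF 0 d) := by rw [hlam, hlam, h]
    exact (gS_inj hF (α.injective h1)).2
  have hlam0 : lam 0 = 0 := by
    have := hadd 0 0
    rw [add_zero] at this
    linear_combination -this
  have hc : lam 1 ≠ 0 := by
    intro h
    exact one_ne_zero (hinj 1 0 (h.trans hlam0.symm))
  have hrel : ∀ (t : Fˣ) (b : F), lam (th m (t : F) * (t : F) ^ 2 * b) =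
      th m (tau t : F) * (tau t : F) ^ 2 * lam b := by
    intro t b
    have h1 : α (gT hF t * gS hF 0 b * (gT hF t)⁻¹) =
        gT hF (tau t) * gS hF 0 (lam b) * (gT hF (tau t))⁻¹ := by
      rw [map_mul, map_mul, map_inv, htau, hlam]
    rw [gT_gS_conj, gT_gS_conj, mul_zero, mul_zero, hlam] at h1
    exact (gS_inj hF h1).2
  have hkap : ∀ t : Fˣ, lam (th m (t : F) * (t : F) ^ 2) =
      th m (tau t : F) * (tau t : F) ^ 2 * lam 1 := by
    intro t
    have := hrel t 1
    rwa [mul_one] at this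
  have hmul : ∀ x b : F, lam (x * b) / lam 1 = lam x / lam 1 * (lam b / lam 1) := by
    intro x b
    by_cases hx : x = 0
    · rw [hx, zero_mul, hlam0, zero_div, zero_mul]
    · obtain ⟨t, ht⟩ := lam_surj (m := m) hF (Units.mk0 x hx)
      rw [Units.val_mk0] at ht
      rw [← ht, hrel, hkap]
      field_simp
  let σ₀ : F →+* F :=
    { toFun := fun x => lam x / lam 1
      map_one' := div_self hc
      map_mul' := hmul
      map_zero' := by rw [hlam0, zero_div]
      map_add' := by intro x y; rw [hadd, add_div] }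
  have hσinj : Function.Injective σ₀ := σ₀.injective
  have hσbij : Function.Bijective σ₀ := ⟨hσinj, Finite.injective_iff_surjective.mp hσinj⟩
  refine ⟨RingEquiv.ofBijective σ₀ hσbij, lam 1, hc, ?_, ?_⟩
  · intro b
    rw [hlam]
    congr 1
    show lam b = lam 1 * (lam b / lam 1)
    field_simp
  · intro t
    rw [htau]
    congr 1
    apply Units.ext
    apply kappa_inj (m := m) hF
    show th m (tau t : F) * (tau t : F) ^ 2 =
      th m (lam (t : F) / lam 1) * (lam (t : F) / lam 1) ^ 2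
    have h1 : th m (lam (t : F) / lam 1) * (lam (t : F) / lam 1) ^ 2 =
        σ₀ (th m (t : F) * (t : F) ^ 2) := by
      rw [map_mul, map_pow]
      have : σ₀ (th m (t : F)) = th m (σ₀ (t : F)) := by unfold th; rw [map_pow]
      rw [this]
      rfl
    rw [h1]
    show _ = lam (th m (t : F) * (t : F) ^ 2) / lam 1
    rw [hkap]
    field_simp

/-- every automorphism of the Suzuki group is inner times a field automorphism -/
theorem aut_decomp (hm : 1 ≤ m) (hF : Fintype.card F = 2 ^ (2 * m + 1))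
    (α : MulAut (Cfsg.Sz F m)) :
    ∃ (g : Cfsg.Sz F m) (σ : F ≃+* F), α = MulAut.conj g * fieldAut hm hF σ := by
  obtain ⟨g₁, hQ1⟩ := norm_Q hm hF α
  obtain ⟨s, hQ2, hT2⟩ := norm_T hm hF (MulAut.conj g₁ * α) hQ1
  obtain ⟨σ, c, hc, hZ, hT⟩ := exists_sigma hm hF (MulAut.conj s * (MulAut.conj g₁ * α)) hQ2 hT2
  obtain ⟨t₀, ht₀⟩ := lam_surj (m := m) hF (Units.mk0 c⁻¹ (inv_ne_zero hc))
  rw [Units.val_mk0] at ht₀
  have h4 : MulAut.conj (gT hF t₀) *
      (MulAut.conj s * (MulAut.conj g₁ * α) * fieldAut hm hF σ.symm) = 1 := by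
    apply rigid hm hF
    · intro a b
      obtain ⟨a', b', h⟩ := hQ2 (σ.symm a) (σ.symm b)
      refine ⟨th m (t₀ : F) * a', th m (t₀ : F) * (t₀ : F) ^ 2 * b', ?_⟩
      rw [MulAut.mul_apply, MulAut.mul_apply, fieldAut_gS, h, MulAut.conj_apply, gT_gS_conj]
    · intro b
      rw [MulAut.mul_apply, MulAut.mul_apply, fieldAut_gS, map_zero, hZ, MulAut.conj_apply,
        gT_gS_conj, RingEquiv.apply_symm_apply, mul_zero, ht₀, ← mul_assoc, inv_mul_cancel₀ hc,
        one_mul]
    · intro t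
      rw [MulAut.mul_apply, MulAut.mul_apply, fieldAut_gT, hT, MulAut.conj_apply]
      have : Units.map (σ : F →* F) (Units.map (σ.symm : F →* F) t) = t := by
        apply Units.ext
        simp
      rw [this, ← gT_mul, mul_comm, gT_mul, mul_inv_cancel_right]
  have h5 : fieldAut hm hF σ = (fieldAut hm hF σ.symm)⁻¹ :=
    eq_inv_of_mul_eq_one_right (fieldAut_symm_mul hm hF σ)
  refine ⟨g₁⁻¹ * s⁻¹ * (gT hF t₀)⁻¹, σ, ?_⟩
  rw [map_mul, map_mul, map_inv, map_inv, map_inv, h5]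
  calc α = (MulAut.conj g₁)⁻¹ * (MulAut.conj s)⁻¹ * (MulAut.conj (gT hF t₀))⁻¹ *
        (MulAut.conj (gT hF t₀) *
          (MulAut.conj s * (MulAut.conj g₁ * α) * fieldAut hm hF σ.symm)) *
        (fieldAut hm hF σ.symm)⁻¹ := by group
    _ = _ := by rw [h4, mul_one]

end Sigma

end Cfsg.Agent.Lib.Helper2.SzL
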