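import Mathlib
import Cfsg.Prelude.Def_LieExceptional
import Cfsg.Agent.Lib.Helper2.Sz22

set_option autoImplicit false

namespace Cfsg.Agent.Lib.Helper2.SzL

open Matrix
open scoped LinearAlgebra.Projectivization Pointwise commutatorElement IsMulCommutative

section TwoGen

variable {F : Type*} [Field F] [Fintype F] {m : ℕ}

theorem gS_inv (hF : Fintype.card F = 2 ^ (2 * m + 1)) (a b : F) :
    (gS hF a b)⁻¹ = gS hF a (b + th m a * a) := Subtype.ext (sS_inv hF a b)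

/-- a subgroup containing the torus, one translation with nonzero first coordinate and one
element `u * w` is the whole group -/
theorem eq_top_of_mem (hm : 1 ≤ m) (hF : Fintype.card F = 2 ^ (2 * m + 1))
    (H : Subgroup (Cfsg.Sz F m)) (hT : ∀ t : Fˣ, gT hF t ∈ H)
    (a₀ b₀ : F) (ha₀ : a₀ ≠ 0) (hS : gS hF a₀ b₀ ∈ H) (hW : gW hF ∈ H) : H = ⊤ := by
  have hfirst : ∀ e : F, ∃ f : F, sS m e f ∈ H.map (Subgroup.subtype (Cfsg.Sz F m)) := by
    intro e
    by_cases he : e = 0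
    · refine ⟨0, 1, H.one_mem, ?_⟩
      rw [he, sS_zero]; rfl
    · obtain ⟨k, hk⟩ := th_surj (m := m) hF (e / a₀)
      have hk0 : k ≠ 0 := by
        rintro rfl
        rw [th_zero] at hk
        exact (div_ne_zero he ha₀) hk.symm
      have hmem : gT hF (Units.mk0 k hk0) * gS hF a₀ b₀ * (gT hF (Units.mk0 k hk0))⁻¹ ∈ H :=
        H.mul_mem (H.mul_mem (hT _) hS) (H.inv_mem (hT _))
      rw [gT_gS_conj, Units.val_mk0, hk, div_mul_cancel₀ e ha₀] at hmem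
      exact ⟨_, _, hmem, rfl⟩
  have hall := all_sS_of_first hF (H.map (Subgroup.subtype (Cfsg.Sz F m))) hfirst
  have hSall : ∀ e f : F, gS hF e f ∈ H := by
    intro e f
    obtain ⟨x, hx, hx'⟩ := hall e f
    have : x = gS hF e f := Subtype.ext hx'
    rw [← this]; exact hx
  rw [eq_top_iff]
  intro g _
  rcases decompG hm hF g with ⟨a, b, t, rfl⟩ | ⟨a, b, a', b', t, rfl⟩
  · exact H.mul_mem (hSall a b) (hT t)
  · exact H.mul_mem (H.mul_mem (hSall a b) hW) (H.mul_mem (hSall a' b') (hT t))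

theorem two_generated (hm : 1 ≤ m) (hF : Fintype.card F = 2 ^ (2 * m + 1)) :
    ∃ a b : Cfsg.Sz F m, Subgroup.closure ({a, b} : Set (Cfsg.Sz F m)) = ⊤ := by
  obtain ⟨t₀, ht₀⟩ := IsCyclic.exists_generator (α := Fˣ)
  obtain ⟨t₁, ht₁⟩ := exists_torus_ne_one (F := F) hm hF
  have ht₀1 : t₀ ≠ 1 := by
    rintro rfl
    obtain ⟨k, hk⟩ := Subgroup.mem_zpowers_iff.mp (ht₀ t₁)
    rw [_root_.one_zpow] at hk
    exact ht₁ hk.symm
  refine ⟨gT hF t₀, gS hF 1 0 * gW hF, ?_⟩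
  set H := Subgroup.closure ({gT hF t₀, gS hF 1 0 * gW hF} : Set (Cfsg.Sz F m)) with hH
  have hx : gT hF t₀ ∈ H := Subgroup.subset_closure (by simp)
  have hy : gS hF 1 0 * gW hF ∈ H := Subgroup.subset_closure (by simp)
  have hT : ∀ t : Fˣ, gT hF t ∈ H := by
    intro t
    obtain ⟨k, hk⟩ := Subgroup.mem_zpowers_iff.mp (ht₀ t)
    rw [← hk, gT_eq_torusHom, map_zpow, ← gT_eq_torusHom]
    exact H.zpow_mem hx k
  have h1 : gS hF 1 0 * gT hF t₀⁻¹ * (gS hF 1 0)⁻¹ ∈ H := by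
    have : gS hF 1 0 * gT hF t₀⁻¹ * (gS hF 1 0)⁻¹ =
        (gS hF 1 0 * gW hF) * gT hF t₀ * (gS hF 1 0 * gW hF)⁻¹ := by
      rw [← gW_gT_gW hF t₀, _root_.mul_inv_rev, gW_inv]
      group
    rw [this]
    exact H.mul_mem (H.mul_mem hy hx) (H.inv_mem hy)
  have h2 : gS hF 1 0 * gT hF t₀⁻¹ * (gS hF 1 0)⁻¹ * (gT hF t₀⁻¹)⁻¹ ∈ H :=
    H.mul_mem h1 (H.inv_mem (hT _))
  have h3 : gS hF 1 0 * gT hF t₀⁻¹ * (gS hF 1 0)⁻¹ * (gT hF t₀⁻¹)⁻¹ =
      gS hF 1 0 * (gT hF t₀⁻¹ * (gS hF 1 0)⁻¹ * (gT hF t₀⁻¹)⁻¹) := by group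
  rw [h3, gS_inv, gT_gS_conj, gS_mul] at h2
  have ha₀ : (1 : F) + th m ((t₀⁻¹ : Fˣ) : F) * 1 ≠ 0 := by
    intro h
    rw [mul_one] at h
    have h4 : (1 : F) = th m ((t₀⁻¹ : Fˣ) : F) := eq_of_add_eq_zero hF h
    have h5 : ((t₀⁻¹ : Fˣ) : F) = 1 := th_inj hF (by rw [← h4, th_one])
    have h6 : t₀⁻¹ = 1 := Units.ext h5
    exact ht₀1 (inv_eq_one.mp h6)
  have hW : gW hF ∈ H := by
    have hS10 : gS hF (1 : F) 0 ∈ H := by
      -- all translations are in `H`; use the first part of the argument of `eq_top_of_mem`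
      have hfirst : ∀ e : F, ∃ f : F, sS m e f ∈ H.map (Subgroup.subtype (Cfsg.Sz F m)) := by
        intro e
        by_cases he : e = 0
        · refine ⟨0, 1, H.one_mem, ?_⟩
          rw [he, sS_zero]; rfl
        · obtain ⟨k, hk⟩ := th_surj (m := m) hF (e / ((1 : F) + th m ((t₀⁻¹ : Fˣ) : F) * 1))
          have hk0 : k ≠ 0 := by
            rintro rfl
            rw [th_zero] at hk
            exact (div_ne_zero he ha₀) hk.symm
          have hmem := H.mul_mem (H.mul_mem (hT (Units.mk0 k hk0)) h2)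
            (H.inv_mem (hT (Units.mk0 k hk0)))
          rw [gT_gS_conj, Units.val_mk0, hk, div_mul_cancel₀ e ha₀] at hmem
          exact ⟨_, _, hmem, rfl⟩
      have hall := all_sS_of_first hF (H.map (Subgroup.subtype (Cfsg.Sz F m))) hfirst
      obtain ⟨x, hx, hx'⟩ := hall 1 0
      have : x = gS hF 1 0 := Subtype.ext hx'
      rw [← this]; exact hx
    have : gW hF = (gS hF 1 0)⁻¹ * (gS hF 1 0 * gW hF) := by group
    rw [this]
    exact H.mul_mem (H.inv_mem hS10) hy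
  exact eq_top_of_mem hm hF H hT _ _ ha₀ h2 hW

end TwoGen

end Cfsg.Agent.Lib.Helper2.SzL
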