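import Mathlib
import Cfsg.Prelude.Def_LieExceptional
import Cfsg.Agent.Lib.Helper2.Sz24
import Cfsg.Agent.Lib.Helper2.LSz7

set_option autoImplicit false

namespace Cfsg.Agent.Lib.Helper2.SzL

open Matrix
open scoped LinearAlgebra.Projectivization Pointwise commutatorElement IsMulCommutative

section GenericTI

variable {G : Type*} [Group G]

/-- the nonidentity elements conjugate into `A` -/
def conjSet (A : Subgroup G) : Set G := {x | x ≠ 1 ∧ ∃ g : G, g⁻¹ * x * g ∈ A}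

theorem conj_ne_one {g a : G} (ha : a ≠ 1) : g⁻¹ * a * g ≠ 1 := by
  intro h
  apply ha
  have : a = g * (g⁻¹ * a * g) * g⁻¹ := by group
  rw [this, h]; group

theorem ti_of_cent (A : Subgroup G) (hC : ∀ a ∈ A, a ≠ 1 → Subgroup.centralizer {a} = A) :
    ∀ g : G, ∀ a ∈ A, a ≠ 1 → g⁻¹ * a * g ∈ A → g ∈ Subgroup.normalizer (A : Set G) := by
  intro g a ha ha1 hga
  have ha1' : g⁻¹ * a * g ≠ 1 := conj_ne_one ha1
  have h1 := hC a ha ha1
  have h2 := hC _ hga ha1'
  rw [Subgroup.mem_normalizer_iff]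
  intro h
  constructor
  · intro hh
    rw [← h2, Subgroup.mem_centralizer_singleton_iff] at hh
    rw [← h1, Subgroup.mem_centralizer_singleton_iff]
    have e1 : a * (g * h * g⁻¹) = g * ((g⁻¹ * a * g) * h) * g⁻¹ := by group
    have e2 : g * h * g⁻¹ * a = g * (h * (g⁻¹ * a * g)) * g⁻¹ := by group
    rw [e1, e2, hh]
  · intro hh
    rw [← h1, Subgroup.mem_centralizer_singleton_iff] at hh
    rw [← h2, Subgroup.mem_centralizer_singleton_iff]
    have e1 : (g⁻¹ * a * g) * h = g⁻¹ * (a * (g * h * g⁻¹)) * g := by group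
    have e2 : h * (g⁻¹ * a * g) = g⁻¹ * (g * h * g⁻¹ * a) * g := by group
    rw [e1, e2, hh]

theorem card_ne_one_subtype [Finite G] (A : Subgroup G) :
    Nat.card {a : A // a ≠ 1} = Nat.card A - 1 := by
  classical
  haveI : Fintype A := Fintype.ofFinite _
  rw [Nat.card_eq_fintype_card, Nat.card_eq_fintype_card]
  have h := Fintype.card_subtype_compl (fun a : A => a = 1)
  rw [Fintype.card_subtype_eq] at h
  exact h

theorem ti_count [Finite G] (A : Subgroup G)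
    (hTI : ∀ g : G, ∀ a ∈ A, a ≠ 1 → g⁻¹ * a * g ∈ A → g ∈ Subgroup.normalizer (A : Set G)) :
    Nat.card (conjSet A) * Nat.card (Subgroup.normalizer (A : Set G)) =
      Nat.card G * (Nat.card A - 1) := by
  classical
  have hex : ∀ x : conjSet A, ∃ g : G, g⁻¹ * (x : G) * g ∈ A := fun x => x.2.2
  choose γ hγ using hex
  let Φ : conjSet A × Subgroup.normalizer (A : Set G) → G × {a : A // a ≠ 1} := fun p =>
    (γ p.1 * p.2, ⟨⟨(γ p.1 * p.2)⁻¹ * (p.1 : G) * (γ p.1 * p.2), by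
        have h1 := hγ p.1
        have h2 : (p.2 : G)⁻¹ ∈ Subgroup.normalizer (A : Set G) := inv_mem p.2.2
        have h3 := (Subgroup.mem_normalizer_iff.mp h2 _).mp h1
        have e : (γ p.1 * p.2)⁻¹ * (p.1 : G) * (γ p.1 * p.2) =
            (p.2 : G)⁻¹ * ((γ p.1)⁻¹ * (p.1 : G) * γ p.1) * (p.2 : G)⁻¹⁻¹ := by group
        rw [e]; exact h3⟩, by
        intro h
        have h' : (γ p.1 * p.2)⁻¹ * (p.1 : G) * (γ p.1 * p.2) = 1 := congrArg Subtype.val h
        exact conj_ne_one p.1.2.1 h'⟩)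
  have hΦ : Function.Bijective Φ := by
    constructor
    · rintro ⟨x, n⟩ ⟨x', n'⟩ h
      have h1 : γ x * n = γ x' * n' := congrArg Prod.fst h
      have h2 : (γ x * n)⁻¹ * (x : G) * (γ x * n) = (γ x' * n')⁻¹ * (x' : G) * (γ x' * n') :=
        congrArg (fun p : G × {a : A // a ≠ 1} => ((p.2 : A) : G)) h
      rw [h1] at h2
      have hx : x = x' := by
        apply Subtype.ext
        have e1 : (x : G) = (γ x' * n') * ((γ x' * n')⁻¹ * (x : G) * (γ x' * n')) *
            (γ x' * n')⁻¹ := by group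
        rw [e1, h2]; group
      subst hx
      have hn : (n : G) = n' := mul_left_cancel h1
      rw [Subtype.ext hn]
    · rintro ⟨g, ⟨a, ha1⟩⟩
      have hga : g⁻¹ * (g * (a : G) * g⁻¹) * g = a := by group
      have hx : g * (a : G) * g⁻¹ ∈ conjSet A := by
        refine ⟨?_, g, ?_⟩
        · intro h
          apply ha1
          apply Subtype.ext
          rw [← hga, h]; simp
        · rw [hga]; exact a.2
      have hn : (γ ⟨_, hx⟩)⁻¹ * g ∈ Subgroup.normalizer (A : Set G) := by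
        apply hTI _ ((γ ⟨_, hx⟩)⁻¹ * (g * (a : G) * g⁻¹) * γ ⟨_, hx⟩) (hγ ⟨_, hx⟩)
        · exact conj_ne_one hx.1
        · have e : ((γ ⟨_, hx⟩)⁻¹ * g)⁻¹ * ((γ ⟨_, hx⟩)⁻¹ * (g * (a : G) * g⁻¹) * γ ⟨_, hx⟩) *
              ((γ ⟨_, hx⟩)⁻¹ * g) = a := by group
          rw [e]; exact a.2
      refine ⟨(⟨_, hx⟩, ⟨(γ ⟨_, hx⟩)⁻¹ * g, hn⟩), ?_⟩
      apply Prod.ext
      · show γ ⟨_, hx⟩ * ((γ ⟨_, hx⟩)⁻¹ * g) = g
        group
      · apply Subtype.ext; apply Subtype.ext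
        show (γ ⟨_, hx⟩ * ((γ ⟨_, hx⟩)⁻¹ * g))⁻¹ * (g * (a : G) * g⁻¹) *
          (γ ⟨_, hx⟩ * ((γ ⟨_, hx⟩)⁻¹ * g)) = a
        group
  have hcard := Nat.card_eq_of_bijective Φ hΦ
  rw [Nat.card_prod, Nat.card_prod, card_ne_one_subtype] at hcard
  exact hcard

end GenericTI

end Cfsg.Agent.Lib.Helper2.SzL
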