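import Mathlib
import Cfsg.Prelude.Def_LieExceptional
import Cfsg.Agent.Lib.Helper2.SzT1

set_option autoImplicit false

namespace Cfsg.Agent.Lib.Helper2.SzL

open Matrix
open scoped LinearAlgebra.Projectivization Pointwise commutatorElement IsMulCommutative

section Tori

theorem comm_of_cyclic {G : Type*} [Group G] (A : Subgroup G) [IsCyclic A] {c d : G}
    (hc : c ∈ A) (hd : d ∈ A) : c * d = d * c :=
  congrArg Subtype.val (mul_comm' (⟨c, hc⟩ : A) ⟨d, hd⟩)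

theorem card_eq_of_conj {G : Type*} [Group G] {A B : Subgroup G} (g : G)
    (h : ∀ x, x ∈ B ↔ g⁻¹ * x * g ∈ A) : Nat.card B = Nat.card A := by
  have hB : B = A.map (MulAut.conj g).toMonoidHom := by
    ext x
    rw [Subgroup.mem_map]
    constructor
    · intro hx
      refine ⟨g⁻¹ * x * g, (h x).mp hx, ?_⟩
      show MulAut.conj g (g⁻¹ * x * g) = x
      rw [MulAut.conj_apply]; group
    · rintro ⟨y, hy, rfl⟩
      rw [h]
      show g⁻¹ * MulAut.conj g y * g ∈ A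
      rw [MulAut.conj_apply]
      have : g⁻¹ * (g * y * g⁻¹) * g = y := by group
      rw [this]; exact hy
  rw [hB, Subgroup.card_map_of_injective (MulAut.conj g).injective]

theorem inv_conj_pow {G : Type*} [Group G] (x z : G) (n : ℕ) :
    (x⁻¹ * z * x) ^ n = x⁻¹ * z ^ n * x := by
  have := conj_pow (a := x⁻¹) (b := z) (i := n)
  rwa [inv_inv] at this

theorem exists_mem_orderOf {G : Type*} [Group G] [Finite G] (A : Subgroup G) (l : ℕ)
    (hl : l.Prime) (h : l ∣ Nat.card A) : ∃ a : G, a ∈ A ∧ orderOf a = l ∧ a ≠ 1 := by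
  haveI : Fact l.Prime := ⟨hl⟩
  obtain ⟨c, hc⟩ := exists_prime_orderOf_dvd_card' l h
  have hc' : orderOf (c : G) = l := by rw [Subgroup.orderOf_coe, hc]
  refine ⟨c, c.2, hc', ?_⟩
  intro h1
  rw [h1, orderOf_one] at hc'
  exact hl.one_lt.ne hc'

variable {F : Type*} [Field F] [Fintype F] {m : ℕ}

/-- centralizers of elements of prime order dividing `q ^ 2 + 1` -/
def IsTor (m : ℕ) (A : Subgroup (Cfsg.Sz F m)) : Prop :=
  ∃ (z : Cfsg.Sz F m) (p : ℕ), p.Prime ∧ p ∣ (2 ^ (2 * m + 1)) ^ 2 + 1 ∧ orderOf z = p ∧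
    A = Subgroup.centralizer {z}

theorem tor_hyps (hF : Fintype.card F = 2 ^ (2 * m + 1)) {z : Cfsg.Sz F m} {p : ℕ}
    (hp : p.Prime) (hdiv : p ∣ (2 ^ (2 * m + 1)) ^ 2 + 1) (hz : orderOf z = p) :
    p ≠ 2 ∧ z ≠ 1 ∧ matHom F m z ^ p = 1 ∧ matHom F m z ≠ 1 ∧ ¬ p ∣ Fintype.card F ∧
      ¬ p ∣ Fintype.card F - 1 ∧ ¬ p ∣ Fintype.card F ^ 2 - 1 ∧ ¬ p ∣ Fintype.card F ^ 3 - 1 := by
  have hq1 : 1 ≤ 2 ^ (2 * m + 1) := Nat.one_le_two_pow
  have hq2 : 2 ∣ 2 ^ (2 * m + 1) := dvd_pow_self 2 (by omega)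
  obtain ⟨hp2, hq0, hq1', hq2', hq3'⟩ := arith_q2 _ p hp hq2 hq1 hdiv
  rw [← hF] at hq0 hq1' hq2' hq3'
  have hz1 : z ≠ 1 := by
    rintro rfl
    rw [orderOf_one] at hz
    exact hp.one_lt.ne hz
  refine ⟨hp2, hz1, ?_, ?_, hq0, hq1', hq2', hq3'⟩
  · have hzp : z ^ p = 1 := by
      have := pow_orderOf_eq_one z
      rwa [hz] at this
    rw [← map_pow, hzp, map_one]
  · intro h
    exact hz1 (matHom_injective (h.trans (map_one _).symm))

theorem tor_cyclic (hF : Fintype.card F = 2 ^ (2 * m + 1)) {A : Subgroup (Cfsg.Sz F m)}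
    (hA : IsTor m A) : IsCyclic A := by
  obtain ⟨z, p, hp, hdiv, hz, rfl⟩ := hA
  haveI : Fact p.Prime := ⟨hp⟩
  obtain ⟨_, _, hMp, hM1, hq0, hq1, hq2, hq3⟩ := tor_hyps hF hp hdiv hz
  let φ : (Subgroup.centralizer ({z} : Set (Cfsg.Sz F m))) →* Matrix (Fin 4) (Fin 4) F :=
    (matHom F m).comp (Subgroup.centralizer ({z} : Set (Cfsg.Sz F m))).subtype
  have hφ : Function.Injective φ := matHom_injective.comp (Subgroup.subtype_injective _)
  have hcomm : ∀ g, matHom F m z * φ g = φ g * matHom F m z := by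
    intro g
    have hg := Subgroup.mem_centralizer_singleton_iff.mp g.2
    show matHom F m z * matHom F m g.1 = matHom F m g.1 * matHom F m z
    rw [← map_mul, ← map_mul, hg]
  exact Irr4.isCyclic_of_commute (matHom F m z) p hMp hM1 hq0 hq1 hq2 hq3 φ hφ hcomm

theorem torus_pow (hF : Fintype.card F = 2 ^ (2 * m + 1)) (t : Fˣ) :
    (torusHom (m := m) hF t) ^ (2 ^ (2 * m + 1) - 1) = 1 := by
  rw [← map_pow]
  have : t ^ (2 ^ (2 * m + 1) - 1) = 1 := by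
    have h := pow_card_eq_one' (x := t)
    rwa [Nat.card_units, Nat.card_eq_fintype_card, hF] at h
  rw [this, map_one]

theorem tor_card_dvd (hm : 1 ≤ m) (hF : Fintype.card F = 2 ^ (2 * m + 1))
    {A : Subgroup (Cfsg.Sz F m)} (hA : IsTor m A) :
    Nat.card A ∣ (2 ^ (2 * m + 1)) ^ 2 + 1 := by
  obtain ⟨z, p, hp, hdiv, hz, rfl⟩ := hA
  obtain ⟨hp2, hz1, _, _, _, _, _, _⟩ := tor_hyps hF hp hdiv hz
  have hq1 : 1 ≤ 2 ^ (2 * m + 1) := Nat.one_le_two_pow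
  have hq2 : 2 ∣ 2 ^ (2 * m + 1) := dvd_pow_self 2 (by omega)
  have hnd1 : ¬ p ∣ 2 ^ (2 * m + 1) - 1 := (arith_q2 _ p hp hq2 hq1 hdiv).2.2.1
  have hdvdG : Nat.card (Subgroup.centralizer ({z} : Set (Cfsg.Sz F m))) ∣
      Nat.card (Cfsg.Sz F m) := Subgroup.card_subgroup_dvd_card _
  rw [card_Sz hm hF] at hdvdG
  -- odd order
  have hodd : Nat.Coprime (Nat.card (Subgroup.centralizer ({z} : Set (Cfsg.Sz F m)))) 2 := by
    rw [Nat.coprime_comm, Nat.Prime.coprime_iff_not_dvd Nat.prime_two]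
    intro h2
    haveI : Fact (Nat.Prime 2) := ⟨Nat.prime_two⟩
    obtain ⟨c, hc⟩ := exists_prime_orderOf_dvd_card' 2 h2
    have hc' : orderOf (c : Cfsg.Sz F m) = 2 := by rw [Subgroup.orderOf_coe, hc]
    obtain ⟨P, hP⟩ := centralizer_involution hm hF (c : Cfsg.Sz F m) hc'
    have hzP : z ∈ (P : Subgroup (Cfsg.Sz F m)) := by
      apply hP
      rw [Subgroup.mem_centralizer_singleton_iff]
      exact (Subgroup.mem_centralizer_singleton_iff.mp c.2).symm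
    obtain ⟨k, hk⟩ := P.isPGroup' ⟨z, hzP⟩
    have hk' : z ^ 2 ^ k = 1 := congrArg Subtype.val hk
    have hd : p ∣ 2 ^ k := by rw [← hz]; exact orderOf_dvd_of_pow_eq_one hk'
    have hd2 : p ∣ 2 := hp.dvd_of_dvd_pow hd
    exact hp2 ((Nat.prime_dvd_prime_iff_eq hp Nat.prime_two).mp hd2)
  have hc1 : Nat.Coprime (Nat.card (Subgroup.centralizer ({z} : Set (Cfsg.Sz F m))))
      ((2 ^ (2 * m + 1)) ^ 2) := Nat.Coprime.pow_right _ (Nat.Coprime.pow_right _ hodd)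
  have hc2 : Nat.Coprime (Nat.card (Subgroup.centralizer ({z} : Set (Cfsg.Sz F m))))
      (2 ^ (2 * m + 1) - 1) := by
    apply Nat.coprime_of_dvd
    intro l hl hla hlq
    haveI : Fact l.Prime := ⟨hl⟩
    have hl2 : l ≠ 2 := by
      rintro rfl
      have h1 : 2 ∣ 2 ^ (2 * m + 1) - 1 + 1 := by
        rw [Nat.sub_add_cancel hq1]; exact hq2
      omega
    obtain ⟨c, hc⟩ := exists_prime_orderOf_dvd_card' l hla
    have hc' : orderOf (c : Cfsg.Sz F m) = l := by rw [Subgroup.orderOf_coe, hc]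
    obtain ⟨x, t, ht, hxt⟩ := exists_conj_torus hm hF l hl2 hlq (c : Cfsg.Sz F m) hc'
    have hcz : z * (c : Cfsg.Sz F m) = (c : Cfsg.Sz F m) * z :=
      (Subgroup.mem_centralizer_singleton_iff.mp c.2).symm
    have hc2 : ((x⁻¹ * z * x : Cfsg.Sz F m) : SpecialLinearGroup (Fin 4) F) * sT m t =
        sT m t * ((x⁻¹ * z * x : Cfsg.Sz F m) : SpecialLinearGroup (Fin 4) F) := by
      have := conj_commute x z (c : Cfsg.Sz F m) hcz
      rw [hxt] at this
      exact congrArg Subtype.val this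
    obtain ⟨t', ht'⟩ := centralizer_sT hm hF ht _ (x⁻¹ * z * x).2 hc2
    have h3 : x⁻¹ * z * x = torusHom hF t' := Subtype.ext ht'
    have h4 : (x⁻¹ * z * x) ^ (2 ^ (2 * m + 1) - 1) = 1 := by rw [h3, torus_pow]
    have h5 : z ^ (2 ^ (2 * m + 1) - 1) = 1 := by
      have e : (x⁻¹ * z * x) ^ (2 ^ (2 * m + 1) - 1) = x⁻¹ * z ^ (2 ^ (2 * m + 1) - 1) * x :=
        inv_conj_pow x z _
      rw [e] at h4
      have e2 : z ^ (2 ^ (2 * m + 1) - 1) = x * (x⁻¹ * z ^ (2 ^ (2 * m + 1) - 1) * x) * x⁻¹ := by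
        group
      rw [e2, h4]; group
    apply hnd1
    rw [← hz]
    exact orderOf_dvd_of_pow_eq_one h5
  have hc3 := Nat.Coprime.mul_right hc1 hc2
  have e : (2 ^ (2 * m + 1)) ^ 2 * ((2 ^ (2 * m + 1)) ^ 2 + 1) * (2 ^ (2 * m + 1) - 1) =
      ((2 ^ (2 * m + 1)) ^ 2 * (2 ^ (2 * m + 1) - 1)) * ((2 ^ (2 * m + 1)) ^ 2 + 1) := by ring
  rw [e] at hdvdG
  exact Nat.Coprime.dvd_of_dvd_mul_left hc3 hdvdG

theorem tor_of_prime (g : Cfsg.Sz F m) (l : ℕ) (hl : l.Prime) (hlo : l ∣ orderOf g)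
    (hlN : l ∣ (2 ^ (2 * m + 1)) ^ 2 + 1) (ho : orderOf g ≠ 0) :
    IsTor m (Subgroup.centralizer ({g ^ (orderOf g / l)} : Set (Cfsg.Sz F m))) ∧
      g ∈ Subgroup.centralizer ({g ^ (orderOf g / l)} : Set (Cfsg.Sz F m)) := by
  constructor
  · exact ⟨_, l, hl, hlN, orderOf_pow_orderOf_div ho hlo, rfl⟩
  · rw [Subgroup.mem_centralizer_singleton_iff]
    exact (Commute.pow_right (Commute.refl g) _).eq

theorem tor_cent (hm : 1 ≤ m) (hF : Fintype.card F = 2 ^ (2 * m + 1))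
    {A : Subgroup (Cfsg.Sz F m)} (hA : IsTor m A) (a : Cfsg.Sz F m) (ha : a ∈ A) (ha1 : a ≠ 1) :
    Subgroup.centralizer {a} = A := by
  have hcard := tor_card_dvd hm hF hA
  haveI := tor_cyclic hF hA
  obtain ⟨z, p, hp, hdiv, hz, rfl⟩ := hA
  have hn : orderOf a ≠ 1 := fun h => ha1 (orderOf_eq_one_iff.mp h)
  have ho : orderOf a ≠ 0 := (orderOf_pos a).ne'
  have hl : (orderOf a).minFac.Prime := Nat.minFac_prime hn
  have hlo : (orderOf a).minFac ∣ orderOf a := Nat.minFac_dvd _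
  have hoA : orderOf a ∣ Nat.card (Subgroup.centralizer ({z} : Set (Cfsg.Sz F m))) := by
    have := orderOf_dvd_natCard (⟨a, ha⟩ : Subgroup.centralizer ({z} : Set (Cfsg.Sz F m)))
    rwa [Subgroup.orderOf_mk] at this
  have hlN : (orderOf a).minFac ∣ (2 ^ (2 * m + 1)) ^ 2 + 1 := (hlo.trans hoA).trans hcard
  obtain ⟨hB, haB⟩ := tor_of_prime a _ hl hlo hlN ho
  haveI := tor_cyclic hF hB
  set b := a ^ (orderOf a / (orderOf a).minFac) with hb
  have hza : a * z = z * a := Subgroup.mem_centralizer_singleton_iff.mp ha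
  have hzB : z ∈ Subgroup.centralizer ({b} : Set (Cfsg.Sz F m)) := by
    rw [Subgroup.mem_centralizer_singleton_iff]
    exact (Commute.pow_right (show Commute z a from hza.symm) _).eq
  apply le_antisymm
  · intro c hc
    have hcB : c ∈ Subgroup.centralizer ({b} : Set (Cfsg.Sz F m)) := by
      rw [Subgroup.mem_centralizer_singleton_iff] at hc ⊢
      exact (Commute.pow_right (show Commute c a from hc) _).eq
    rw [Subgroup.mem_centralizer_singleton_iff]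
    exact comm_of_cyclic _ hcB hzB
  · intro c hc
    rw [Subgroup.mem_centralizer_singleton_iff]
    exact comm_of_cyclic _ hc ha

theorem tor_one_lt (hF : Fintype.card F = 2 ^ (2 * m + 1))
    {A : Subgroup (Cfsg.Sz F m)} (hA : IsTor m A) : ∃ p : ℕ, p.Prime ∧ p ∣ Nat.card A := by
  obtain ⟨z, p, hp, hdiv, hz, rfl⟩ := hA
  refine ⟨p, hp, ?_⟩
  have hzA : z ∈ Subgroup.centralizer ({z} : Set (Cfsg.Sz F m)) :=
    Subgroup.mem_centralizer_singleton_iff.mpr rfl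
  have := orderOf_dvd_natCard (⟨z, hzA⟩ : Subgroup.centralizer ({z} : Set (Cfsg.Sz F m)))
  rwa [Subgroup.orderOf_mk, hz] at this

theorem tor_conj_of_prime (hm : 1 ≤ m) (hF : Fintype.card F = 2 ^ (2 * m + 1))
    {A B : Subgroup (Cfsg.Sz F m)} (hA : IsTor m A) (hB : IsTor m B) (l : ℕ) (hl : l.Prime)
    (hlA : l ∣ Nat.card A) (hlB : l ∣ Nat.card B) :
    ∃ g : Cfsg.Sz F m, ∀ x, x ∈ B ↔ g⁻¹ * x * g ∈ A := by
  haveI : Fact l.Prime := ⟨hl⟩
  have hq1 : 1 ≤ 2 ^ (2 * m + 1) := Nat.one_le_two_pow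
  have hq2 : 2 ∣ 2 ^ (2 * m + 1) := dvd_pow_self 2 (by omega)
  have hl2 : l ≠ 2 := (arith_q2 _ l hl hq2 hq1 (hlA.trans (tor_card_dvd hm hF hA))).1
  obtain ⟨a, haA, ha', ha1⟩ := exists_mem_orderOf A l hl hlA
  obtain ⟨b, hbB, hb', hb1⟩ := exists_mem_orderOf B l hl hlB
  have hap : IsPGroup l (Subgroup.zpowers a) := by
    apply IsPGroup.of_card (n := 1)
    rw [Nat.card_zpowers, ha', pow_one]
  have hbp : IsPGroup l (Subgroup.zpowers b) := by
    apply IsPGroup.of_card (n := 1)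
    rw [Nat.card_zpowers, hb', pow_one]
  obtain ⟨Pa, hPa⟩ := hap.exists_le_sylow
  obtain ⟨Pb, hPb⟩ := hbp.exists_le_sylow
  obtain ⟨g, hg⟩ := MulAction.exists_smul_eq (Cfsg.Sz F m) Pa Pb
  have hgm : g * a * g⁻¹ ∈ (Pb : Subgroup (Cfsg.Sz F m)) := by
    rw [conj_mem_of_smul Pa Pb g hg]
    have e : g⁻¹ * (g * a * g⁻¹) * g = a := by group
    rw [e]
    exact hPa (Subgroup.mem_zpowers _)
  haveI : IsCyclic Pb := sylow_odd_cyclic hm hF hl2 Pb
  have hcomm : (g * a * g⁻¹) * b = b * (g * a * g⁻¹) :=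
    comm_of_cyclic _ hgm (hPb (Subgroup.mem_zpowers _))
  have hgB : g * a * g⁻¹ ∈ B := by
    rw [← tor_cent hm hF hB b hbB hb1, Subgroup.mem_centralizer_singleton_iff]
    exact hcomm
  have hg1 : g * a * g⁻¹ ≠ 1 := by
    have := conj_ne_one (g := g⁻¹) ha1
    rwa [inv_inv] at this
  have hCB := tor_cent hm hF hB _ hgB hg1
  have hCA := tor_cent hm hF hA a haA ha1
  refine ⟨g, fun x => ?_⟩
  rw [← hCB, ← hCA, Subgroup.mem_centralizer_singleton_iff, Subgroup.mem_centralizer_singleton_iff]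
  constructor
  · intro h
    have e1 : g⁻¹ * x * g * a = g⁻¹ * (x * (g * a * g⁻¹)) * g := by group
    have e2 : a * (g⁻¹ * x * g) = g⁻¹ * ((g * a * g⁻¹) * x) * g := by group
    rw [e1, e2, h]
  · intro h
    have e1 : x * (g * a * g⁻¹) = g * (g⁻¹ * x * g * a) * g⁻¹ := by group
    have e2 : (g * a * g⁻¹) * x = g * (a * (g⁻¹ * x * g)) * g⁻¹ := by group
    rw [e1, e2, h]

theorem tor_hall (hm : 1 ≤ m) (hF : Fintype.card F = 2 ^ (2 * m + 1))
    {A : Subgroup (Cfsg.Sz F m)} (hA : IsTor m A) :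
    Nat.Coprime (Nat.card A) (((2 ^ (2 * m + 1)) ^ 2 + 1) / Nat.card A) := by
  have hdvd := tor_card_dvd hm hF hA
  have hq1 : 1 ≤ 2 ^ (2 * m + 1) := Nat.one_le_two_pow
  have hq2 : 2 ∣ 2 ^ (2 * m + 1) := dvd_pow_self 2 (by omega)
  apply Nat.coprime_of_dvd
  intro l hl hla hlq
  haveI : Fact l.Prime := ⟨hl⟩
  have hl2 : l ≠ 2 := (arith_q2 _ l hl hq2 hq1 (hla.trans hdvd)).1
  obtain ⟨c, hcA, hc', hc1⟩ := exists_mem_orderOf A l hl hla
  have hcp : IsPGroup l (Subgroup.zpowers c) := by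
    apply IsPGroup.of_card (n := 1)
    rw [Nat.card_zpowers, hc', pow_one]
  obtain ⟨P, hP⟩ := hcp.exists_le_sylow
  haveI : IsCyclic P := sylow_odd_cyclic hm hF hl2 P
  have hPA : (P : Subgroup (Cfsg.Sz F m)) ≤ A := by
    intro x hx
    rw [← tor_cent hm hF hA c hcA hc1, Subgroup.mem_centralizer_singleton_iff]
    exact comm_of_cyclic _ hx (hP (Subgroup.mem_zpowers _))
  have h1 : l ^ (Nat.card (Cfsg.Sz F m)).factorization l ∣ Nat.card A := by
    rw [← Sylow.card_eq_multiplicity P]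
    exact Subgroup.card_dvd_of_le hPA
  have h2 : l ^ ((Nat.card (Cfsg.Sz F m)).factorization l + 1) ∣ Nat.card (Cfsg.Sz F m) := by
    rw [pow_succ]
    have h3 : l ^ (Nat.card (Cfsg.Sz F m)).factorization l * l ∣
        Nat.card A * (((2 ^ (2 * m + 1)) ^ 2 + 1) / Nat.card A) := Nat.mul_dvd_mul h1 hlq
    rw [Nat.mul_div_cancel' hdvd] at h3
    apply h3.trans
    rw [card_Sz hm hF]
    exact Dvd.intro_left _ rfl |>.mul_right _
  exact Nat.pow_succ_factorization_not_dvd Nat.card_pos.ne' hl h2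

end Tori

end Cfsg.Agent.Lib.Helper2.SzL
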