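import Mathlib
import Cfsg.Prelude.Def_LieExceptional
import Cfsg.Agent.Lib.Helper2.SzT2

set_option autoImplicit false

namespace Cfsg.Agent.Lib.Helper2.SzL

open Matrix
open scoped LinearAlgebra.Projectivization Pointwise commutatorElement IsMulCommutative

section Normalizer

theorem three_not_dvd (m : ℕ) :
    ¬ 3 ∣ (2 ^ (2 * m + 1)) ^ 2 * ((2 ^ (2 * m + 1)) ^ 2 + 1) * (2 ^ (2 * m + 1) - 1) := by
  have hq : 2 ^ (2 * m + 1) % 3 = 2 := by
    rw [pow_succ, pow_mul]
    norm_num [Nat.mul_mod, Nat.pow_mod]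
  generalize 2 ^ (2 * m + 1) = q at hq
  have hq2 : q ^ 2 % 3 = 1 := by rw [Nat.pow_mod, hq]
  intro h
  rcases (Nat.Prime.dvd_mul Nat.prime_three).mp h with h | h
  · rcases (Nat.Prime.dvd_mul Nat.prime_three).mp h with h | h
    · omega
    · omega
  · omega

/-- in a commutative subalgebra without zero divisors a monic polynomial has few roots -/
theorem subalg_root_bound {K : Type*} [Field K] {R : Type*} [Ring R] [Algebra K R]
    (E : Subalgebra K R) [IsDomain E] (hcomm : ∀ a b : E, a * b = b * a)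
    (f : Polynomial K) (hf : f.Monic) (S : Set R)
    (hS : ∀ x ∈ S, x ∈ E ∧ Polynomial.aeval x f = 0) :
    S.Finite ∧ S.ncard ≤ f.natDegree := by
  classical
  letI : CommRing E := { (inferInstance : Ring E) with mul_comm := hcomm }
  let fE : Polynomial E := f.map (algebraMap K E)
  have hfE : fE ≠ 0 := (hf.map _).ne_zero
  have hdeg : fE.natDegree ≤ f.natDegree := Polynomial.natDegree_map_le
  have hroot : ∀ x (hx : x ∈ S), fE.IsRoot ⟨x, (hS x hx).1⟩ := by
    intro x hx
    rw [Polynomial.IsRoot.def, Polynomial.eval_map_algebraMap]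
    apply Subtype.ext
    have h := Polynomial.aeval_algHom_apply E.val (⟨x, (hS x hx).1⟩ : E) f
    exact h.symm.trans (hS x hx).2
  have hsub : S ⊆ Subtype.val '' (↑fE.roots.toFinset : Set E) := by
    intro x hx
    refine ⟨⟨x, (hS x hx).1⟩, ?_, rfl⟩
    rw [Finset.mem_coe, Multiset.mem_toFinset, Polynomial.mem_roots hfE]
    exact hroot x hx
  have hfin : (Subtype.val '' (↑fE.roots.toFinset : Set E)).Finite :=
    (Finset.finite_toSet _).image _
  refine ⟨hfin.subset hsub, ?_⟩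
  calc S.ncard ≤ (Subtype.val '' (↑fE.roots.toFinset : Set E)).ncard :=
        Set.ncard_le_ncard hsub hfin
    _ ≤ (↑fE.roots.toFinset : Set E).ncard := Set.ncard_image_le (Finset.finite_toSet _)
    _ = fE.roots.toFinset.card := Set.ncard_coe_finset _
    _ ≤ fE.roots.card := Multiset.toFinset_card_le _
    _ ≤ fE.natDegree := Polynomial.card_roots' _
    _ ≤ f.natDegree := hdeg

variable {F : Type*} [Field F] [Fintype F] {m : ℕ}

theorem tor_normalizer (hm : 1 ≤ m) (hF : Fintype.card F = 2 ^ (2 * m + 1))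
    {A : Subgroup (Cfsg.Sz F m)} (hA : IsTor m A) :
    ∃ k : ℕ, (k = 1 ∨ k = 2 ∨ k = 4) ∧
      Nat.card (Subgroup.normalizer (A : Set (Cfsg.Sz F m))) = k * Nat.card A := by
  obtain ⟨z, p, hp, hdiv, hz, rfl⟩ := hA
  haveI : Fact p.Prime := ⟨hp⟩
  obtain ⟨_, hz1, hMp, hM1, hq0, hq1, hq2, hq3⟩ := tor_hyps hF hp hdiv hz
  have hzA : z ∈ Subgroup.centralizer ({z} : Set (Cfsg.Sz F m)) :=
    Subgroup.mem_centralizer_singleton_iff.mpr rfl
  haveI hdom : IsDomain (Subalgebra.centralizer F ({matHom F m z} : Set (Matrix (Fin 4) (Fin 4) F))) :=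
    Irr4.centralizer_isDomain (matHom F m z) p hMp hM1 hq0 hq1 hq2 hq3
  have hcomm : ∀ a b : Subalgebra.centralizer F ({matHom F m z} : Set (Matrix (Fin 4) (Fin 4) F)),
      a * b = b * a := fun a b =>
    Subtype.ext (Irr4.commutant_comm (matHom F m z) p hMp hM1 hq0 hq1 hq2 hq3 a.1 b.1
      (a.2 _ rfl) (b.2 _ rfl))
  let S : Set (Matrix (Fin 4) (Fin 4) F) :=
    {x | ∃ n ∈ Subgroup.normalizer
      ((Subgroup.centralizer ({z} : Set (Cfsg.Sz F m)) : Subgroup (Cfsg.Sz F m)) : Set (Cfsg.Sz F m)),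
      x = matHom F m (n * z * n⁻¹)}
  have hS : ∀ x ∈ S, x ∈ Subalgebra.centralizer F ({matHom F m z} : Set (Matrix (Fin 4) (Fin 4) F)) ∧
      Polynomial.aeval x (matHom F m z).charpoly = 0 := by
    rintro x ⟨n, hn, rfl⟩
    constructor
    · rw [Subalgebra.mem_centralizer_iff]
      intro g hg
      rw [Set.mem_singleton_iff.mp hg]
      have h1 : n * z * n⁻¹ ∈ Subgroup.centralizer ({z} : Set (Cfsg.Sz F m)) :=
        (Subgroup.mem_normalizer_iff.mp hn z).mp hzA
      rw [Subgroup.mem_centralizer_singleton_iff] at h1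
      rw [← map_mul, ← map_mul, h1]
    · have hch : (matHom F m (n * z * n⁻¹)).charpoly = (matHom F m z).charpoly := by
        rw [map_mul, map_mul, Matrix.charpoly_mul_comm, ← mul_assoc, ← map_mul, inv_mul_cancel,
          map_one, one_mul]
      rw [← hch]
      exact Matrix.aeval_self_charpoly _
  obtain ⟨hSfin, hScard⟩ := subalg_root_bound _ hcomm (matHom F m z).charpoly
    (Matrix.charpoly_monic _) S hS
  rw [Matrix.charpoly_natDegree_eq_dim, Fintype.card_fin] at hScard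
  haveI : Finite S := hSfin.to_subtype
  set Nm := Subgroup.normalizer
    ((Subgroup.centralizer ({z} : Set (Cfsg.Sz F m)) : Subgroup (Cfsg.Sz F m)) : Set (Cfsg.Sz F m))
    with hNm
  set K := (Subgroup.centralizer ({z} : Set (Cfsg.Sz F m))).subgroupOf Nm with hK
  let f : Nm ⧸ K → S := fun q =>
    ⟨matHom F m ((q.out : Cfsg.Sz F m) * z * (q.out : Cfsg.Sz F m)⁻¹), ⟨q.out, q.out.2, rfl⟩⟩
  have hf : Function.Injective f := by
    intro q q' h
    have h1 : matHom F m ((q.out : Cfsg.Sz F m) * z * (q.out : Cfsg.Sz F m)⁻¹) =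
        matHom F m ((q'.out : Cfsg.Sz F m) * z * (q'.out : Cfsg.Sz F m)⁻¹) :=
      congrArg Subtype.val h
    have h2 := matHom_injective h1
    have h3 : (q.out)⁻¹ * q'.out ∈ K := by
      refine Subgroup.mem_subgroupOf.mpr ?_
      show ((q.out : Cfsg.Sz F m))⁻¹ * (q'.out : Cfsg.Sz F m) ∈
        Subgroup.centralizer ({z} : Set (Cfsg.Sz F m))
      rw [Subgroup.mem_centralizer_singleton_iff]
      have e1 : ((q.out : Cfsg.Sz F m))⁻¹ * (q'.out : Cfsg.Sz F m) * z =
          ((q.out : Cfsg.Sz F m))⁻¹ * ((q'.out : Cfsg.Sz F m) * z * (q'.out : Cfsg.Sz F m)⁻¹) *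
            (q'.out : Cfsg.Sz F m) := by group
      have e2 : z * (((q.out : Cfsg.Sz F m))⁻¹ * (q'.out : Cfsg.Sz F m)) =
          ((q.out : Cfsg.Sz F m))⁻¹ * ((q.out : Cfsg.Sz F m) * z * (q.out : Cfsg.Sz F m)⁻¹) *
            (q'.out : Cfsg.Sz F m) := by group
      rw [e1, e2, h2]
    rw [← QuotientGroup.out_eq' q, ← QuotientGroup.out_eq' q']
    exact QuotientGroup.eq.mpr h3
  have hle : Nat.card (Nm ⧸ K) ≤ 4 := by
    have h1 := Nat.card_le_card_of_injective f hf
    rw [Nat.card_coe_set_eq] at h1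
    exact h1.trans hScard
  have hcard : Nat.card Nm = Nat.card (Nm ⧸ K) * Nat.card K :=
    Subgroup.card_eq_card_quotient_mul_card_subgroup K
  have hKA : Nat.card K = Nat.card (Subgroup.centralizer ({z} : Set (Cfsg.Sz F m))) :=
    Nat.card_congr (Subgroup.subgroupOfEquivOfLe Subgroup.le_normalizer).toEquiv
  rw [hKA] at hcard
  have hpos : 0 < Nat.card (Nm ⧸ K) := Nat.card_pos
  have h3 : Nat.card (Nm ⧸ K) ≠ 3 := by
    intro h
    have hd : 3 ∣ Nat.card Nm := by rw [hcard, h]; exact Dvd.intro _ rfl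
    have hd2 : 3 ∣ Nat.card (Cfsg.Sz F m) := hd.trans (Subgroup.card_subgroup_dvd_card _)
    rw [card_Sz hm hF] at hd2
    exact three_not_dvd m hd2
  refine ⟨Nat.card (Nm ⧸ K), ?_, hcard⟩
  omega

end Normalizer

end Cfsg.Agent.Lib.Helper2.SzL
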