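import Mathlib
import Cfsg.Prelude.Def_LieExceptional
import Cfsg.Agent.Lib.Helper2.SzT3

set_option autoImplicit false

namespace Cfsg.Agent.Lib.Helper2.SzL

open Matrix
open scoped LinearAlgebra.Projectivization Pointwise commutatorElement IsMulCommutative

section Counts

theorem eq_one_of_pow_coprime {G : Type*} [Group G] {x : G} {a b : ℕ} (ha : x ^ a = 1)
    (hb : x ^ b = 1) (h : Nat.Coprime a b) : x = 1 := by
  have h1 : orderOf x ∣ Nat.gcd a b :=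
    Nat.dvd_gcd (orderOf_dvd_of_pow_eq_one ha) (orderOf_dvd_of_pow_eq_one hb)
  rw [h] at h1
  exact orderOf_eq_one_iff.mp (Nat.dvd_one.mp h1)

theorem coprime_two_N (m : ℕ) : Nat.Coprime 2 ((2 ^ (2 * m + 1)) ^ 2 + 1) := by
  rw [Nat.Prime.coprime_iff_not_dvd Nat.prime_two]
  intro h
  have h1 : 2 ∣ (2 ^ (2 * m + 1)) ^ 2 := dvd_pow (dvd_pow_self 2 (by omega)) (by norm_num)
  omega

theorem coprime_four_N (m : ℕ) : Nat.Coprime 4 ((2 ^ (2 * m + 1)) ^ 2 + 1) := by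
  have := Nat.Coprime.pow_left 2 (coprime_two_N m)
  exact this

theorem coprime_two_qm1 (m : ℕ) : Nat.Coprime 2 (2 ^ (2 * m + 1) - 1) := by
  rw [Nat.Prime.coprime_iff_not_dvd Nat.prime_two]
  intro h
  have hq1 : 1 ≤ 2 ^ (2 * m + 1) := Nat.one_le_two_pow
  have hq2 : 2 ∣ 2 ^ (2 * m + 1) := dvd_pow_self 2 (by omega)
  omega

theorem coprime_four_qm1 (m : ℕ) : Nat.Coprime 4 (2 ^ (2 * m + 1) - 1) := by
  have := Nat.Coprime.pow_left 2 (coprime_two_qm1 m)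
  exact this

theorem coprime_qm1_N (m : ℕ) :
    Nat.Coprime (2 ^ (2 * m + 1) - 1) ((2 ^ (2 * m + 1)) ^ 2 + 1) := by
  apply Nat.coprime_of_dvd
  intro l hl h1 h2
  have hq1 : 1 ≤ 2 ^ (2 * m + 1) := Nat.one_le_two_pow
  have hq2 : 2 ∣ 2 ^ (2 * m + 1) := dvd_pow_self 2 (by omega)
  exact (arith_q2 _ l hl hq2 hq1 h2).2.2.1 h1

variable {F : Type*} [Field F] [Fintype F] {m : ℕ}

theorem ti_QG (hm : 1 ≤ m) (hF : Fintype.card F = 2 ^ (2 * m + 1)) :
    ∀ g : Cfsg.Sz F m, ∀ a ∈ QG (m := m) hF, a ≠ 1 → g⁻¹ * a * g ∈ QG (m := m) hF →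
      g ∈ Subgroup.normalizer ((QG (m := m) hF : Subgroup (Cfsg.Sz F m)) : Set (Cfsg.Sz F m)) := by
  intro g a ha ha1 hga
  rw [normalizer_QG hm hF, mem_BInf]
  obtain ⟨a1, b1, rfl⟩ := eq_gS_of_mem_QG hF ha
  obtain ⟨a2, b2, h2⟩ := eq_gS_of_mem_QG hF hga
  have hab : ¬ (a1 = 0 ∧ b1 = 0) := by
    rintro ⟨rfl, rfl⟩
    exact ha1 (gS_zero hF)
  have e : g⁻¹ * gS hF a1 b1 * g⁻¹⁻¹ = gS hF a2 b2 := by rw [inv_inv]; exact h2
  have h3 : ((g⁻¹ : Cfsg.Sz F m) : SpecialLinearGroup (Fin 4) F) * sS m a1 b1 *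
      ((g⁻¹ : Cfsg.Sz F m) : SpecialLinearGroup (Fin 4) F)⁻¹ = sS m a2 b2 :=
    congrArg Subtype.val e
  have h4 := conj_sS_fix_inf hF hab _ (g⁻¹).2 h3
  have h5 : (g : SpecialLinearGroup (Fin 4) F) •
      (((g⁻¹ : Cfsg.Sz F m) : SpecialLinearGroup (Fin 4) F) • pInf F) = pInf F := by
    rw [← mul_smul]
    show ((g * g⁻¹ : Cfsg.Sz F m) : SpecialLinearGroup (Fin 4) F) • pInf F = pInf F
    rw [mul_inv_cancel]
    exact one_smul _ _
  rw [h4] at h5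
  exact h5

theorem card_XQ (hm : 1 ≤ m) (hF : Fintype.card F = 2 ^ (2 * m + 1)) :
    (conjSet (QG (m := m) hF)).ncard * ((2 ^ (2 * m + 1)) ^ 2 * (2 ^ (2 * m + 1) - 1)) =
      Nat.card (Cfsg.Sz F m) * ((2 ^ (2 * m + 1)) ^ 2 - 1) := by
  have h := ti_count (QG (m := m) hF) (ti_QG hm hF)
  rw [normalizer_QG hm hF, card_BInf hm hF, card_QG hF, Nat.card_coe_set_eq] at h
  exact h

/-- the torus subgroup -/
noncomputable def TG (hF : Fintype.card F = 2 ^ (2 * m + 1)) : Subgroup (Cfsg.Sz F m) :=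
  (torusHom (m := m) hF).range

theorem gT_mem_TG (hF : Fintype.card F = 2 ^ (2 * m + 1)) (t : Fˣ) :
    gT hF t ∈ TG (m := m) hF := ⟨t, rfl⟩

theorem eq_gT_of_mem_TG (hF : Fintype.card F = 2 ^ (2 * m + 1)) {g : Cfsg.Sz F m}
    (hg : g ∈ TG (m := m) hF) : ∃ t : Fˣ, g = gT hF t := by
  obtain ⟨t, ht⟩ := hg
  exact ⟨t, ht.symm⟩

theorem card_TG (hF : Fintype.card F = 2 ^ (2 * m + 1)) :
    Nat.card (TG (m := m) hF) = 2 ^ (2 * m + 1) - 1 := card_torus hF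

theorem cent_TG (hm : 1 ≤ m) (hF : Fintype.card F = 2 ^ (2 * m + 1)) :
    ∀ a ∈ TG (m := m) hF, a ≠ 1 → Subgroup.centralizer {a} = TG (m := m) hF := by
  intro a ha ha1
  obtain ⟨t, rfl⟩ := eq_gT_of_mem_TG hF ha
  have ht : t ≠ 1 := by
    rintro rfl
    exact ha1 (gT_one hF)
  apply le_antisymm
  · intro c hc
    rw [Subgroup.mem_centralizer_singleton_iff] at hc
    have hc' : (c : SpecialLinearGroup (Fin 4) F) * sT m t =
        sT m t * (c : SpecialLinearGroup (Fin 4) F) := congrArg Subtype.val hc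
    obtain ⟨t', ht'⟩ := centralizer_sT hm hF ht c.1 c.2 hc'
    exact ⟨t', Subtype.ext ht'.symm⟩
  · intro c hc
    obtain ⟨t', rfl⟩ := eq_gT_of_mem_TG hF hc
    rw [Subgroup.mem_centralizer_singleton_iff, ← gT_mul, ← gT_mul, mul_comm]

theorem fix_of_gT (hF : Fintype.card F = 2 ^ (2 * m + 1)) {t : Fˣ} (ht : t ≠ 1)
    {p : ℙ F (Fin 4 → F)} (hp : p ∈ Cfsg.suzukiOvoid F m) (h : sT m t • p = p) :
    p = pInf F ∨ p = pt m 0 0 := by
  rcases (mem_ovoid_iff p).mp hp with rfl | ⟨x, y, rfl⟩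
  · left; rfl
  · right
    by_contra hne
    have hxy : x ≠ 0 ∨ y ≠ 0 := by
      by_contra hcon
      push_neg at hcon
      apply hne; rw [hcon.1, hcon.2]
    exact ht (torus_fix_pt hF t x y hxy h)

theorem normalizer_TG_cases (hm : 1 ≤ m) (hF : Fintype.card F = 2 ^ (2 * m + 1))
    (n : Cfsg.Sz F m)
    (hn : n ∈ Subgroup.normalizer ((TG (m := m) hF : Subgroup (Cfsg.Sz F m)) : Set (Cfsg.Sz F m))) :
    (∃ t, n = gT hF t) ∨ (∃ t, n = gW hF * gT hF t) := by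
  obtain ⟨t₀, ht₀⟩ := exists_torus_ne_one (F := F) hm hF
  have h1 : n * gT hF t₀ * n⁻¹ ∈ TG (m := m) hF :=
    (Subgroup.mem_normalizer_iff.mp hn _).mp (gT_mem_TG hF t₀)
  obtain ⟨t₁, ht₁⟩ := eq_gT_of_mem_TG hF h1
  have ht₁1 : t₁ ≠ 1 := by
    rintro rfl
    rw [gT_one] at ht₁
    have h2 : gT hF t₀ = 1 := by
      have e : gT hF t₀ = n⁻¹ * (n * gT hF t₀ * n⁻¹) * n := by group
      rw [e, ht₁]; group
    rw [← gT_one (m := m) hF] at h2
    exact ht₀ (gT_inj hF h2)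
  have hfix : ∀ p : ℙ F (Fin 4 → F), sT m t₀ • p = p →
      sT m t₁ • ((n : SpecialLinearGroup (Fin 4) F) • p) =
        (n : SpecialLinearGroup (Fin 4) F) • p := by
    intro p hp
    have e : sT m t₁ = (n : SpecialLinearGroup (Fin 4) F) * sT m t₀ *
        (n : SpecialLinearGroup (Fin 4) F)⁻¹ := (congrArg Subtype.val ht₁).symm
    rw [e, ← mul_smul, inv_mul_cancel_right, mul_smul, hp]
  have hinf := fix_of_gT hF ht₁1 (smul_mem_ovoid n.2 pInf_mem) (hfix _ (sT_smul_inf t₀))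
  have hzero := fix_of_gT hF ht₁1 (smul_mem_ovoid n.2 (pt_mem (0 : F) 0))
    (hfix _ (sT_smul_zero hF t₀))
  have hne : (n : SpecialLinearGroup (Fin 4) F) • pInf F ≠
      (n : SpecialLinearGroup (Fin 4) F) • pt m (0 : F) 0 := by
    intro h
    exact (pt_ne_inf (m := m) (0 : F) 0) (smul_left_cancel _ h).symm
  rcases hinf with hi | hi
  · left
    have h0 : (n : SpecialLinearGroup (Fin 4) F) • pt m (0 : F) 0 = pt m 0 0 := by
      rcases hzero with h | h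
      · exfalso; apply hne; rw [hi, h]
      · exact h
    obtain ⟨a, ha⟩ := fix_two hm hF n.1 n.2 hi h0
    exact ⟨a, Subtype.ext ha⟩
  · right
    have h0 : (n : SpecialLinearGroup (Fin 4) F) • pt m (0 : F) 0 = pInf F := by
      rcases hzero with h | h
      · exact h
      · exfalso; apply hne; rw [hi, h]
    have hw1 : (sW hF * (n : SpecialLinearGroup (Fin 4) F)) • pInf F = pInf F := by
      rw [mul_smul, hi, sW_smul_zero]
    have hw2 : (sW hF * (n : SpecialLinearGroup (Fin 4) F)) • pt m (0 : F) 0 = pt m 0 0 := by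
      rw [mul_smul, h0, sW_smul_inf]
    obtain ⟨a, ha⟩ := fix_two hm hF _ (Subgroup.mul_mem _ (sW_mem hF) n.2) hw1 hw2
    refine ⟨a, ?_⟩
    apply Subtype.ext
    show (n : SpecialLinearGroup (Fin 4) F) = sW hF * sT m a
    rw [← ha, ← mul_assoc, sW_mul_sW, one_mul]

theorem gW_mem_normalizer_TG (hF : Fintype.card F = 2 ^ (2 * m + 1)) :
    gW hF ∈ Subgroup.normalizer ((TG (m := m) hF : Subgroup (Cfsg.Sz F m)) : Set (Cfsg.Sz F m)) := by
  rw [Subgroup.mem_normalizer_iff]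
  intro h
  rw [gW_inv]
  constructor
  · intro hh
    obtain ⟨t, rfl⟩ := eq_gT_of_mem_TG hF hh
    rw [gW_gT_gW]; exact gT_mem_TG hF _
  · intro hh
    obtain ⟨t, ht⟩ := eq_gT_of_mem_TG hF hh
    have e : h = gW hF * (gW hF * h * gW hF) * gW hF := by
      have hw := gW_mul_gW (m := m) hF
      calc h = (gW hF * gW hF) * h * (gW hF * gW hF) := by rw [hw]; group
        _ = _ := by group
    rw [e, ht, gW_gT_gW]; exact gT_mem_TG hF _

theorem gW_not_mem_TG (hF : Fintype.card F = 2 ^ (2 * m + 1)) : gW hF ∉ TG (m := m) hF := by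
  intro h
  obtain ⟨t, ht⟩ := eq_gT_of_mem_TG hF h
  have h1 : sW hF • pInf F = pt m (0 : F) 0 := sW_smul_inf hF
  have h2 : sW hF = sT m t := congrArg Subtype.val ht
  rw [h2, sT_smul_inf] at h1
  exact pt_ne_inf (m := m) (0 : F) 0 h1.symm

theorem card_normalizer_TG (hm : 1 ≤ m) (hF : Fintype.card F = 2 ^ (2 * m + 1)) :
    Nat.card (Subgroup.normalizer ((TG (m := m) hF : Subgroup (Cfsg.Sz F m)) : Set (Cfsg.Sz F m))) =
      2 * (2 ^ (2 * m + 1) - 1) := by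
  have hidx : ((TG (m := m) hF).subgroupOf (Subgroup.normalizer
      ((TG (m := m) hF : Subgroup (Cfsg.Sz F m)) : Set (Cfsg.Sz F m)))).index = 2 := by
    rw [Subgroup.index_eq_two_iff']
    refine ⟨⟨gW hF, gW_mem_normalizer_TG hF⟩, fun b => ?_⟩
    have hb := normalizer_TG_cases hm hF b.1 b.2
    rw [Subgroup.mem_subgroupOf, Subgroup.mem_subgroupOf]
    rcases hb with ⟨t, ht⟩ | ⟨t, ht⟩
    · refine Or.inr ⟨by rw [ht]; exact gT_mem_TG hF t, ?_⟩
      intro h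
      have h' : gW hF * (b : Cfsg.Sz F m) ∈ TG (m := m) hF := h
      rw [ht] at h'
      apply gW_not_mem_TG (m := m) hF
      have := Subgroup.mul_mem _ h' (Subgroup.inv_mem _ (gT_mem_TG hF t))
      rwa [mul_inv_cancel_right] at this
    · refine Or.inl ⟨?_, ?_⟩
      · show gW hF * (b : Cfsg.Sz F m) ∈ TG (m := m) hF
        rw [ht, ← mul_assoc, gW_mul_gW, one_mul]; exact gT_mem_TG hF t
      · intro h
        rw [ht] at h
        apply gW_not_mem_TG (m := m) hF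
        have := Subgroup.mul_mem _ h (Subgroup.inv_mem _ (gT_mem_TG hF t))
        rwa [mul_inv_cancel_right] at this
  have h1 := Subgroup.index_mul_card ((TG (m := m) hF).subgroupOf (Subgroup.normalizer
      ((TG (m := m) hF : Subgroup (Cfsg.Sz F m)) : Set (Cfsg.Sz F m))))
  rw [hidx] at h1
  have hKA : Nat.card ((TG (m := m) hF).subgroupOf (Subgroup.normalizer
      ((TG (m := m) hF : Subgroup (Cfsg.Sz F m)) : Set (Cfsg.Sz F m)))) =
      Nat.card (TG (m := m) hF) :=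
    Nat.card_congr (Subgroup.subgroupOfEquivOfLe Subgroup.le_normalizer).toEquiv
  rw [hKA, card_TG] at h1
  exact h1.symm

theorem card_XT (hm : 1 ≤ m) (hF : Fintype.card F = 2 ^ (2 * m + 1)) :
    (conjSet (TG (m := m) hF)).ncard * (2 * (2 ^ (2 * m + 1) - 1)) =
      Nat.card (Cfsg.Sz F m) * (2 ^ (2 * m + 1) - 1 - 1) := by
  have h := ti_count (TG (m := m) hF) (ti_of_cent _ (cent_TG hm hF))
  rw [card_normalizer_TG hm hF, card_TG hF, Nat.card_coe_set_eq] at h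
  exact h

theorem XQ_pow (hF : Fintype.card F = 2 ^ (2 * m + 1)) {x : Cfsg.Sz F m}
    (hx : x ∈ conjSet (QG (m := m) hF)) : x ^ 4 = 1 := by
  obtain ⟨_, g, hg⟩ := hx
  have h1 : (⟨g⁻¹ * x * g, hg⟩ : QG (m := m) hF) ^ 4 = 1 := qS_pow_four hF _
  have h2 : (g⁻¹ * x * g) ^ 4 = 1 := congrArg Subtype.val h1
  rw [inv_conj_pow] at h2
  have e : x ^ 4 = g * (g⁻¹ * x ^ 4 * g) * g⁻¹ := by group
  rw [e, h2]; group

theorem XT_pow (hF : Fintype.card F = 2 ^ (2 * m + 1)) {x : Cfsg.Sz F m}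
    (hx : x ∈ conjSet (TG (m := m) hF)) : x ^ (2 ^ (2 * m + 1) - 1) = 1 := by
  obtain ⟨_, g, hg⟩ := hx
  obtain ⟨t, ht⟩ := hg
  have h2 : (g⁻¹ * x * g) ^ (2 ^ (2 * m + 1) - 1) = 1 := by rw [← ht]; exact torus_pow hF t
  rw [inv_conj_pow] at h2
  have e : x ^ (2 ^ (2 * m + 1) - 1) = g * (g⁻¹ * x ^ (2 ^ (2 * m + 1) - 1) * g) * g⁻¹ := by
    group
  rw [e, h2]; group

theorem tor_pow (hm : 1 ≤ m) (hF : Fintype.card F = 2 ^ (2 * m + 1))
    {A : Subgroup (Cfsg.Sz F m)} (hA : IsTor m A) {x : Cfsg.Sz F m} (hx : x ∈ A) :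
    x ^ ((2 ^ (2 * m + 1)) ^ 2 + 1) = 1 := by
  obtain ⟨k, hk⟩ := tor_card_dvd hm hF hA
  have h1 : (⟨x, hx⟩ : A) ^ Nat.card A = 1 := pow_card_eq_one'
  have h2 : x ^ Nat.card A = 1 := congrArg Subtype.val h1
  rw [hk, pow_mul, h2, one_pow]

theorem trichotomy (hm : 1 ≤ m) (hF : Fintype.card F = 2 ^ (2 * m + 1)) (x : Cfsg.Sz F m)
    (hx : x ≠ 1) :
    x ∈ conjSet (QG (m := m) hF) ∨ x ∈ conjSet (TG (m := m) hF) ∨
      ∃ A : Subgroup (Cfsg.Sz F m), IsTor m A ∧ x ∈ A := by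
  have hn : orderOf x ≠ 1 := fun h => hx (orderOf_eq_one_iff.mp h)
  have ho : orderOf x ≠ 0 := (orderOf_pos x).ne'
  have hl : (orderOf x).minFac.Prime := Nat.minFac_prime hn
  haveI : Fact (orderOf x).minFac.Prime := ⟨hl⟩
  have hlo : (orderOf x).minFac ∣ orderOf x := Nat.minFac_dvd _
  have hyo : orderOf (x ^ (orderOf x / (orderOf x).minFac)) = (orderOf x).minFac :=
    orderOf_pow_orderOf_div ho hlo
  have hxy : x * x ^ (orderOf x / (orderOf x).minFac) =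
      x ^ (orderOf x / (orderOf x).minFac) * x := (Commute.pow_right (Commute.refl x) _).eq
  have hlG : (orderOf x).minFac ∣ Nat.card (Cfsg.Sz F m) := hlo.trans (orderOf_dvd_natCard x)
  rw [card_Sz hm hF] at hlG
  rcases (Nat.Prime.dvd_mul hl).mp hlG with h | h
  · rcases (Nat.Prime.dvd_mul hl).mp h with h | h
    · have hl2 : (orderOf x).minFac = 2 :=
        (Nat.prime_dvd_prime_iff_eq hl Nat.prime_two).mp
          (hl.dvd_of_dvd_pow (hl.dvd_of_dvd_pow h))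
      left
      obtain ⟨P, hP⟩ := centralizer_involution hm hF _ (hyo.trans hl2)
      have hxP : x ∈ (P : Subgroup (Cfsg.Sz F m)) :=
        hP (Subgroup.mem_centralizer_singleton_iff.mpr hxy)
      obtain ⟨g, hg⟩ := MulAction.exists_smul_eq (Cfsg.Sz F m) (QSyl hm hF) P
      exact ⟨hx, g, (conj_mem_of_smul (QSyl hm hF) P g hg x).mp hxP⟩
    · right; right
      exact ⟨_, tor_of_prime x _ hl hlo h ho⟩
  · right; left
    have hq1 : 1 ≤ 2 ^ (2 * m + 1) := Nat.one_le_two_pow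
    have hq2 : 2 ∣ 2 ^ (2 * m + 1) := dvd_pow_self 2 (by omega)
    have hl2 : (orderOf x).minFac ≠ 2 := by
      intro h2
      rw [h2] at h
      have h1 : 2 ∣ 2 ^ (2 * m + 1) - 1 + 1 := by rw [Nat.sub_add_cancel hq1]; exact hq2
      omega
    obtain ⟨g, t, ht, hgt⟩ := exists_conj_torus hm hF _ hl2 h _ hyo
    have hc2 : ((g⁻¹ * x * g : Cfsg.Sz F m) : SpecialLinearGroup (Fin 4) F) * sT m t =
        sT m t * ((g⁻¹ * x * g : Cfsg.Sz F m) : SpecialLinearGroup (Fin 4) F) := by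
      have := conj_commute g x _ hxy
      rw [hgt] at this
      exact congrArg Subtype.val this
    obtain ⟨t', ht'⟩ := centralizer_sT hm hF ht _ (g⁻¹ * x * g).2 hc2
    exact ⟨hx, g, t', Subtype.ext ht'.symm⟩

/-- the nonidentity elements of order dividing `q ^ 2 + 1` -/
def YS (F : Type*) [Field F] [Fintype F] (m : ℕ) : Set (Cfsg.Sz F m) :=
  {x | x ≠ 1 ∧ x ^ ((2 ^ (2 * m + 1)) ^ 2 + 1) = 1}

theorem card_partition (hm : 1 ≤ m) (hF : Fintype.card F = 2 ^ (2 * m + 1)) :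
    Nat.card (Cfsg.Sz F m) = 1 + (conjSet (QG (m := m) hF)).ncard +
      (conjSet (TG (m := m) hF)).ncard + (YS F m).ncard := by
  have hU : (Set.univ : Set (Cfsg.Sz F m)) =
      (({1} ∪ conjSet (QG (m := m) hF)) ∪ conjSet (TG (m := m) hF)) ∪ YS F m := by
    ext x
    simp only [Set.mem_univ, true_iff, Set.mem_union, Set.mem_singleton_iff]
    by_cases hx : x = 1
    · left; left; left; exact hx
    · rcases trichotomy hm hF x hx with h | h | ⟨A, hA, hxA⟩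
      · left; left; right; exact h
      · left; right; exact h
      · right; exact ⟨hx, tor_pow hm hF hA hxA⟩
  have hd1 : Disjoint (({1} ∪ conjSet (QG (m := m) hF)) ∪ conjSet (TG (m := m) hF)) (YS F m) := by
    rw [Set.disjoint_left]
    rintro x hx ⟨hx1, hxN⟩
    rcases hx with (hx | hx) | hx
    · exact hx1 hx
    · exact hx1 (eq_one_of_pow_coprime (XQ_pow hF hx) hxN (coprime_four_N m))
    · exact hx1 (eq_one_of_pow_coprime (XT_pow hF hx) hxN (coprime_qm1_N m))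
  have hd2 : Disjoint ({1} ∪ conjSet (QG (m := m) hF)) (conjSet (TG (m := m) hF)) := by
    rw [Set.disjoint_left]
    rintro x hx hxT
    rcases hx with hx | hx
    · exact hxT.1 hx
    · exact hxT.1 (eq_one_of_pow_coprime (XQ_pow hF hx) (XT_pow hF hxT) (coprime_four_qm1 m))
  have hd3 : Disjoint ({1} : Set (Cfsg.Sz F m)) (conjSet (QG (m := m) hF)) := by
    rw [Set.disjoint_left]
    rintro x hx hxQ
    exact hxQ.1 hx
  rw [← Set.ncard_univ, hU, Set.ncard_union_eq hd1 (Set.toFinite _) (Set.toFinite _),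
    Set.ncard_union_eq hd2 (Set.toFinite _) (Set.toFinite _),
    Set.ncard_union_eq hd3 (Set.toFinite _) (Set.toFinite _), Set.ncard_singleton]

theorem arith_Y (q g XQ XT Y : ℕ) (hq : 2 ≤ q) (hg : g = q ^ 2 * (q ^ 2 + 1) * (q - 1))
    (h1 : XQ * (q ^ 2 * (q - 1)) = g * (q ^ 2 - 1))
    (h2 : XT * (2 * (q - 1)) = g * (q - 1 - 1)) (h3 : g = 1 + XQ + XT + Y) :
    2 * Y = q ^ 3 * (q - 1) ^ 2 := by
  obtain ⟨r, rfl⟩ : ∃ r, q = r + 2 := ⟨q - 2, by omega⟩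
  have e1 : r + 2 - 1 = r + 1 := by omega
  have e2 : (r + 2) ^ 2 - 1 = (r + 1) * (r + 3) := by
    have : (r + 2) ^ 2 = (r + 1) * (r + 3) + 1 := by ring
    omega
  have e3 : r + 1 - 1 = r := by omega
  rw [e1] at hg h1 h2 ⊢
  rw [e2] at h1
  rw [e3] at h2
  subst hg
  have hXQ : XQ = ((r + 2) ^ 2 + 1) * ((r + 1) * (r + 3)) := by
    apply Nat.eq_of_mul_eq_mul_right (show 0 < (r + 2) ^ 2 * (r + 1) by positivity)
    rw [h1]; ring
  have hXT : 2 * XT = (r + 2) ^ 2 * ((r + 2) ^ 2 + 1) * r := by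
    apply Nat.eq_of_mul_eq_mul_right (show 0 < r + 1 by positivity)
    have : 2 * XT * (r + 1) = XT * (2 * (r + 1)) := by ring
    rw [this, h2]; ring
  zify at hXQ hXT h3 ⊢
  linear_combination (-2 : ℤ) * h3 - 2 * hXQ - hXT

theorem card_YS (hm : 1 ≤ m) (hF : Fintype.card F = 2 ^ (2 * m + 1)) :
    2 * (YS F m).ncard = (2 ^ (2 * m + 1)) ^ 3 * (2 ^ (2 * m + 1) - 1) ^ 2 := by
  have hq : 2 ≤ 2 ^ (2 * m + 1) := by
    calc 2 = 2 ^ 1 := by norm_num
      _ ≤ 2 ^ (2 * m + 1) := Nat.pow_le_pow_right (by norm_num) (by omega)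
  exact arith_Y _ _ _ _ _ hq (card_Sz hm hF) (card_XQ hm hF) (card_XT hm hF)
    (card_partition hm hF)

theorem conjSet_tor_subset (hm : 1 ≤ m) (hF : Fintype.card F = 2 ^ (2 * m + 1))
    {A : Subgroup (Cfsg.Sz F m)} (hA : IsTor m A) : conjSet A ⊆ YS F m := by
  rintro x ⟨hx1, g, hg⟩
  refine ⟨hx1, ?_⟩
  have h2 := tor_pow hm hF hA hg
  rw [inv_conj_pow] at h2
  have e : x ^ ((2 ^ (2 * m + 1)) ^ 2 + 1) =
      g * (g⁻¹ * x ^ ((2 ^ (2 * m + 1)) ^ 2 + 1) * g) * g⁻¹ := by group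
  rw [e, h2]; group

theorem conjSet_disjoint {G : Type*} [Group G] [Finite G] {A B : Subgroup G}
    (h : Nat.Coprime (Nat.card A) (Nat.card B)) : Disjoint (conjSet A) (conjSet B) := by
  rw [Set.disjoint_left]
  rintro x ⟨hx1, g, hg⟩ ⟨_, g', hg'⟩
  have h1 : (⟨g⁻¹ * x * g, hg⟩ : A) ^ Nat.card A = 1 := pow_card_eq_one'
  have h2 : (g⁻¹ * x * g) ^ Nat.card A = 1 := congrArg Subtype.val h1
  have h3 : (⟨g'⁻¹ * x * g', hg'⟩ : B) ^ Nat.card B = 1 := pow_card_eq_one'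
  have h4 : (g'⁻¹ * x * g') ^ Nat.card B = 1 := congrArg Subtype.val h3
  rw [inv_conj_pow] at h2 h4
  have e2 : x ^ Nat.card A = 1 := by
    have e : x ^ Nat.card A = g * (g⁻¹ * x ^ Nat.card A * g) * g⁻¹ := by group
    rw [e, h2]; group
  have e4 : x ^ Nat.card B = 1 := by
    have e : x ^ Nat.card B = g' * (g'⁻¹ * x ^ Nat.card B * g') * g'⁻¹ := by group
    rw [e, h4]; group
  exact hx1 (eq_one_of_pow_coprime e2 e4 h)

theorem mem_conjSet_of_prime (hm : 1 ≤ m) (hF : Fintype.card F = 2 ^ (2 * m + 1))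
    {A : Subgroup (Cfsg.Sz F m)} (hA : IsTor m A) (x : Cfsg.Sz F m) (hx1 : x ≠ 1)
    (l : ℕ) (hl : l.Prime) (hlo : l ∣ orderOf x) (hlN : l ∣ (2 ^ (2 * m + 1)) ^ 2 + 1)
    (hlA : l ∣ Nat.card A) : x ∈ conjSet A := by
  have ho : orderOf x ≠ 0 := (orderOf_pos x).ne'
  obtain ⟨hB, hxB⟩ := tor_of_prime x l hl hlo hlN ho
  have hlB : l ∣ Nat.card (Subgroup.centralizer ({x ^ (orderOf x / l)} : Set (Cfsg.Sz F m))) := by
    have hmem : x ^ (orderOf x / l) ∈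
        Subgroup.centralizer ({x ^ (orderOf x / l)} : Set (Cfsg.Sz F m)) :=
      Subgroup.mem_centralizer_singleton_iff.mpr rfl
    have := orderOf_dvd_natCard (⟨_, hmem⟩ :
      Subgroup.centralizer ({x ^ (orderOf x / l)} : Set (Cfsg.Sz F m)))
    rwa [Subgroup.orderOf_mk, orderOf_pow_orderOf_div ho hlo] at this
  obtain ⟨g, hg⟩ := tor_conj_of_prime hm hF hA hB l hl hlA hlB
  exact ⟨hx1, g, (hg x).mp hxB⟩

theorem tor_count (hm : 1 ≤ m) (hF : Fintype.card F = 2 ^ (2 * m + 1))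
    {A : Subgroup (Cfsg.Sz F m)} (hA : IsTor m A) :
    ∃ k : ℕ, (k = 1 ∨ k = 2 ∨ k = 4) ∧
      Nat.card (Subgroup.normalizer (A : Set (Cfsg.Sz F m))) = k * Nat.card A ∧
      (conjSet A).ncard * (k * Nat.card A) = Nat.card (Cfsg.Sz F m) * (Nat.card A - 1) := by
  obtain ⟨k, hk, hN⟩ := tor_normalizer hm hF hA
  refine ⟨k, hk, hN, ?_⟩
  have h := ti_count A (ti_of_cent _ (tor_cent hm hF hA))
  rw [hN, Nat.card_coe_set_eq] at h
  exact h

end Counts

end Cfsg.Agent.Lib.Helper2.SzL
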