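import Mathlib
import Cfsg.Prelude.Def_LieExceptional
import Cfsg.Agent.Lib.Helper2.SzT4

set_option autoImplicit false

namespace Cfsg.Agent.Lib.Helper2.SzL

open Matrix
open scoped LinearAlgebra.Projectivization Pointwise commutatorElement IsMulCommutative

section Endgame

theorem arith_five (g a k X : ℕ) (ha : 5 ≤ a) (hk : k ≤ 4) (h : X * (k * a) = g * (a - 1)) :
    g ≤ 5 * X := by
  obtain ⟨b, rfl⟩ : ∃ b, a = b + 5 := ⟨a - 5, by omega⟩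
  have e : b + 5 - 1 = b + 4 := by omega
  rw [e] at h
  by_contra hlt
  push_neg at hlt
  have h1 : X * (k * (b + 5)) ≤ X * (4 * (b + 5)) :=
    Nat.mul_le_mul_left _ (Nat.mul_le_mul_right _ hk)
  have h2 : (5 * X + 1) * (b + 4) ≤ g * (b + 4) := Nat.mul_le_mul_right _ hlt
  nlinarith [h1, h2, h]

theorem arith_five_two (g a k X : ℕ) (ha : 5 ≤ a) (hk : k ≤ 2) (h : X * (k * a) = g * (a - 1)) :
    2 * g ≤ 5 * X := by
  obtain ⟨b, rfl⟩ : ∃ b, a = b + 5 := ⟨a - 5, by omega⟩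
  have e : b + 5 - 1 = b + 4 := by omega
  rw [e] at h
  by_contra hlt
  push_neg at hlt
  have h1 : X * (k * (b + 5)) ≤ X * (2 * (b + 5)) :=
    Nat.mul_le_mul_left _ (Nat.mul_le_mul_right _ hk)
  have h2 : (5 * X + 1) * (b + 4) ≤ (2 * g) * (b + 4) := Nat.mul_le_mul_right _ hlt
  nlinarith [h1, h2, h]

theorem arith_contra (q S : ℕ) (hq : 2 ≤ q)
    (h1 : 3 * (q ^ 2 * (q ^ 2 + 1) * (q - 1)) ≤ 5 * S) (h2 : 2 * S ≤ q ^ 3 * (q - 1) ^ 2) :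
    False := by
  obtain ⟨r, rfl⟩ : ∃ r, q = r + 2 := ⟨q - 2, by omega⟩
  have e1 : r + 2 - 1 = r + 1 := by omega
  rw [e1] at h1 h2
  have h3 : 6 * ((r + 2) ^ 2 * ((r + 2) ^ 2 + 1) * (r + 1)) ≤ 5 * ((r + 2) ^ 3 * (r + 1) ^ 2) := by
    omega
  have h4 : (r + 2) ^ 2 * (r + 1) * (6 * ((r + 2) ^ 2 + 1)) ≤
      (r + 2) ^ 2 * (r + 1) * (5 * ((r + 2) * (r + 1))) := by
    calc (r + 2) ^ 2 * (r + 1) * (6 * ((r + 2) ^ 2 + 1))
        = 6 * ((r + 2) ^ 2 * ((r + 2) ^ 2 + 1) * (r + 1)) := by ring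
      _ ≤ 5 * ((r + 2) ^ 3 * (r + 1) ^ 2) := h3
      _ = (r + 2) ^ 2 * (r + 1) * (5 * ((r + 2) * (r + 1))) := by ring
  have h5 := Nat.le_of_mul_le_mul_left h4 (by positivity)
  nlinarith [h5]

theorem arith_single (q X k : ℕ) (hq : 3 ≤ q) (hk : k = 1 ∨ k = 2 ∨ k = 4)
    (h1 : X * (k * (q ^ 2 + 1)) = q ^ 2 * (q ^ 2 + 1) * (q - 1) * (q ^ 2 + 1 - 1))
    (h2 : 2 * X = q ^ 3 * (q - 1) ^ 2) : False := by
  have e : q ^ 2 + 1 - 1 = q ^ 2 := by omega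
  rw [e] at h1
  have h3 : q ^ 3 * (q - 1) * (q ^ 2 + 1) * (k * (q - 1)) =
      q ^ 3 * (q - 1) * (q ^ 2 + 1) * (2 * q) := by
    calc q ^ 3 * (q - 1) * (q ^ 2 + 1) * (k * (q - 1))
        = (q ^ 3 * (q - 1) ^ 2) * (k * (q ^ 2 + 1)) := by ring
      _ = 2 * X * (k * (q ^ 2 + 1)) := by rw [h2]
      _ = 2 * (X * (k * (q ^ 2 + 1))) := by ring
      _ = 2 * (q ^ 2 * (q ^ 2 + 1) * (q - 1) * q ^ 2) := by rw [h1]
      _ = q ^ 3 * (q - 1) * (q ^ 2 + 1) * (2 * q) := by ring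
  have hpos : 0 < q ^ 3 * (q - 1) * (q ^ 2 + 1) := by
    have : 0 < q - 1 := by omega
    positivity
  have h4 := Nat.eq_of_mul_eq_mul_left hpos h3
  rcases hk with rfl | rfl | rfl <;> omega

theorem arith_sum (q g a₁ a₂ X₁ X₂ : ℕ) (hq : 2 ≤ q) (ha₁ : 1 ≤ a₁) (ha₂ : 1 ≤ a₂)
    (hg : g = q ^ 2 * (q ^ 2 + 1) * (q - 1))
    (h1 : X₁ * (4 * a₁) = g * (a₁ - 1)) (h2 : X₂ * (4 * a₂) = g * (a₂ - 1))
    (h3 : 2 * (X₁ + X₂) = q ^ 3 * (q - 1) ^ 2) (h4 : a₁ * a₂ = q ^ 2 + 1) :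
    a₁ + a₂ = 2 * q + 2 := by
  obtain ⟨r, rfl⟩ : ∃ r, q = r + 2 := ⟨q - 2, by omega⟩
  obtain ⟨b₁, rfl⟩ : ∃ b, a₁ = b + 1 := ⟨a₁ - 1, by omega⟩
  obtain ⟨b₂, rfl⟩ : ∃ b, a₂ = b + 1 := ⟨a₂ - 1, by omega⟩
  have e1 : r + 2 - 1 = r + 1 := by omega
  rw [e1] at hg h3
  rw [Nat.add_sub_cancel] at h1 h2
  subst hg
  zify at h1 h2 h3 h4 ⊢
  have hP : ((r : ℤ) + 2) ^ 2 * (((r : ℤ) + 2) ^ 2 + 1) * ((r : ℤ) + 1) ≠ 0 := by positivity
  have key : ((r : ℤ) + 2) ^ 2 * (((r : ℤ) + 2) ^ 2 + 1) * ((r : ℤ) + 1) *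
      (2 * ((r : ℤ) + 2) + 2 - ((b₁ : ℤ) + 1 + ((b₂ : ℤ) + 1))) = 0 := by
    linear_combination (-((b₂ : ℤ) + 1)) * h1 - ((b₁ : ℤ) + 1) * h2 +
      2 * ((b₁ : ℤ) + 1) * ((b₂ : ℤ) + 1) * h3 +
      (2 * ((r : ℤ) + 2) ^ 3 * ((r : ℤ) + 1) ^ 2 -
        2 * (((r : ℤ) + 2) ^ 2 * (((r : ℤ) + 2) ^ 2 + 1) * ((r : ℤ) + 1))) * h4
  rcases mul_eq_zero.mp key with h | h
  · exact absurd h hP
  · linarith

theorem arith_roots (m a₁ a₂ : ℕ) (hm : 1 ≤ m)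
    (hs : a₁ + a₂ = 2 * 2 ^ (2 * m + 1) + 2) (hp : a₁ * a₂ = (2 ^ (2 * m + 1)) ^ 2 + 1) :
    (a₁ = 2 ^ (2 * m + 1) + 2 ^ (m + 1) + 1 ∧ a₂ = 2 ^ (2 * m + 1) - 2 ^ (m + 1) + 1) ∨
    (a₁ = 2 ^ (2 * m + 1) - 2 ^ (m + 1) + 1 ∧ a₂ = 2 ^ (2 * m + 1) + 2 ^ (m + 1) + 1) := by
  have ht : (2 ^ (m + 1)) ^ 2 = 2 * 2 ^ (2 * m + 1) := by
    rw [← pow_mul, ← pow_succ']
    congr 1
    ring
  have hle : 2 ^ (m + 1) ≤ 2 ^ (2 * m + 1) := Nat.pow_le_pow_right (by norm_num) (by omega)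
  generalize 2 ^ (2 * m + 1) = q at *
  generalize 2 ^ (m + 1) = t at *
  have key : ((a₁ : ℤ) - (q + t + 1)) * ((a₁ : ℤ) - (q - t + 1)) = 0 := by
    have hs' : (a₁ : ℤ) + a₂ = 2 * q + 2 := by exact_mod_cast hs
    have hp' : (a₁ : ℤ) * a₂ = q ^ 2 + 1 := by exact_mod_cast hp
    have ht' : (t : ℤ) ^ 2 = 2 * q := by exact_mod_cast ht
    have ha₂ : (a₂ : ℤ) = 2 * q + 2 - a₁ := by linarith
    rw [ha₂] at hp'
    linear_combination -hp' - ht'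
  rcases mul_eq_zero.mp key with h | h
  · left
    have h1 : a₁ = q + t + 1 := by
      have : (a₁ : ℤ) = q + t + 1 := by linarith
      exact_mod_cast this
    refine ⟨h1, ?_⟩
    omega
  · right
    have h1 : a₁ = q - t + 1 := by
      have : (a₁ : ℤ) = q - t + 1 := by linarith
      rw [← Nat.cast_sub hle] at this
      exact_mod_cast this
    refine ⟨h1, ?_⟩
    omega

variable {F : Type*} [Field F] [Fintype F] {m : ℕ}

theorem tor_five_le (hm : 1 ≤ m) (hF : Fintype.card F = 2 ^ (2 * m + 1))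
    {A : Subgroup (Cfsg.Sz F m)} (hA : IsTor m A) : 5 ≤ Nat.card A := by
  obtain ⟨p, hp, hpa⟩ := tor_one_lt hF hA
  have hdvd := tor_card_dvd hm hF hA
  have h0 : 0 < Nat.card A := Nat.card_pos
  have h2 : ¬ 2 ∣ Nat.card A := by
    intro h
    have := (Nat.Prime.coprime_iff_not_dvd Nat.prime_two).mp (coprime_two_N m)
    exact this (h.trans hdvd)
  have h3 : ¬ 3 ∣ Nat.card A := by
    intro h
    apply three_not_dvd m
    exact ((h.trans hdvd).mul_left _).mul_right _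
  have h1 : Nat.card A ≠ 1 := by
    intro h
    rw [h] at hpa
    exact hp.one_lt.ne' (Nat.dvd_one.mp hpa)
  generalize Nat.card A = a at *
  by_contra hlt
  push_neg at hlt
  interval_cases a <;> omega

theorem exists_tor_of_prime (hm : 1 ≤ m) (hF : Fintype.card F = 2 ^ (2 * m + 1)) (p : ℕ)
    (hp : p.Prime) (hpN : p ∣ (2 ^ (2 * m + 1)) ^ 2 + 1) :
    ∃ A : Subgroup (Cfsg.Sz F m), IsTor m A ∧ p ∣ Nat.card A := by
  haveI : Fact p.Prime := ⟨hp⟩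
  have hpG : p ∣ Nat.card (Cfsg.Sz F m) := by
    rw [card_Sz hm hF]
    exact (hpN.mul_left _).mul_right _
  obtain ⟨z, hz⟩ := exists_prime_orderOf_dvd_card' p hpG
  refine ⟨Subgroup.centralizer {z}, ⟨z, p, hp, hpN, hz, rfl⟩, ?_⟩
  have hzA : z ∈ Subgroup.centralizer ({z} : Set (Cfsg.Sz F m)) :=
    Subgroup.mem_centralizer_singleton_iff.mpr rfl
  have := orderOf_dvd_natCard (⟨z, hzA⟩ : Subgroup.centralizer ({z} : Set (Cfsg.Sz F m)))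
  rwa [Subgroup.orderOf_mk, hz] at this

theorem tor_coprime_or (hm : 1 ≤ m) (hF : Fintype.card F = 2 ^ (2 * m + 1))
    {A B : Subgroup (Cfsg.Sz F m)} (hA : IsTor m A) (hB : IsTor m B) :
    Nat.Coprime (Nat.card A) (Nat.card B) ∨ Nat.card B = Nat.card A := by
  by_cases h : Nat.Coprime (Nat.card A) (Nat.card B)
  · exact Or.inl h
  · right
    obtain ⟨l, hl, hlA, hlB⟩ := Nat.Prime.not_coprime_iff_dvd.mp h
    obtain ⟨g, hg⟩ := tor_conj_of_prime hm hF hA hB l hl hlA hlB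
    exact card_eq_of_conj g hg

theorem YS_subset_one (hm : 1 ≤ m) (hF : Fintype.card F = 2 ^ (2 * m + 1))
    {A : Subgroup (Cfsg.Sz F m)} (hA : IsTor m A)
    (hN : Nat.card A = (2 ^ (2 * m + 1)) ^ 2 + 1) : YS F m ⊆ conjSet A := by
  rintro x ⟨hx1, hxN⟩
  have hn : orderOf x ≠ 1 := fun h => hx1 (orderOf_eq_one_iff.mp h)
  have hl : (orderOf x).minFac.Prime := Nat.minFac_prime hn
  have hlo : (orderOf x).minFac ∣ orderOf x := Nat.minFac_dvd _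
  have hlN : (orderOf x).minFac ∣ (2 ^ (2 * m + 1)) ^ 2 + 1 :=
    hlo.trans (orderOf_dvd_of_pow_eq_one hxN)
  exact mem_conjSet_of_prime hm hF hA x hx1 _ hl hlo hlN (by rw [hN]; exact hlN)

theorem YS_subset_two (hm : 1 ≤ m) (hF : Fintype.card F = 2 ^ (2 * m + 1))
    {A B : Subgroup (Cfsg.Sz F m)} (hA : IsTor m A) (hB : IsTor m B)
    (hN : Nat.card A * Nat.card B = (2 ^ (2 * m + 1)) ^ 2 + 1) :
    YS F m ⊆ conjSet A ∪ conjSet B := by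
  rintro x ⟨hx1, hxN⟩
  have hn : orderOf x ≠ 1 := fun h => hx1 (orderOf_eq_one_iff.mp h)
  have hl : (orderOf x).minFac.Prime := Nat.minFac_prime hn
  have hlo : (orderOf x).minFac ∣ orderOf x := Nat.minFac_dvd _
  have hlN : (orderOf x).minFac ∣ (2 ^ (2 * m + 1)) ^ 2 + 1 :=
    hlo.trans (orderOf_dvd_of_pow_eq_one hxN)
  have hlN' := hlN
  rw [← hN] at hlN'
  rcases (Nat.Prime.dvd_mul hl).mp hlN' with h | h
  · exact Or.inl (mem_conjSet_of_prime hm hF hA x hx1 _ hl hlo hlN h)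
  · exact Or.inr (mem_conjSet_of_prime hm hF hB x hx1 _ hl hlo hlN h)

theorem tori_exist (hm : 1 ≤ m) (hF : Fintype.card F = 2 ^ (2 * m + 1)) :
    ∃ A₁ A₂ : Subgroup (Cfsg.Sz F m), IsTor m A₁ ∧ IsTor m A₂ ∧
      Nat.card A₁ = 2 ^ (2 * m + 1) + 2 ^ (m + 1) + 1 ∧
      Nat.card A₂ = 2 ^ (2 * m + 1) - 2 ^ (m + 1) + 1 ∧
      Nat.card (Subgroup.normalizer (A₁ : Set (Cfsg.Sz F m))) = 4 * Nat.card A₁ ∧
      Nat.card (Subgroup.normalizer (A₂ : Set (Cfsg.Sz F m))) = 4 * Nat.card A₂ := by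
  have hq8 : 2 ^ 3 ≤ 2 ^ (2 * m + 1) := Nat.pow_le_pow_right (by norm_num) (by omega)
  have hq : 2 ≤ 2 ^ (2 * m + 1) := by omega
  have hq3 : 3 ≤ 2 ^ (2 * m + 1) := by omega
  have hgc := card_Sz (F := F) hm hF
  have hY := card_YS (F := F) hm hF
  have hNne : (2 ^ (2 * m + 1)) ^ 2 + 1 ≠ 1 := by
    have : 0 < (2 ^ (2 * m + 1)) ^ 2 := by positivity
    omega
  -- first torus
  obtain ⟨A₁, hA₁, -⟩ := exists_tor_of_prime (F := F) hm hF _ (Nat.minFac_prime hNne)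
    (Nat.minFac_dvd _)
  have hd₁ := tor_card_dvd hm hF hA₁
  have h5₁ := tor_five_le hm hF hA₁
  obtain ⟨k₁, hk₁, hN₁, hX₁⟩ := tor_count hm hF hA₁
  have hsub₁ := conjSet_tor_subset hm hF hA₁
  have hne₁ : Nat.card A₁ ≠ (2 ^ (2 * m + 1)) ^ 2 + 1 := by
    intro hN
    have hle : (YS F m).ncard ≤ (conjSet A₁).ncard :=
      Set.ncard_le_ncard (YS_subset_one hm hF hA₁ hN) (Set.toFinite _)
    have hle' : (conjSet A₁).ncard ≤ (YS F m).ncard := Set.ncard_le_ncard hsub₁ (Set.toFinite _)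
    have heq : (conjSet A₁).ncard = (YS F m).ncard := le_antisymm hle' hle
    rw [hN, hgc] at hX₁
    rw [← heq] at hY
    exact arith_single _ _ _ hq3 hk₁ hX₁ hY
  -- second torus
  have hquot₁ : ((2 ^ (2 * m + 1)) ^ 2 + 1) / Nat.card A₁ ≠ 1 := by
    intro h
    have := Nat.div_mul_cancel hd₁
    rw [h, one_mul] at this
    exact hne₁ this
  obtain ⟨p₂, hp₂, hp₂d⟩ := Nat.exists_prime_and_dvd hquot₁
  have hp₂N : p₂ ∣ (2 ^ (2 * m + 1)) ^ 2 + 1 := hp₂d.trans (Nat.div_dvd_of_dvd hd₁)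
  have hp₂A₁ : ¬ p₂ ∣ Nat.card A₁ := by
    intro h
    have h1 := Nat.dvd_gcd h hp₂d
    rw [tor_hall hm hF hA₁] at h1
    exact hp₂.one_lt.ne' (Nat.dvd_one.mp h1)
  obtain ⟨A₂, hA₂, hp₂A₂⟩ := exists_tor_of_prime (F := F) hm hF p₂ hp₂ hp₂N
  have hd₂ := tor_card_dvd hm hF hA₂
  have h5₂ := tor_five_le hm hF hA₂
  obtain ⟨k₂, hk₂, hN₂, hX₂⟩ := tor_count hm hF hA₂
  have hsub₂ := conjSet_tor_subset hm hF hA₂
  have hcop : Nat.Coprime (Nat.card A₁) (Nat.card A₂) := by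
    rcases tor_coprime_or hm hF hA₁ hA₂ with h | h
    · exact h
    · exact absurd (h ▸ hp₂A₂) hp₂A₁
  have hdisj := conjSet_disjoint hcop
  have hle12 : (conjSet A₁).ncard + (conjSet A₂).ncard ≤ (YS F m).ncard := by
    rw [← Set.ncard_union_eq hdisj (Set.toFinite _) (Set.toFinite _)]
    exact Set.ncard_le_ncard (Set.union_subset hsub₁ hsub₂) (Set.toFinite _)
  have hg1 := arith_five _ _ _ _ h5₁ (by omega) hX₁
  have hg2 := arith_five _ _ _ _ h5₂ (by omega) hX₂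
  -- normalizer indices are 4
  have hk₁4 : k₁ = 4 := by
    by_contra hne
    have hk : k₁ ≤ 2 := by omega
    have hg1' := arith_five_two _ _ _ _ h5₁ hk hX₁
    rw [hgc] at hg1' hg2
    exact arith_contra (2 ^ (2 * m + 1)) ((conjSet A₁).ncard + (conjSet A₂).ncard) hq
      (by omega) (by omega)
  have hk₂4 : k₂ = 4 := by
    by_contra hne
    have hk : k₂ ≤ 2 := by omega
    have hg2' := arith_five_two _ _ _ _ h5₂ hk hX₂
    rw [hgc] at hg2' hg1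
    exact arith_contra (2 ^ (2 * m + 1)) ((conjSet A₁).ncard + (conjSet A₂).ncard) hq
      (by omega) (by omega)
  subst hk₁4 hk₂4
  -- the product of the orders
  have hmul : Nat.card A₁ * Nat.card A₂ ∣ (2 ^ (2 * m + 1)) ^ 2 + 1 :=
    Nat.Coprime.mul_dvd_of_dvd_of_dvd hcop hd₁ hd₂
  have hprod : Nat.card A₁ * Nat.card A₂ = (2 ^ (2 * m + 1)) ^ 2 + 1 := by
    by_contra hne
    obtain ⟨c, hc⟩ := hmul
    have hc1 : c ≠ 1 := by
      rintro rfl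
      rw [mul_one] at hc
      exact hne hc.symm
    obtain ⟨p₃, hp₃, hp₃c⟩ := Nat.exists_prime_and_dvd hc1
    have hp₃N : p₃ ∣ (2 ^ (2 * m + 1)) ^ 2 + 1 := by rw [hc]; exact hp₃c.mul_left _
    have hq₁ : ((2 ^ (2 * m + 1)) ^ 2 + 1) / Nat.card A₁ = Nat.card A₂ * c := by
      rw [hc, mul_assoc, Nat.mul_div_cancel_left _ (by omega)]
    have hq₂ : ((2 ^ (2 * m + 1)) ^ 2 + 1) / Nat.card A₂ = Nat.card A₁ * c := by
      rw [hc, mul_comm (Nat.card A₁) (Nat.card A₂), mul_assoc,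
        Nat.mul_div_cancel_left _ (by omega)]
    have hp₃A₁ : ¬ p₃ ∣ Nat.card A₁ := by
      intro h
      have h1 := Nat.dvd_gcd h (show p₃ ∣ ((2 ^ (2 * m + 1)) ^ 2 + 1) / Nat.card A₁ by
        rw [hq₁]; exact hp₃c.mul_left _)
      rw [tor_hall hm hF hA₁] at h1
      exact hp₃.one_lt.ne' (Nat.dvd_one.mp h1)
    have hp₃A₂ : ¬ p₃ ∣ Nat.card A₂ := by
      intro h
      have h1 := Nat.dvd_gcd h (show p₃ ∣ ((2 ^ (2 * m + 1)) ^ 2 + 1) / Nat.card A₂ by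
        rw [hq₂]; exact hp₃c.mul_left _)
      rw [tor_hall hm hF hA₂] at h1
      exact hp₃.one_lt.ne' (Nat.dvd_one.mp h1)
    obtain ⟨A₃, hA₃, hp₃A₃⟩ := exists_tor_of_prime (F := F) hm hF p₃ hp₃ hp₃N
    have h5₃ := tor_five_le hm hF hA₃
    obtain ⟨k₃, hk₃, hN₃, hX₃⟩ := tor_count hm hF hA₃
    have hsub₃ := conjSet_tor_subset hm hF hA₃
    have hcop13 : Nat.Coprime (Nat.card A₁) (Nat.card A₃) := by
      rcases tor_coprime_or hm hF hA₁ hA₃ with h | h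
      · exact h
      · exact absurd (h ▸ hp₃A₃) hp₃A₁
    have hcop23 : Nat.Coprime (Nat.card A₂) (Nat.card A₃) := by
      rcases tor_coprime_or hm hF hA₂ hA₃ with h | h
      · exact h
      · exact absurd (h ▸ hp₃A₃) hp₃A₂
    have hdisj3 : Disjoint (conjSet A₁ ∪ conjSet A₂) (conjSet A₃) :=
      Set.disjoint_union_left.mpr ⟨conjSet_disjoint hcop13, conjSet_disjoint hcop23⟩
    have hle123 : (conjSet A₁).ncard + (conjSet A₂).ncard + (conjSet A₃).ncard ≤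
        (YS F m).ncard := by
      rw [← Set.ncard_union_eq hdisj (Set.toFinite _) (Set.toFinite _),
        ← Set.ncard_union_eq hdisj3 (Set.toFinite _) (Set.toFinite _)]
      exact Set.ncard_le_ncard (Set.union_subset (Set.union_subset hsub₁ hsub₂) hsub₃)
        (Set.toFinite _)
    have hg3 := arith_five _ _ _ _ h5₃ (by omega) hX₃
    rw [hgc] at hg1 hg2 hg3
    exact arith_contra (2 ^ (2 * m + 1))
      ((conjSet A₁).ncard + (conjSet A₂).ncard + (conjSet A₃).ncard) hq (by omega) (by omega)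
  -- exact count
  have hYeq : (YS F m).ncard = (conjSet A₁).ncard + (conjSet A₂).ncard := by
    apply le_antisymm _ hle12
    rw [← Set.ncard_union_eq hdisj (Set.toFinite _) (Set.toFinite _)]
    exact Set.ncard_le_ncard (YS_subset_two hm hF hA₁ hA₂ hprod) (Set.toFinite _)
  rw [hYeq] at hY
  have hsum := arith_sum (2 ^ (2 * m + 1)) _ _ _ _ _ hq (by omega) (by omega) hgc hX₁ hX₂ hY hprod
  rcases arith_roots m _ _ hm hsum hprod with ⟨h1, h2⟩ | ⟨h1, h2⟩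
  · exact ⟨A₁, A₂, hA₁, hA₂, h1, h2, hN₁, hN₂⟩
  · exact ⟨A₂, A₁, hA₂, hA₁, h2, h1, hN₂, hN₁⟩

end Endgame

end Cfsg.Agent.Lib.Helper2.SzL
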