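import Mathlib
import Cfsg.Prelude.Def_LieExceptional
import Cfsg.Agent.Lib.Helper2.SzT5

set_option autoImplicit false

namespace Cfsg.Agent.Lib.Helper2.SzL

open Matrix
open scoped LinearAlgebra.Projectivization Pointwise commutatorElement IsMulCommutative

section Partition

theorem conj_le_eq {G : Type*} [Group G] [Finite G] (U V : Subgroup G) (g : G)
    (h : ∀ u ∈ U, g⁻¹ * u * g ∈ V) (hc : Nat.card V ≤ Nat.card U) :
    ∀ s ∈ V, g * s * g⁻¹ ∈ U := by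
  have hle : U.map (MulAut.conj g⁻¹).toMonoidHom ≤ V := by
    rintro _ ⟨u, hu, rfl⟩
    show MulAut.conj g⁻¹ u ∈ V
    rw [MulAut.conj_apply, inv_inv]
    exact h u hu
  have hcard : Nat.card (U.map (MulAut.conj g⁻¹).toMonoidHom) = Nat.card U :=
    Subgroup.card_map_of_injective (MulAut.conj g⁻¹).injective
  have heq : U.map (MulAut.conj g⁻¹).toMonoidHom = V :=
    Subgroup.eq_of_le_of_card_ge hle (by rw [hcard]; exact hc)
  intro s hs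
  rw [← heq] at hs
  obtain ⟨u, hu, rfl⟩ := hs
  have e : g * (MulAut.conj g⁻¹).toMonoidHom u * g⁻¹ = u := by
    show g * MulAut.conj g⁻¹ u * g⁻¹ = u
    rw [MulAut.conj_apply, inv_inv]; group
  rw [e]; exact hu

theorem prod_orders (m : ℕ) (hm : 1 ≤ m) :
    (2 ^ (2 * m + 1) + 2 ^ (m + 1) + 1) * (2 ^ (2 * m + 1) - 2 ^ (m + 1) + 1) =
      (2 ^ (2 * m + 1)) ^ 2 + 1 := by
  have ht : (2 ^ (m + 1)) ^ 2 = 2 * 2 ^ (2 * m + 1) := by
    rw [← pow_mul, ← pow_succ']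
    congr 1
    ring
  have hle : 2 ^ (m + 1) ≤ 2 ^ (2 * m + 1) := Nat.pow_le_pow_right (by norm_num) (by omega)
  generalize 2 ^ (2 * m + 1) = q at *
  generalize 2 ^ (m + 1) = t at *
  obtain ⟨d, rfl⟩ : ∃ d, q = t + d := ⟨q - t, by omega⟩
  rw [Nat.add_sub_cancel_left]
  nlinarith [ht]

variable {F : Type*} [Field F] [Fintype F] {m : ℕ}

theorem tor_card_cases (hm : 1 ≤ m) (hF : Fintype.card F = 2 ^ (2 * m + 1))
    {A : Subgroup (Cfsg.Sz F m)} (hA : IsTor m A) :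
    Nat.card A = 2 ^ (2 * m + 1) + 2 ^ (m + 1) + 1 ∨
      Nat.card A = 2 ^ (2 * m + 1) - 2 ^ (m + 1) + 1 := by
  obtain ⟨A₁, A₂, hA₁, hA₂, h1, h2, -, -⟩ := tori_exist (F := F) hm hF
  obtain ⟨l, hl, hlA⟩ := tor_one_lt hF hA
  have hlN : l ∣ (2 ^ (2 * m + 1)) ^ 2 + 1 := hlA.trans (tor_card_dvd hm hF hA)
  rw [← prod_orders m hm, ← h1, ← h2] at hlN
  rcases (Nat.Prime.dvd_mul hl).mp hlN with h | h
  · left
    obtain ⟨g, hg⟩ := tor_conj_of_prime hm hF hA₁ hA l hl h hlA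
    rw [card_eq_of_conj g hg, h1]
  · right
    obtain ⟨g, hg⟩ := tor_conj_of_prime hm hF hA₂ hA l hl h hlA
    rw [card_eq_of_conj g hg, h2]

theorem sylow_unique (hm : 1 ≤ m) (hF : Fintype.card F = 2 ^ (2 * m + 1))
    (P P' : Sylow 2 (Cfsg.Sz F m)) (x : Cfsg.Sz F m) (hx1 : x ≠ 1)
    (hx : x ∈ (P : Subgroup (Cfsg.Sz F m))) (hx' : x ∈ (P' : Subgroup (Cfsg.Sz F m))) :
    P = P' := by
  haveI : Fact (Nat.Prime 2) := ⟨Nat.prime_two⟩
  obtain ⟨g, hg⟩ := MulAction.exists_smul_eq (Cfsg.Sz F m) (QSyl hm hF) P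
  obtain ⟨g', hg'⟩ := MulAction.exists_smul_eq (Cfsg.Sz F m) (QSyl hm hF) P'
  have h1 : g⁻¹ * x * g ∈ QG (m := m) hF := (conj_mem_of_smul (QSyl hm hF) P g hg x).mp hx
  have h2 : g'⁻¹ * x * g' ∈ QG (m := m) hF := (conj_mem_of_smul (QSyl hm hF) P' g' hg' x).mp hx'
  have h3 : (g⁻¹ * g')⁻¹ * (g⁻¹ * x * g) * (g⁻¹ * g') ∈ QG (m := m) hF := by
    have e : (g⁻¹ * g')⁻¹ * (g⁻¹ * x * g) * (g⁻¹ * g') = g'⁻¹ * x * g' := by group
    rw [e]; exact h2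
  have h4 := ti_QG hm hF (g⁻¹ * g') (g⁻¹ * x * g) h1 (conj_ne_one hx1) h3
  have h5 : (g⁻¹ * g') • QSyl hm hF = QSyl hm hF := Sylow.smul_eq_iff_mem_normalizer.mpr h4
  rw [← hg, ← hg']
  have e : g' = g * (g⁻¹ * g') := by group
  rw [e, mul_smul, h5]

theorem cyclic_is_tor (hm : 1 ≤ m) (hF : Fintype.card F = 2 ^ (2 * m + 1))
    (U : Subgroup (Cfsg.Sz F m)) (hc : IsCyclic U)
    (hU : Nat.card U = 2 ^ (2 * m + 1) + 2 ^ (m + 1) + 1 ∨
      Nat.card U = 2 ^ (2 * m + 1) - 2 ^ (m + 1) + 1) : IsTor m U := by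
  obtain ⟨A₁, A₂, hA₁, hA₂, h1, h2, -, -⟩ := tori_exist (F := F) hm hF
  have key : ∀ A : Subgroup (Cfsg.Sz F m), IsTor m A → Nat.card U = Nat.card A → IsTor m U := by
    intro A hA hUA
    obtain ⟨l, hl, hlA⟩ := tor_one_lt hF hA
    have hlU : l ∣ Nat.card U := by rw [hUA]; exact hlA
    have hlN : l ∣ (2 ^ (2 * m + 1)) ^ 2 + 1 := hlA.trans (tor_card_dvd hm hF hA)
    obtain ⟨y, hyU, hyo, hy1⟩ := exists_mem_orderOf U l hl hlU
    have hB : IsTor m (Subgroup.centralizer ({y} : Set (Cfsg.Sz F m))) :=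
      ⟨y, l, hl, hlN, hyo, rfl⟩
    have hle : U ≤ Subgroup.centralizer ({y} : Set (Cfsg.Sz F m)) := by
      intro u hu
      rw [Subgroup.mem_centralizer_singleton_iff]
      exact comm_of_cyclic U hu hyU
    have hlB : l ∣ Nat.card (Subgroup.centralizer ({y} : Set (Cfsg.Sz F m))) :=
      hlU.trans (Subgroup.card_dvd_of_le hle)
    obtain ⟨g, hg⟩ := tor_conj_of_prime hm hF hA hB l hl hlA hlB
    have hcard : Nat.card (Subgroup.centralizer ({y} : Set (Cfsg.Sz F m))) = Nat.card U := by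
      rw [card_eq_of_conj g hg, hUA]
    have heq : U = Subgroup.centralizer ({y} : Set (Cfsg.Sz F m)) :=
      Subgroup.eq_of_le_of_card_ge hle hcard.le
    rw [heq]; exact hB
  rcases hU with h | h
  · exact key A₁ hA₁ (h.trans h1.symm)
  · exact key A₂ hA₂ (h.trans h2.symm)

theorem cyclic_qm1_cent (hm : 1 ≤ m) (hF : Fintype.card F = 2 ^ (2 * m + 1))
    (U : Subgroup (Cfsg.Sz F m)) (hc : IsCyclic U) (hU : Nat.card U = 2 ^ (2 * m + 1) - 1)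
    (x : Cfsg.Sz F m) (hx : x ∈ U) (hx1 : x ≠ 1) : Subgroup.centralizer {x} = U := by
  have hq8 : 2 ^ 3 ≤ 2 ^ (2 * m + 1) := Nat.pow_le_pow_right (by norm_num) (by omega)
  have hq1 : 1 ≤ 2 ^ (2 * m + 1) := Nat.one_le_two_pow
  have hq2 : 2 ∣ 2 ^ (2 * m + 1) := dvd_pow_self 2 (by omega)
  have hne : 2 ^ (2 * m + 1) - 1 ≠ 1 := by omega
  have hl : (2 ^ (2 * m + 1) - 1).minFac.Prime := Nat.minFac_prime hne
  have hld : (2 ^ (2 * m + 1) - 1).minFac ∣ 2 ^ (2 * m + 1) - 1 := Nat.minFac_dvd _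
  haveI : Fact (2 ^ (2 * m + 1) - 1).minFac.Prime := ⟨hl⟩
  have hl2 : (2 ^ (2 * m + 1) - 1).minFac ≠ 2 := by
    intro h2
    rw [h2] at hld
    omega
  obtain ⟨y, hyU, hyo, hy1⟩ := exists_mem_orderOf U _ hl (by rw [hU]; exact hld)
  obtain ⟨g, t, ht, hgt⟩ := exists_conj_torus hm hF _ hl2 hld y hyo
  have hgt' : g⁻¹ * y * g ∈ TG (m := m) hF := ⟨t, hgt.symm⟩
  have hy1' : g⁻¹ * y * g ≠ 1 := conj_ne_one hy1
  have hsub : ∀ u ∈ U, g⁻¹ * u * g ∈ TG (m := m) hF := by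
    intro u hu
    rw [← cent_TG hm hF _ hgt' hy1', Subgroup.mem_centralizer_singleton_iff]
    exact conj_commute g u y (comm_of_cyclic U hu hyU)
  have hback := conj_le_eq U (TG (m := m) hF) g hsub (by rw [card_TG, hU])
  have hx' : g⁻¹ * x * g ∈ TG (m := m) hF := hsub x hx
  apply le_antisymm
  · intro c hcx
    rw [Subgroup.mem_centralizer_singleton_iff] at hcx
    have h1 : g⁻¹ * c * g ∈ TG (m := m) hF := by
      rw [← cent_TG hm hF _ hx' (conj_ne_one hx1), Subgroup.mem_centralizer_singleton_iff]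
      exact conj_commute g c x hcx
    have h2 := hback _ h1
    have e : g * (g⁻¹ * c * g) * g⁻¹ = c := by group
    rwa [e] at h2
  · intro c hcU
    rw [Subgroup.mem_centralizer_singleton_iff]
    exact comm_of_cyclic U hcU hx

theorem odd_orders (m : ℕ) (hm : 1 ≤ m) :
    ¬ 2 ∣ 2 ^ (2 * m + 1) - 1 ∧ ¬ 2 ∣ 2 ^ (2 * m + 1) + 2 ^ (m + 1) + 1 ∧
      ¬ 2 ∣ 2 ^ (2 * m + 1) - 2 ^ (m + 1) + 1 := by
  have hq2 : 2 ∣ 2 ^ (2 * m + 1) := dvd_pow_self 2 (by omega)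
  have ht2 : 2 ∣ 2 ^ (m + 1) := dvd_pow_self 2 (by omega)
  have hle : 2 ^ (m + 1) ≤ 2 ^ (2 * m + 1) := Nat.pow_le_pow_right (by norm_num) (by omega)
  have hq1 : 1 ≤ 2 ^ (2 * m + 1) := Nat.one_le_two_pow
  refine ⟨?_, ?_, ?_⟩ <;> omega

/-- the members of the partition -/
def IsComp (m : ℕ) (U : Subgroup (Cfsg.Sz F m)) : Prop :=
  (∃ P : Sylow 2 (Cfsg.Sz F m), U = (P : Subgroup (Cfsg.Sz F m))) ∨
    (IsCyclic U ∧ Nat.card U ∈ ({2 ^ (2 * m + 1) - 1, 2 ^ (2 * m + 1) + 2 ^ (m + 1) + 1,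
      2 ^ (2 * m + 1) - 2 ^ (m + 1) + 1} : Set ℕ))

theorem comp_cyclic_cent (hm : 1 ≤ m) (hF : Fintype.card F = 2 ^ (2 * m + 1))
    (U : Subgroup (Cfsg.Sz F m)) (hc : IsCyclic U)
    (hU : Nat.card U ∈ ({2 ^ (2 * m + 1) - 1, 2 ^ (2 * m + 1) + 2 ^ (m + 1) + 1,
      2 ^ (2 * m + 1) - 2 ^ (m + 1) + 1} : Set ℕ))
    (x : Cfsg.Sz F m) (hx : x ∈ U) (hx1 : x ≠ 1) : Subgroup.centralizer {x} = U := by
  rcases hU with h | h | h
  · exact cyclic_qm1_cent hm hF U hc h x hx hx1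
  · exact tor_cent hm hF (cyclic_is_tor hm hF U hc (Or.inl h)) x hx hx1
  · rw [Set.mem_singleton_iff] at h
    exact tor_cent hm hF (cyclic_is_tor hm hF U hc (Or.inr h)) x hx hx1

theorem comp_odd (hm : 1 ≤ m) (U : Subgroup (Cfsg.Sz F m))
    (hU : Nat.card U ∈ ({2 ^ (2 * m + 1) - 1, 2 ^ (2 * m + 1) + 2 ^ (m + 1) + 1,
      2 ^ (2 * m + 1) - 2 ^ (m + 1) + 1} : Set ℕ)) : ¬ 2 ∣ Nat.card U := by
  obtain ⟨h1, h2, h3⟩ := odd_orders m hm
  rcases hU with h | h | h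
  · rw [h]; exact h1
  · rw [h]; exact h2
  · rw [Set.mem_singleton_iff] at h
    rw [h]; exact h3

theorem not_sylow_of_odd (P : Sylow 2 (Cfsg.Sz F m)) (U : Subgroup (Cfsg.Sz F m))
    (hodd : ¬ 2 ∣ Nat.card U) (x : Cfsg.Sz F m) (hx1 : x ≠ 1)
    (hxP : x ∈ (P : Subgroup (Cfsg.Sz F m))) (hxU : x ∈ U) : False := by
  obtain ⟨k, hk⟩ := P.isPGroup' ⟨x, hxP⟩
  have hk' : x ^ 2 ^ k = 1 := congrArg Subtype.val hk
  have h1 : (⟨x, hxU⟩ : U) ^ Nat.card U = 1 := pow_card_eq_one'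
  have h2 : x ^ Nat.card U = 1 := congrArg Subtype.val h1
  have hcop : Nat.Coprime (2 ^ k) (Nat.card U) :=
    Nat.Coprime.pow_left _ ((Nat.Prime.coprime_iff_not_dvd Nat.prime_two).mpr hodd)
  exact hx1 (eq_one_of_pow_coprime hk' h2 hcop)

theorem comp_unique (hm : 1 ≤ m) (hF : Fintype.card F = 2 ^ (2 * m + 1))
    (U U' : Subgroup (Cfsg.Sz F m)) (hU : IsComp m U) (hU' : IsComp m U')
    (x : Cfsg.Sz F m) (hx1 : x ≠ 1) (hx : x ∈ U) (hx' : x ∈ U') : U = U' := by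
  rcases hU with ⟨P, rfl⟩ | ⟨hc, hcard⟩
  · rcases hU' with ⟨P', rfl⟩ | ⟨hc', hcard'⟩
    · rw [sylow_unique hm hF P P' x hx1 hx hx']
    · exact (not_sylow_of_odd P U' (comp_odd hm U' hcard') x hx1 hx hx').elim
  · rcases hU' with ⟨P', rfl⟩ | ⟨hc', hcard'⟩
    · exact (not_sylow_of_odd P' U (comp_odd hm U hcard) x hx1 hx' hx).elim
    · rw [← comp_cyclic_cent hm hF U hc hcard x hx hx1,
        comp_cyclic_cent hm hF U' hc' hcard' x hx' hx1]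

theorem comp_exists (hm : 1 ≤ m) (hF : Fintype.card F = 2 ^ (2 * m + 1))
    (x : Cfsg.Sz F m) (hx1 : x ≠ 1) : ∃ U : Subgroup (Cfsg.Sz F m), IsComp m U ∧ x ∈ U := by
  haveI : Fact (Nat.Prime 2) := ⟨Nat.prime_two⟩
  rcases trichotomy hm hF x hx1 with ⟨_, g, hg⟩ | ⟨_, g, hg⟩ | ⟨A, hA, hxA⟩
  · refine ⟨((g • QSyl hm hF : Sylow 2 (Cfsg.Sz F m)) : Subgroup (Cfsg.Sz F m)),
      Or.inl ⟨_, rfl⟩, ?_⟩
    exact (conj_mem_of_smul (QSyl hm hF) (g • QSyl hm hF) g rfl x).mpr hg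
  · refine ⟨(TG (m := m) hF).map (MulAut.conj g).toMonoidHom, Or.inr ⟨?_, ?_⟩, ?_⟩
    · haveI : IsCyclic (TG (m := m) hF) :=
        isCyclic_of_surjective (torusHom (m := m) hF).rangeRestrict
          (torusHom (m := m) hF).rangeRestrict_surjective
      exact isCyclic_of_surjective
        ((MulAut.conj g).toMonoidHom.subgroupMap (TG (m := m) hF))
        (MonoidHom.subgroupMap_surjective _ _)
    · rw [Subgroup.card_map_of_injective (MulAut.conj g).injective, card_TG]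
      exact Or.inl rfl
    · refine ⟨g⁻¹ * x * g, hg, ?_⟩
      show MulAut.conj g (g⁻¹ * x * g) = x
      rw [MulAut.conj_apply]; group
  · refine ⟨A, Or.inr ⟨tor_cyclic hF hA, ?_⟩, hxA⟩
    rcases tor_card_cases hm hF hA with h | h
    · exact Or.inr (Or.inl h)
    · exact Or.inr (Or.inr h)

theorem partition (hm : 1 ≤ m) (hF : Fintype.card F = 2 ^ (2 * m + 1))
    (g : Cfsg.Sz F m) (hg : g ≠ 1) :
    ∃! U : Subgroup (Cfsg.Sz F m), IsComp m U ∧ g ∈ U := by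
  obtain ⟨U, hU, hgU⟩ := comp_exists hm hF g hg
  refine ⟨U, ⟨hU, hgU⟩, ?_⟩
  rintro U' ⟨hU', hgU'⟩
  exact comp_unique hm hF U' U hU' hU g hg hgU' hgU

end Partition

end Cfsg.Agent.Lib.Helper2.SzL
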