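import Mathlib
import Cfsg.Prelude.Def_LieExceptional
import Cfsg.Agent.Lib.Helper2.SzT6

set_option autoImplicit false

namespace Cfsg.Agent.Lib.Helper2.SzL

open Matrix
open scoped LinearAlgebra.Projectivization Pointwise commutatorElement IsMulCommutative

section Covers

/-- existence of a nilpotent minimal cover -/
def HasNilMinCover (G : Type*) [Group G] : Prop :=
  ∃ 𝓐 : Finset (Subgroup G), ((∀ A ∈ 𝓐, A ≠ ⊤) ∧ (∀ g : G, ∃ A ∈ 𝓐, g ∈ A)) ∧
    (∀ 𝓑 : Finset (Subgroup G), (∀ A ∈ 𝓑, A ≠ ⊤) ∧ (∀ g : G, ∃ A ∈ 𝓑, g ∈ A) →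
      𝓐.card ≤ 𝓑.card) ∧ (∀ A ∈ 𝓐, Group.IsNilpotent ↥A)

theorem hasNilMinCover_of_equiv {G H : Type*} [Group G] [Group H] (e : G ≃* H)
    (h : HasNilMinCover G) : HasNilMinCover H := by
  classical
  obtain ⟨𝓐, ⟨hprop, hcov⟩, hmin, hnil⟩ := h
  refine ⟨𝓐.image (Subgroup.map e.toMonoidHom), ⟨?_, ?_⟩, ?_, ?_⟩
  · intro A' hA'
    obtain ⟨A, hA, rfl⟩ := Finset.mem_image.mp hA'
    intro htop
    apply hprop A hA
    have h1 := Subgroup.comap_map_eq_self_of_injective (f := e.toMonoidHom) e.injective A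
    rw [← h1, htop, Subgroup.comap_top]
  · intro g
    obtain ⟨A, hA, hg⟩ := hcov (e.symm g)
    exact ⟨A.map e.toMonoidHom, Finset.mem_image_of_mem _ hA, ⟨e.symm g, hg, e.apply_symm_apply g⟩⟩
  · rintro 𝓑' ⟨hp', hc'⟩
    have h1 := hmin (𝓑'.image (Subgroup.comap e.toMonoidHom)) ⟨?_, ?_⟩
    · exact (Finset.card_image_le).trans (h1.trans Finset.card_image_le)
    · intro B hB
      obtain ⟨B', hB', rfl⟩ := Finset.mem_image.mp hB
      intro htop
      apply hp' B' hB'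
      rw [eq_top_iff]
      intro x _
      have h2 : e.symm x ∈ Subgroup.comap e.toMonoidHom B' := by rw [htop]; trivial
      rw [Subgroup.mem_comap] at h2
      have h3 : e.toMonoidHom (e.symm x) = x := e.apply_symm_apply x
      rwa [h3] at h2
    · intro g
      obtain ⟨B', hB', hg⟩ := hc' (e g)
      exact ⟨B'.comap e.toMonoidHom, Finset.mem_image_of_mem _ hB', hg⟩
  · intro A' hA'
    obtain ⟨A, hA, rfl⟩ := Finset.mem_image.mp hA'
    haveI := hnil A hA
    exact Group.nilpotent_of_mulEquiv (A.equivMapOfInjective e.toMonoidHom e.injective)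

variable {F : Type*} [Field F] [Fintype F] {m : ℕ}

theorem cent_le_comp (hm : 1 ≤ m) (hF : Fintype.card F = 2 ^ (2 * m + 1))
    (U : Subgroup (Cfsg.Sz F m)) (hU : IsComp m U) (x : Cfsg.Sz F m) (hx1 : x ≠ 1)
    (hx : x ∈ U) : Subgroup.centralizer {x} ≤ U := by
  rcases hU with ⟨P, rfl⟩ | ⟨hc, hcard⟩
  · obtain ⟨k, hk⟩ := P.isPGroup' ⟨x, hx⟩
    have hk' : x ^ 2 ^ k = 1 := congrArg Subtype.val hk
    obtain ⟨j, -, hj⟩ := (Nat.dvd_prime_pow Nat.prime_two).mp (orderOf_dvd_of_pow_eq_one hk')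
    have hj0 : j ≠ 0 := by
      rintro rfl
      rw [pow_zero] at hj
      exact hx1 (orderOf_eq_one_iff.mp hj)
    have h2 : 2 ∣ orderOf x := by rw [hj]; exact dvd_pow_self 2 hj0
    have ho : orderOf x ≠ 0 := (orderOf_pos x).ne'
    have hy : orderOf (x ^ (orderOf x / 2)) = 2 := orderOf_pow_orderOf_div ho h2
    obtain ⟨P', hP'⟩ := centralizer_involution hm hF _ hy
    have hxP' : x ∈ (P' : Subgroup (Cfsg.Sz F m)) := by
      apply hP'
      rw [Subgroup.mem_centralizer_singleton_iff]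
      exact (Commute.pow_right (Commute.refl x) _).eq
    have hPP := sylow_unique hm hF P P' x hx1 hx hxP'
    intro c hcx
    rw [hPP]
    apply hP'
    rw [Subgroup.mem_centralizer_singleton_iff] at hcx ⊢
    exact (Commute.pow_right (show Commute c x from hcx) _).eq
  · rw [comp_cyclic_cent hm hF U hc hcard x hx hx1]

theorem exists_le_comp (hm : 1 ≤ m) (hF : Fintype.card F = 2 ^ (2 * m + 1))
    (A : Subgroup (Cfsg.Sz F m)) (hnil : Group.IsNilpotent A) (c : Cfsg.Sz F m) (hc1 : c ≠ 1)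
    (hcA : c ∈ A) (U : Subgroup (Cfsg.Sz F m)) (hU : IsComp m U) (hcU : c ∈ U) : A ≤ U := by
  haveI : Nontrivial A := ⟨⟨⟨c, hcA⟩, 1, fun h => hc1 (congrArg Subtype.val h)⟩⟩
  have hz := Group.IsNilpotent.center_ne_bot (G := A)
  obtain ⟨⟨z, hzc⟩, hz1⟩ := (Subgroup.ne_bot_iff_exists_ne_one).mp hz
  have hz1' : (z : Cfsg.Sz F m) ≠ 1 := by
    intro h
    apply hz1
    apply Subtype.ext
    apply Subtype.ext
    exact h
  obtain ⟨Uz, hUz, hzUz⟩ := comp_exists hm hF (z : Cfsg.Sz F m) hz1'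
  have hle : A ≤ Subgroup.centralizer ({(z : Cfsg.Sz F m)} : Set (Cfsg.Sz F m)) := by
    intro a ha
    rw [Subgroup.mem_centralizer_singleton_iff]
    have := Subgroup.mem_center_iff.mp hzc ⟨a, ha⟩
    exact congrArg Subtype.val this
  have h2 := cent_le_comp hm hF Uz hUz z hz1' hzUz
  have hcUz : c ∈ Uz := h2 (hle hcA)
  have heq := comp_unique hm hF Uz U hUz hU c hc1 hcUz hcU
  rw [← heq]
  exact hle.trans h2

theorem comp_nontrivial (hm : 1 ≤ m) (hF : Fintype.card F = 2 ^ (2 * m + 1))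
    (U : Subgroup (Cfsg.Sz F m)) (hU : IsComp m U) : ∃ c ∈ U, c ≠ 1 := by
  have hq8 : 2 ^ 3 ≤ 2 ^ (2 * m + 1) := Nat.pow_le_pow_right (by norm_num) (by omega)
  have hlt : 2 ^ (m + 1) < 2 ^ (2 * m + 1) := Nat.pow_lt_pow_right (by norm_num) (by omega)
  have ht0 : 0 < 2 ^ (m + 1) := by positivity
  have hcard : 1 < Nat.card U := by
    rcases hU with ⟨P, rfl⟩ | ⟨hc, h | h | h⟩
    · have h2 : Nat.card (P : Subgroup (Cfsg.Sz F m)) = (2 ^ (2 * m + 1)) ^ 2 :=
        (sylow_two_structure hm hF P).1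
      rw [h2]
      nlinarith
    · rw [h]
      generalize 2 ^ (2 * m + 1) = q at hq8 hlt ⊢
      omega
    · rw [h]
      generalize 2 ^ (2 * m + 1) = q at hq8 hlt ⊢
      generalize 2 ^ (m + 1) = t at hlt ht0 ⊢
      omega
    · rw [Set.mem_singleton_iff] at h
      rw [h]
      generalize 2 ^ (2 * m + 1) = q at hq8 hlt ⊢
      generalize 2 ^ (m + 1) = t at hlt ht0 ⊢
      omega
  obtain ⟨⟨c, hc⟩, hc1⟩ := Subgroup.ne_bot_iff_exists_ne_one.mp
    ((Subgroup.one_lt_card_iff_ne_bot U).mp hcard)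
  exact ⟨c, hc, fun h => hc1 (Subtype.ext h)⟩

theorem tor_isComp (hm : 1 ≤ m) (hF : Fintype.card F = 2 ^ (2 * m + 1))
    {A : Subgroup (Cfsg.Sz F m)} (hA : IsTor m A) : IsComp m A := by
  refine Or.inr ⟨tor_cyclic hF hA, ?_⟩
  rcases tor_card_cases hm hF hA with h | h
  · exact Or.inr (Or.inl h)
  · exact Or.inr (Or.inr h)

theorem TG_isComp (hF : Fintype.card F = 2 ^ (2 * m + 1)) : IsComp m (TG (m := m) hF) := by
  refine Or.inr ⟨?_, Or.inl (card_TG hF)⟩
  exact isCyclic_of_surjective (torusHom (m := m) hF).rangeRestrict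
    (torusHom (m := m) hF).rangeRestrict_surjective

theorem no_nil_min_cover (hm : 1 ≤ m) (hF : Fintype.card F = 2 ^ (2 * m + 1)) :
    ¬ HasNilMinCover (Cfsg.Sz F m) := by
  classical
  rintro ⟨𝓐, ⟨hprop, hcov⟩, hmin, hnil⟩
  haveI : Fintype (Subgroup (Cfsg.Sz F m)) := Fintype.ofFinite _
  haveI : Fact (Nat.Prime 2) := ⟨Nat.prime_two⟩
  haveI : Fintype (Sylow 2 (Cfsg.Sz F m)) := Fintype.ofFinite _
  have hq8 : 2 ^ 3 ≤ 2 ^ (2 * m + 1) := Nat.pow_le_pow_right (by norm_num) (by omega)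
  have hq1 : 1 ≤ 2 ^ (2 * m + 1) := Nat.one_le_two_pow
  have hq2 : 2 ∣ 2 ^ (2 * m + 1) := dvd_pow_self 2 (by omega)
  have hgc := card_Sz (F := F) hm hF
  let S₁ : Finset (Subgroup (Cfsg.Sz F m)) :=
    Finset.univ.image (fun P : Sylow 2 (Cfsg.Sz F m) => (P : Subgroup (Cfsg.Sz F m)))
  let S₂ : Finset (Subgroup (Cfsg.Sz F m)) := Finset.univ.filter (fun A => IsTor m A)
  let S₃ : Finset (Subgroup (Cfsg.Sz F m)) := {TG (m := m) hF}
  have hS₁ : ∀ U ∈ S₁, ∃ P : Sylow 2 (Cfsg.Sz F m), U = (P : Subgroup (Cfsg.Sz F m)) := by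
    intro U hU
    obtain ⟨P, -, rfl⟩ := Finset.mem_image.mp hU
    exact ⟨P, rfl⟩
  have hS₂ : ∀ U ∈ S₂, IsTor m U := fun U hU => (Finset.mem_filter.mp hU).2
  have hS₃ : ∀ U ∈ S₃, U = TG (m := m) hF := fun U hU => Finset.mem_singleton.mp hU
  have hcardS : ∀ P : Sylow 2 (Cfsg.Sz F m),
      Nat.card (P : Subgroup (Cfsg.Sz F m)) = (2 ^ (2 * m + 1)) ^ 2 :=
    fun P => (sylow_two_structure hm hF P).1
  have hodd := odd_orders m hm
  have hNodd : ¬ 2 ∣ (2 ^ (2 * m + 1)) ^ 2 + 1 :=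
    (Nat.Prime.coprime_iff_not_dvd Nat.prime_two).mp (coprime_two_N m)
  have hq2' : 2 ∣ (2 ^ (2 * m + 1)) ^ 2 := dvd_pow hq2 (by norm_num)
  have hd12 : Disjoint S₁ S₂ := by
    rw [Finset.disjoint_left]
    intro U hU1 hU2
    obtain ⟨P, rfl⟩ := hS₁ U hU1
    have h1 := tor_card_dvd hm hF (hS₂ _ hU2)
    rw [hcardS P] at h1
    exact hNodd (hq2'.trans h1)
  have hd3 : Disjoint (S₁ ∪ S₂) S₃ := by
    rw [Finset.disjoint_left]
    intro U hU hU3
    have hU3' := hS₃ U hU3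
    subst hU3'
    rcases Finset.mem_union.mp hU with hU1 | hU2
    · obtain ⟨P, hP⟩ := hS₁ _ hU1
      have h1 := hcardS P
      rw [← hP, card_TG] at h1
      apply hodd.1
      rw [h1]; exact hq2'
    · have h1 := tor_card_dvd hm hF (hS₂ _ hU2)
      rw [card_TG] at h1
      have h2 := Nat.dvd_gcd (dvd_refl _) h1
      rw [coprime_qm1_N m] at h2
      have := Nat.dvd_one.mp h2
      omega
  have hC : ∀ U ∈ S₁ ∪ S₂ ∪ S₃, IsComp m U := by
    intro U hU
    rcases Finset.mem_union.mp hU with hU | hU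
    · rcases Finset.mem_union.mp hU with hU | hU
      · exact Or.inl (hS₁ U hU)
      · exact tor_isComp hm hF (hS₂ U hU)
    · rw [hS₃ U hU]; exact TG_isComp hF
  have hf : ∀ U : Subgroup (Cfsg.Sz F m), IsComp m U →
      ∃ A, A ∈ 𝓐 ∧ A ≤ U ∧ ∃ c ∈ A, c ≠ 1 := by
    intro U hU
    obtain ⟨c, hcU, hc1⟩ := comp_nontrivial hm hF U hU
    obtain ⟨A, hA, hcA⟩ := hcov c
    exact ⟨A, hA, exists_le_comp hm hF A (hnil A hA) c hc1 hcA U hU hcU, c, hcA, hc1⟩
  choose! f hf1 hf2 hf3 using hf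
  have hinj : Set.InjOn f (↑(S₁ ∪ S₂ ∪ S₃) : Set (Subgroup (Cfsg.Sz F m))) := by
    intro U hU U' hU' h
    have hU := hC U (Finset.mem_coe.mp hU)
    have hU' := hC U' (Finset.mem_coe.mp hU')
    obtain ⟨c, hc, hc1⟩ := hf3 U hU
    exact comp_unique hm hF U U' hU hU' c hc1 (hf2 U hU hc) (hf2 U' hU' (h ▸ hc))
  have hcard1 : (S₁ ∪ S₂ ∪ S₃).card ≤ 𝓐.card :=
    Finset.card_le_card_of_injOn f (fun U hU => hf1 U (hC U (Finset.mem_coe.mp hU))) hinj
  have hC_card : (S₁ ∪ S₂ ∪ S₃).card = S₁.card + S₂.card + 1 := by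
    rw [Finset.card_union_of_disjoint hd3, Finset.card_union_of_disjoint hd12]
    rfl
  have h𝓑 : (∀ A ∈ S₁.image (fun U : Subgroup (Cfsg.Sz F m) => Subgroup.normalizer (U : Set (Cfsg.Sz F m))) ∪ S₂, A ≠ ⊤) ∧
      ∀ g : Cfsg.Sz F m, ∃ A ∈ S₁.image (fun U : Subgroup (Cfsg.Sz F m) => Subgroup.normalizer (U : Set (Cfsg.Sz F m))) ∪ S₂,
        g ∈ A := by
    constructor
    · intro A hA
      rcases Finset.mem_union.mp hA with hA | hA
      · obtain ⟨U, hU, rfl⟩ := Finset.mem_image.mp hA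
        obtain ⟨P, rfl⟩ := hS₁ U hU
        intro htop
        haveI := isSimple (F := F) hm hF
        have hn : (P : Subgroup (Cfsg.Sz F m)).Normal := Subgroup.normalizer_eq_top_iff.mp htop
        have h1 := hcardS P
        rcases hn.eq_bot_or_eq_top with h | h
        · rw [h, Subgroup.card_bot] at h1
          nlinarith
        · rw [h, Subgroup.card_top, hgc] at h1
          have h3 : 1 < ((2 ^ (2 * m + 1)) ^ 2 + 1) * (2 ^ (2 * m + 1) - 1) := by
            have : 1 ≤ 2 ^ (2 * m + 1) - 1 := by omega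
            nlinarith
          have h4 : 0 < (2 ^ (2 * m + 1)) ^ 2 := by positivity
          nlinarith
      · intro htop
        have h1 := tor_card_dvd hm hF (hS₂ A hA)
        rw [htop, Subgroup.card_top, hgc] at h1
        have h2 := Nat.le_of_dvd (by positivity) h1
        have h3 : 2 ≤ (2 ^ (2 * m + 1)) ^ 2 * (2 ^ (2 * m + 1) - 1) := by
          have : 1 ≤ 2 ^ (2 * m + 1) - 1 := by omega
          nlinarith
        nlinarith
    · intro g
      by_cases hg1 : g = 1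
      · refine ⟨Subgroup.normalizer ((QSyl hm hF : Subgroup (Cfsg.Sz F m)) : Set (Cfsg.Sz F m)),
          Finset.mem_union_left _ (Finset.mem_image_of_mem _
            (Finset.mem_image_of_mem _ (Finset.mem_univ _))), ?_⟩
        rw [hg1]; exact Subgroup.one_mem _
      · rcases trichotomy hm hF g hg1 with ⟨_, x, hx⟩ | ⟨_, x, hx⟩ | ⟨A, hA, hgA⟩
        · refine ⟨Subgroup.normalizer (((x • QSyl hm hF : Sylow 2 (Cfsg.Sz F m)) :
            Subgroup (Cfsg.Sz F m)) : Set (Cfsg.Sz F m)),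
            Finset.mem_union_left _ (Finset.mem_image_of_mem _
              (Finset.mem_image_of_mem _ (Finset.mem_univ _))), ?_⟩
          apply Subgroup.le_normalizer
          exact (conj_mem_of_smul (QSyl hm hF) (x • QSyl hm hF) x rfl g).mpr hx
        · refine ⟨Subgroup.normalizer (((x • QSyl hm hF : Sylow 2 (Cfsg.Sz F m)) :
            Subgroup (Cfsg.Sz F m)) : Set (Cfsg.Sz F m)),
            Finset.mem_union_left _ (Finset.mem_image_of_mem _
              (Finset.mem_image_of_mem _ (Finset.mem_univ _))), ?_⟩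
          apply Sylow.smul_eq_iff_mem_normalizer.mp
          obtain ⟨t, ht⟩ := eq_gT_of_mem_TG hF hx
          have h1 : x⁻¹ * g * x ∈ Subgroup.normalizer
              ((QG (m := m) hF : Subgroup (Cfsg.Sz F m)) : Set (Cfsg.Sz F m)) := by
            rw [normalizer_QG hm hF, ht]; exact gT_mem_BInf hF t
          have h2 : (x⁻¹ * g * x) • QSyl hm hF = QSyl hm hF :=
            Sylow.smul_eq_iff_mem_normalizer.mpr h1
          have e : g * x = x * (x⁻¹ * g * x) := by group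
          rw [← mul_smul, e, mul_smul, h2]
        · exact ⟨A, Finset.mem_union_right _ (Finset.mem_filter.mpr ⟨Finset.mem_univ _, hA⟩), hgA⟩
  have hcard2 := hmin _ h𝓑
  have hcard3 : (S₁.image (fun U : Subgroup (Cfsg.Sz F m) => Subgroup.normalizer (U : Set (Cfsg.Sz F m))) ∪ S₂).card ≤
      S₁.card + S₂.card :=
    (Finset.card_union_le _ _).trans (Nat.add_le_add_right Finset.card_image_le _)
  omega

theorem lie_no_nil_min_cover (hm : 1 ≤ m) (hF : Fintype.card F = 2 ^ (2 * m + 1)) :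
    ¬ HasNilMinCover ↥(Cfsg.Lie.Sz F (2 ^ (m + 1))) := fun h =>
  no_nil_min_cover hm hF (hasNilMinCover_of_equiv (lieSzEquiv hm hF) h)

end Covers

end Cfsg.Agent.Lib.Helper2.SzL
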